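import Cfsg.Agent.H12.BPSpec
import Cfsg.Agent.H61.HoltB2
import Cfsg.Agent.H29.HoltStr2
import Cfsg.Agent.H82.HoltFinal
import Cfsg.Agent.H2.MinNormal
import Cfsg.Agent.S0700
import Cfsg.Agent.S3784

/-! A normal `2`-subgroup of a point stabiliser that is transitive on the other points. -/

set_option autoImplicit false
set_option linter.unusedSectionVars false

namespace H9.BpHE

open Cfsg Subgroup H98 Equiv
open H1.Gold (cen cen1 nor Two BData)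

universe u

theorem inner_of_bdata {K : Type*} [Group K] {T Z D : Subgroup K} (h : BData T Z D) (α : MulAut K)
    (α2 : ∀ k, α (α k) = k) (hT : ∀ t ∈ T, α t ∈ T)
    (hD : ∀ d ∈ D, ∃ t ∈ T, α (t⁻¹ * d) = t⁻¹ * d) : ∃ t ∈ T, α = MulAut.conj t := by
  have ZT : Z ≤ T := fun z hz => ((h.mem_Z z).1 hz).1
  have hZ : ∀ z ∈ Z, α z ∈ Z := fun z hz =>
    (h.mem_Z _).2 ⟨hT z (ZT hz), by rw [← map_pow, ((h.mem_Z z).1 hz).2, map_one]⟩
  have nZ : ∀ g ∈ nor T, ∀ z ∈ Z, g * z * g⁻¹ ∈ Z := fun g hg z hz =>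
    (h.mem_Z _).2 ⟨conj_mem_of_mem_normalizer hg (ZT hz), by
      rw [conj_pow, ((h.mem_Z z).1 hz).2, mul_one, mul_inv_cancel]⟩
  have nD : ∀ d ∈ D, ∀ t ∈ T, t⁻¹ * d ∈ nor T := fun d hd t ht =>
    h.norm ▸ mul_mem (mem_sup_left (inv_mem ht)) (mem_sup_right hd)
  have ⟨z, hz, z1, zf⟩ : ∃ z ∈ Z, z ≠ 1 ∧ α z = z := by
    have h4 := h.four
    obtain ⟨⟨z, hz⟩, z1⟩ := (ne_bot_iff_exists_ne_one (H := Z)).1 fun e => by
      rw [e, card_bot] at h4; omega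
    have z1' : z ≠ 1 := fun e => z1 (Subtype.ext e)
    by_cases e : α z = z
    · exact ⟨z, hz, z1', e⟩
    refine ⟨z * α z, mul_mem hz (hZ z hz), fun k => e ?_, ?_⟩
    · rw [eq_inv_of_mul_eq_one_right k]
      exact inv_eq_of_mul_eq_one_right (by rw [← pow_two, ((h.mem_Z z).1 hz).2])
    · rw [map_mul, α2, h.central (ZT hz) _ (hZ z hz)]
  have fZ : ∀ z' ∈ Z, α z' = z' := fun z' hz' => by
    by_cases e : z' = 1
    · rw [e, map_one]
    obtain ⟨d, hd, e1⟩ := h.trans z hz z' hz' z1 e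
    obtain ⟨t, ht, e2⟩ := hD d hd
    have e3 : t⁻¹ * d * z * (t⁻¹ * d)⁻¹ = z' := by
      rw [show t⁻¹ * d * z * (t⁻¹ * d)⁻¹ = t⁻¹ * (d * z * d⁻¹ * t) by group, e1, h.central ht _ hz',
        inv_mul_cancel_left]
    rw [← e3, map_mul, map_mul α _ z, map_inv, e2, zf]
  let X : Subgroup K :=
    { carrier := {t | t ∈ T ∧ α t * t⁻¹ ∈ Z}
      one_mem' := ⟨one_mem _, by simp⟩
      mul_mem' := fun {a b} ha hb => ⟨mul_mem ha.1 hb.1, by
        rw [map_mul, show α a * α b * (a * b)⁻¹ = α a * a⁻¹ * (a * (α b * b⁻¹) * a⁻¹) by group]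
        exact mul_mem ha.2 (nZ a (le_normalizer ha.1) _ hb.2)⟩
      inv_mem' := fun {a} ha => ⟨inv_mem ha.1, by
        rw [map_inv, show (α a)⁻¹ * a⁻¹⁻¹ = a⁻¹ * (α a * a⁻¹)⁻¹ * a⁻¹⁻¹ by group]
        exact nZ _ (le_normalizer (inv_mem ha.1)) _ (inv_mem ha.2)⟩ }
  have ZX : Z ≤ X := fun z hz => ⟨ZT hz, by rw [fZ z hz, mul_inv_cancel]; exact one_mem _⟩
  have XT : X ≤ T := fun t ht => ht.1
  have TX : T ≤ nor X := le_normalizer_of_commutator_le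
    (((commutator_mono XT le_rfl).trans h.comm).trans ZX) le_rfl
  have key : ∀ g ∈ nor T, α g = g → ∀ y ∈ X, g * y * g⁻¹ ∈ X := fun g hg e y hy =>
    ⟨conj_mem_of_mem_normalizer hg hy.1, by
      rw [map_mul, map_mul, map_inv, e,
        show g * α y * g⁻¹ * (g * y * g⁻¹)⁻¹ = g * (α y * y⁻¹) * g⁻¹ by group]
      exact nZ g hg _ hy.2⟩
  have DX : D ≤ nor X := fun d hd => by
    obtain ⟨t, ht, e⟩ := hD d hd
    rw [← mul_inv_cancel_left t d]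
    refine mul_mem (TX ht) (mem_normalizer_iff.2 fun y => ⟨key _ (nD d hd t ht) e y, fun hy => ?_⟩)
    have := key _ (inv_mem (nD d hd t ht)) (by rw [map_inv, e]) _ hy
    rwa [show (t⁻¹ * d)⁻¹ * (t⁻¹ * d * y * (t⁻¹ * d)⁻¹) * (t⁻¹ * d)⁻¹⁻¹ = y by group] at this
  refine h.aut α ⟨1, MulEquiv.ext α2⟩ (fun t ht => ?_) fZ
  rcases h.irr X ZX XT DX with e | e
  · refine e.le ⟨mul_mem (hT t ht) (inv_mem ht), ?_⟩
    rw [map_mul, map_inv, α2, show t * (α t)⁻¹ * (α t * t⁻¹)⁻¹ = ((α t * t⁻¹) ^ 2)⁻¹ by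
      rw [pow_two]; group]
    exact inv_mem (h.sq _ (mul_mem (hT t ht) (inv_mem ht)))
  · exact (e.ge ht).2

variable {Ω : Type u} [Finite Ω] {L Q H : Subgroup (Perm Ω)} {x y a b : Ω} {s g : Perm Ω}

theorem ex_inv {K : Type*} [Group K] {g : K} (h : Two g) (g1 : g ≠ 1) :
    ∃ k : ℕ, orderOf (g ^ 2 ^ k) = 2 := by
  obtain ⟨k, hk⟩ := h
  induction k with
  | zero => exact absurd (by simpa using hk) g1
  | succ k ih =>
    by_cases e : g ^ 2 ^ k = 1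
    · exact ih e
    · exact ⟨k, orderOf_eq_prime (by rw [← pow_mul, ← pow_succ, hk]) e⟩

theorem two_fix (h : Two g) (e : (g ^ 3) a = a) : g a = a := by
  obtain ⟨k, hk⟩ := h
  exact mem_of_pow_mem_of_coprime (K := MulAction.stabilizer (Perm Ω) a) (n := 3) e
    (Nat.Coprime.coprime_dvd_left (orderOf_dvd_of_pow_eq_one hk)
      (Nat.Coprime.pow_left k (by norm_num)))

theorem eq_one_of_pb (h : H61.HB.PB H) (hs : s ∈ nor H) (s2 : s * s = 1) (sx : s x = x) (sy : s y = y)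
    (yx : y ≠ x) (c : ∀ d ∈ H, d x = x → Two (d * s * d⁻¹ * s⁻¹)) : s = 1 := by
  have := h.simple
  obtain ⟨T, Z, D, B⟩ := H86.G75.kb H h.nonab ⟨_, h.se x⟩
  have hT : IsSyl 2 (T.map H.subtype) H := by
    have := B.syl.map_of_injective H.subtype_injective
    rwa [map_subtype_top] at this
  obtain ⟨a, S⟩ := h.syl hT
  wlog e : a = x generalizing s x y
  · obtain ⟨g, hg, rfl⟩ := h.tr x a
    have hg' : g ∈ nor H := le_normalizer hg
    refine conj_eq_one_iff.1 (this (s := g * s * g⁻¹) (x := g x) (y := g y)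
      (mul_mem (mul_mem hg' hs) (inv_mem hg')) (by rw [conj_mul, s2, mul_one, mul_inv_cancel])
      (by simp [sx]) (by simp [sy]) (g.injective.ne yx) (fun d hd e1 => ?_) rfl)
    obtain ⟨k, hk⟩ := c (g⁻¹ * d * g) (mul_mem (mul_mem (inv_mem hg) hd) hg) (by simp [e1])
    exact ⟨k, by
      rw [show d * (g * s * g⁻¹) * d⁻¹ * (g * s * g⁻¹)⁻¹ =
        g * (g⁻¹ * d * g * s * (g⁻¹ * d * g)⁻¹ * s⁻¹) * g⁻¹ by group, conj_pow, hk]
      group⟩
  subst e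
  have mT : ∀ t : H, (t : Perm Ω) ∈ T.map H.subtype ↔ t ∈ T := fun t =>
    mem_map_iff_mem H.subtype_injective
  have si : s⁻¹ = s := inv_eq_of_mul_eq_one_right s2
  let α : MulAut H := H.normalizerMonoidHom ⟨s, hs⟩
  have hα : ∀ k : H, (α k : Perm Ω) = s * k * s⁻¹ := fun _ => rfl
  obtain ⟨t, ht, e⟩ := inner_of_bdata B α
    (fun k => Subtype.ext (by rw [hα, hα, ← mul_assoc, ← mul_assoc, s2, si, mul_assoc, s2]; group))
    (fun t ht => (mT _).1 (S.mem _ (α t).2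
      ((isPGroup_iff_forall.1 hT.isPGroup t ((mT t).2 ht)).imp fun k hk => by
        rw [hα, conj_pow, hk, mul_one, mul_inv_cancel])
      (by simp [hα, si, sx, S.fix t ((mT t).2 ht)])))
    fun d hd => by
      have d1 : (d : Perm Ω) a = a := by
        have h4 := B.four
        obtain ⟨⟨z, hz⟩, z1⟩ := (ne_bot_iff_exists_ne_one (H := Z)).1 fun e => by
          rw [e, card_bot] at h4; omega
        have hz' := ((B.mem_Z z).1 hz).1
        by_contra k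
        refine z1 (Subtype.ext (Subtype.ext (S.free z ((mT z).2 hz') _ k ?_)))
        have k1 := S.fix _ ((mT _).2 (conj_mem_of_mem_normalizer' (B.norm ▸ mem_sup_right hd) hz'))
        exact Perm.inv_eq_iff_eq.1 k1
      obtain ⟨t, ht, e⟩ := S.tr y ((d : Perm Ω) y) yx
        (fun k => yx ((d : Perm Ω).injective (k.trans d1.symm)))
      obtain ⟨t, ht', rfl⟩ := ht
      refine ⟨t, ht', Subtype.ext ?_⟩
      have t1 : (t : Perm Ω) a = a := S.fix _ ((mT t).2 ht')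
      have k1 : ((t⁻¹ * d : H) : Perm Ω) a = a := Perm.inv_eq_iff_eq.2 (d1.trans t1.symm)
      have k2 : ((t⁻¹ * d : H) : Perm Ω) y = y := Perm.inv_eq_iff_eq.2 e.symm
      generalize t⁻¹ * d = d' at k1 k2
      have k3 : (d' : Perm Ω)⁻¹ a = a := Perm.inv_eq_iff_eq.2 k1.symm
      have k4 : (d' : Perm Ω)⁻¹ y = y := Perm.inv_eq_iff_eq.2 k2.symm
      have k5 := S.free _ (S.mem _ (by
        rw [mul_assoc, mul_assoc, ← mul_assoc s]
        exact mul_mem d'.2 (conj_mem_of_mem_normalizer hs (inv_mem d'.2))) (c d' d'.2 k1)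
        (by simp only [si, Perm.mul_apply, sx, k1, k3])) y yx
        (by simp only [si, Perm.mul_apply, sy, k2, k4])
      rw [hα]
      calc s * d' * s⁻¹ = (d' * s * (d' : Perm Ω)⁻¹ * s⁻¹)⁻¹ * d' * (s * s⁻¹) * (s * s⁻¹)⁻¹ := by
            group
        _ = _ := by rw [k5]; group
  have e1 : (t : Perm Ω)⁻¹ * s = 1 := h.cent fun k hk => by
    have e2 : s * k * s⁻¹ = t * k * (t : Perm Ω)⁻¹ :=
      congrArg (fun β : MulAut H => ((β ⟨k, hk⟩ : H) : Perm Ω)) e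
    calc (t : Perm Ω)⁻¹ * s * k = (t : Perm Ω)⁻¹ * (s * k * s⁻¹) * s := by group
      _ = _ := by rw [e2]; group
  rw [← inv_mul_eq_one.1 e1] at sy ⊢
  exact S.free _ ((mT t).2 ht) y yx sy

/-- The hypothesis, with an involution `s` of `Q` fixing a second point. -/
structure Hy (L Q H : Subgroup (Perm Ω)) (x y : Ω) (s : Perm Ω) : Prop where
  two : IsPGroup 2 Q
  le : Q ≤ L
  fix : ∀ u ∈ Q, u x = x
  nrm : ∀ g ∈ L, g x = x → ∀ u ∈ Q, g * u * g⁻¹ ∈ Q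
  tr : ∀ a b, a ≠ x → b ≠ x → ∃ u ∈ Q, u a = b
  mem : s ∈ Q
  ne : s ≠ 1
  sq : s * s = 1
  yx : y ≠ x
  sy : s y = y
  HL : H ≤ L
  nH : L ≤ nor H
  trH : ∀ a, ∃ n ∈ H, n x = a

namespace Hy

variable (h : Hy L Q H x y s)
include h

theorem exw : ∃ w, s w ≠ w ∧ w ≠ x ∧ w ≠ y := by
  obtain ⟨w, hw⟩ : ∃ w, s w ≠ w := by
    by_contra e
    exact h.ne (Equiv.ext fun w => by_contra fun k => e ⟨w, k⟩)
  exact ⟨w, hw, fun e => hw (e ▸ h.fix s h.mem), fun e => hw (e ▸ h.sy)⟩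

theorem trH' (a b : Ω) : ∃ n ∈ H, n a = b := by
  obtain ⟨n, hn, rfl⟩ := h.trH a
  obtain ⟨m, hm, rfl⟩ := h.trH b
  exact ⟨m * n⁻¹, mul_mem hm (inv_mem hn), by simp⟩

theorem uniq {z : Perm Ω} (z1 : z ≠ 1) (c : ∀ u ∈ Q, u * z = z * u) : ∃! a, z a = a := by
  have e : z x = x := by
    by_contra e
    have key : ∀ b, b ≠ x → b = z x := fun b hb => by
      obtain ⟨u, hu, rfl⟩ := h.tr _ b e hb
      rw [← Perm.mul_apply, c u hu, Perm.mul_apply, h.fix u hu]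
    obtain ⟨w, -, h1, h2⟩ := h.exw
    exact h2 ((key w h1).trans (key y h.yx).symm)
  refine ⟨x, e, fun a ha => by_contra fun k => z1 (Equiv.ext fun b => ?_)⟩
  by_cases hb : b = x
  · rw [hb, e, Perm.one_apply]
  · obtain ⟨u, hu, rfl⟩ := h.tr a b k hb
    rw [← Perm.mul_apply, ← c u hu, Perm.mul_apply, ha, Perm.one_apply]

theorem not_simple (hs : IsSimpleGroup H) (hn : ¬ IsMulCommutative H) : False := by
  obtain ⟨S, hS, hQ⟩ := exists_isSyl_le h.two h.le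
  have hT := hS.inf_of_le_normalizer h.HL (hS.le.trans h.nH)
  have h1 : S ⊓ H ≠ ⊥ := fun e => hn ⟨⟨IsSimpleGroup.comm_iff_isSolvable.2
    (H42.odd_order (Nat.odd_iff.2 (Nat.two_dvd_ne_zero.1 (hT.eq_bot_iff.1 e))))⟩⟩
  obtain ⟨⟨z₀, hz₀⟩, z1⟩ := ne_bot_iff_exists_ne_one.1 (inf_centralizer_ne_bot hT.isPGroup hS.isPGroup
    (le_normalizer_inf le_normalizer (hS.le.trans h.nH)) h1)
  obtain ⟨k, hk⟩ := ex_inv (isPGroup_iff_forall.1 hT.isPGroup z₀ hz₀.1)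
    fun e => z1 (Subtype.ext e)
  have hz := pow_mem hz₀ (2 ^ k)
  generalize z₀ ^ 2 ^ k = z at hk hz
  have z2 : z * z = 1 := by rw [← pow_two, ← hk, pow_orderOf_eq_one]
  have z3 : z ≠ 1 := fun e => by rw [e, orderOf_one] at hk; omega
  have Z : H29.Holt.HZ Ω (⟨z, hz.1.2⟩ : H) := ⟨fun e => z3 (congrArg Subtype.val e), Subtype.ext z2,
    ⟨_, hT.subgroupOf_top, hz.1, fun g hg => Subtype.ext (hz.2 g hg.1)⟩,
    h.uniq z3 fun u hu => hz.2 u (hQ hu)⟩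
  have : MulAction.IsPretransitive H Ω := ⟨fun a b => let ⟨g, hg, e⟩ := h.trH' a b; ⟨⟨g, hg⟩, e⟩⟩
  have : Nontrivial Ω := ⟨⟨y, x, h.yx⟩⟩
  rcases H29.Holt.ih_of (H82.HT.holtThm _) H Ω _ ⊤ (Nat.lt_succ_self _) Z inferInstance
    topEquiv.isSimpleGroup
    (fun c => hn ⟨⟨fun a b => congrArg Subtype.val (c.1.1 ⟨a, mem_top a⟩ ⟨b, mem_top b⟩)⟩⟩)
    (top_sup_eq _) with k | k
  · exact h.ne (eq_one_of_pb ⟨hs, hn, h.trH', ⟨y, x, h.yx⟩, fun r hr r1 r2 =>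
      k ⟨r, hr⟩ (fun e => r1 (congrArg Subtype.val e)) (Subtype.ext r2), z, hz.1.2, z3, z2⟩
      (h.nH (h.le h.mem)) h.sq (h.fix s h.mem) h.sy h.yx fun d hd e =>
      isPGroup_iff_forall.1 h.two _ (mul_mem (h.nrm d (h.HL hd) e s h.mem) (inv_mem h.mem)))
  · obtain ⟨w, w1, w2, w3⟩ := h.exw
    have w4 : s w ≠ y := fun e => w3 (s.injective (e.trans h.sy.symm))
    have w5 : s w ≠ x := fun e => w2 (s.injective (e.trans (h.fix s h.mem).symm))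
    have w6 : s (s w) = w := by rw [← Perm.mul_apply, h.sq, Perm.one_apply]
    obtain ⟨⟨c, hc⟩, c1, c2, c3, c4⟩ := k y w (s w) w3.symm w4.symm w1.symm
    change c y = w at c1
    change c w = s w at c2
    change c (s w) = y at c3
    have hu := mul_mem (h.nrm c (h.HL hc) (c4 x h.yx.symm w2.symm w5.symm) s h.mem) h.mem
    have d1 : c⁻¹ w = y := Perm.inv_eq_iff_eq.2 c1.symm
    have d2 : c⁻¹ (s w) = w := Perm.inv_eq_iff_eq.2 c2.symm
    have d3 : c⁻¹ y = s w := Perm.inv_eq_iff_eq.2 c3.symm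
    have e := two_fix (a := y) (isPGroup_iff_forall.1 h.two _ hu) (by
      simp only [pow_succ, pow_zero, one_mul, Perm.mul_apply, h.sy, d1, d2, d3, w6, c1, c2, c3])
    simp only [Perm.mul_apply, h.sy, d3, w6, c2] at e
    exact w4 e

end Hy

/-- The plane of order three. -/
abbrev V : Type := ZMod 3 × ZMod 3

/-- The linear map with columns `p`, `q`. -/
def F (p q v : V) : V := (v.1 * p.1 + v.2 * q.1, v.1 * p.2 + v.2 * q.2)

theorem F_eq : ∀ p q v : V, v.1.val • p + v.2.val • q = F p q v := fun p q v => by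
  ext <;> simp [F]

theorem F_key : ∀ q : V, (∀ v, v ≠ 0 → (F (1, 1) q)^[4] v ≠ v) ∨ (∀ v, v ≠ 0 → (F (1, 1) (-q))^[4] v ≠ v) ∨
    (∃ v, (F (1, 1) q)^[6] v = v ∧ (F (1, 1) q)^[2] v ≠ v) ∨
    (∃ v, (F (1, 1) (-q))^[6] v = v ∧ (F (1, 1) (-q))^[2] v ≠ v) ∨ ∃ v, v ≠ 0 ∧ F (1, 1) q v = 0 := by
  decide

theorem F_inj : ∀ v : V, v = 0 ∨ v + F (1, 0) (-(0, 1)) v = (1, 0) ∨
    -(v + F (1, 0) (-(0, 1)) v) = (1, 0) ∨ v + -F (1, 0) (-(0, 1)) v = (0, 1) ∨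
    -(v + -F (1, 0) (-(0, 1)) v) = (0, 1) := by
  decide

section Psi

variable {P : Type*} [Group P] {e₁ e₂ : P}

/-- coordinates -/
def psi (e₁ e₂ : P) (v : V) : P := e₁ ^ v.1.val * e₂ ^ v.2.val

variable (h1 : e₁ ^ 3 = 1) (h2 : e₂ ^ 3 = 1) (c : Commute e₁ e₂)
include h1 h2 c

theorem psi_add (v w : V) : psi e₁ e₂ (v + w) = psi e₁ e₂ v * psi e₁ e₂ w := by
  simp only [psi, Prod.fst_add, Prod.snd_add, ZMod.val_add, ← pow_eq_pow_mod _ h1,
    ← pow_eq_pow_mod _ h2, pow_add]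
  exact (c.pow_pow _ _).mul_mul_mul_comm _ _

omit h1 h2 c in
theorem psi_zero : psi e₁ e₂ 0 = 1 := by simp [psi]

theorem psi_neg (v : V) : psi e₁ e₂ (-v) = (psi e₁ e₂ v)⁻¹ :=
  eq_inv_of_mul_eq_one_left (by rw [← psi_add h1 h2 c, neg_add_cancel, psi_zero])

theorem psi_nsmul (n : ℕ) (v : V) : psi e₁ e₂ (n • v) = psi e₁ e₂ v ^ n := by
  induction n with
  | zero => rw [zero_nsmul, psi_zero, pow_zero]
  | succ n ih => rw [succ_nsmul, psi_add h1 h2 c, ih, pow_succ]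

theorem psi_conj {g : P} {p q : V} (k1 : g * e₁ * g⁻¹ = psi e₁ e₂ p) (k2 : g * e₂ * g⁻¹ = psi e₁ e₂ q)
    (v : V) : g * psi e₁ e₂ v * g⁻¹ = psi e₁ e₂ (F p q v) := by
  rw [← F_eq, psi_add h1 h2 c, psi_nsmul h1 h2 c, psi_nsmul h1 h2 c, ← k1, ← k2, conj_pow, conj_pow,
    conj_mul, psi]

end Psi

namespace Hy

variable (h : Hy L Q H x y s) (ab : ∀ m ∈ H, ∀ n ∈ H, m * n = n * m)
include h ab

theorem reg {m n : Perm Ω} (hm : m ∈ H) (hn : n ∈ H) (e : m x = n x) : m = n := Equiv.ext fun a => by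
  obtain ⟨k, hk, rfl⟩ := h.trH a
  rw [← Perm.mul_apply, ab m hm k hk, Perm.mul_apply, e, ← Perm.mul_apply, ab k hk n hn,
    Perm.mul_apply]

omit ab in
theorem conj_apply (hg : g x = x) (n : Perm Ω) : (g * n * g⁻¹) x = g (n x) := by
  rw [Perm.mul_apply, Perm.mul_apply, Perm.inv_eq_iff_eq.2 hg.symm]

theorem inverts (hg : g ∈ L) (gx : g x = x) (g2 : g * g = 1) (gf : ∀ a, a ≠ x → g a ≠ a) {n : Perm Ω}
    (hn : n ∈ H) : g (n x) = n⁻¹ x := by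
  have h1 := conj_mem_of_mem_normalizer (h.nH hg) hn
  have h2 : (n * (g * n * g⁻¹)) x = x := by
    by_contra e
    refine gf _ e ?_
    rw [← h.conj_apply gx, ← conj_mul, ab n hn _ h1]
    congr 2
    rw [← mul_assoc, ← mul_assoc, g2, inv_eq_of_mul_eq_one_right g2, mul_assoc, g2, one_mul, mul_one]
  rw [← h.conj_apply gx, Perm.eq_inv_iff_eq]
  exact h2

theorem card_H : Nat.card H = Nat.card Ω :=
  Nat.card_congr (Equiv.ofBijective (fun n : H => (n : Perm Ω) x)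
    ⟨fun m n e => Subtype.ext (h.reg ab m.2 n.2 e), fun a => let ⟨n, hn, e⟩ := h.trH a; ⟨⟨n, hn⟩, e⟩⟩)

omit ab in
theorem card_Ω : ∃ k, 1 ≤ k ∧ Nat.card Ω = 2 ^ k + 1 := by
  obtain ⟨k, hk⟩ := h.two.card_orbit y
  have e : MulAction.orbit Q y = {x}ᶜ := by
    ext a
    refine ⟨?_, fun ha => let ⟨u, hu, e⟩ := h.tr y a h.yx ha; ⟨⟨u, hu⟩, e⟩⟩
    rintro ⟨u, rfl⟩ e
    exact h.yx ((u : Perm Ω).injective (e.trans (h.fix u u.2).symm))
  obtain ⟨w, -, w2, w3⟩ := h.exw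
  rw [e] at hk
  have h1 : 1 < Nat.card ({x}ᶜ : Set Ω) := Finite.one_lt_card_iff_nontrivial.2
    ⟨⟨⟨w, w2⟩, ⟨y, h.yx⟩, fun e => w3 (congrArg Subtype.val e)⟩⟩
  refine ⟨k, Nat.one_le_iff_ne_zero.2 fun e => by rw [hk, e] at h1; omega, ?_⟩
  rw [← hk, Nat.card_coe_set_eq, ← Set.ncard_add_ncard_compl {x}, Set.ncard_singleton, add_comm]

theorem nine : Nat.card Ω = 9 ∧ ∀ n ∈ H, n ^ 3 = 1 := by
  obtain ⟨k, k1, hk⟩ := h.card_Ω
  have hc := h.card_H ab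
  have pp : (Nat.card H).minFac.Prime := Nat.minFac_prime (by
    rw [hc, hk]; have := Nat.one_le_two_pow (n := k); omega)
  generalize hp : (Nat.card H).minFac = p at pp
  have := Fact.mk pp
  obtain ⟨⟨m, hm⟩, m1⟩ := exists_prime_orderOf_dvd_card' (G := H) p (hp ▸ Nat.minFac_dvd _)
  rw [← orderOf_coe] at m1
  have ne : ∀ n ∈ H, n ≠ 1 → n x ≠ x := fun n hn n1 e => n1 (h.reg ab hn (one_mem H) e)
  have e : ∀ n ∈ H, n ^ p = 1 := fun n hn => by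
    by_cases n1 : n = 1
    · rw [n1, one_pow]
    obtain ⟨u, hu, e⟩ := h.tr _ _ (ne m hm fun k => pp.one_lt.ne' (by rw [← m1]; simp [k])) (ne n hn n1)
    rw [← h.reg ab (conj_mem_of_mem_normalizer (h.nH (h.le hu)) hm) hn
      ((h.conj_apply (h.fix u hu) m).trans e), conj_pow, ← m1, pow_orderOf_eq_one, mul_one,
      mul_inv_cancel]
  obtain ⟨d, hd⟩ := IsPGroup.iff_card.1
    (isPGroup_iff_forall.2 fun n hn => ⟨1, by rw [pow_one, e n hn]⟩ : IsPGroup p H)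
  have d1 : 1 ≤ d := Nat.one_le_iff_ne_zero.2 fun e => by
    rw [e, hc, hk, pow_zero] at hd; have := Nat.one_le_two_pow (n := k); omega
  rcases Cfsg.Agent.S3784.result p 2 d k pp Nat.prime_two d1 k1 (by rw [← hd, hc, hk]) with
    ⟨-, -, -, h1⟩ | ⟨-, h1, -⟩ | ⟨h1, -⟩
  · have : 2 ∣ 2 ^ d := dvd_pow_self 2 (by omega)
    omega
  · exfalso
    obtain ⟨n, hn, e1⟩ := h.trH y
    have hs := h.fix s h.mem
    have h2 : n ∈ H ⊓ cen1 s := ⟨hn, mem_centralizer_singleton_iff.2 (by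
      rw [← h.reg ab (conj_mem_of_mem_normalizer (h.nH (h.le h.mem)) hn) hn
        (by rw [h.conj_apply hs, e1, h.sy]), inv_mul_cancel_right,
        h.reg ab (conj_mem_of_mem_normalizer (h.nH (h.le h.mem)) hn) hn
        (by rw [h.conj_apply hs, e1, h.sy])])⟩
    have h3 := card_dvd_of_le (inf_le_left : H ⊓ cen1 s ≤ H)
    rw [hd, h1, pow_one] at h3
    rcases (Nat.dvd_prime pp).1 h3 with h4 | h4
    · rw [card_eq_one.1 h4, mem_bot] at h2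
      exact h.yx (by rw [← e1, h2, Perm.one_apply])
    · have h5 := eq_of_le_of_card_ge (inf_le_left : H ⊓ cen1 s ≤ H) (by rw [h4, hd, h1, pow_one])
      refine h.ne (Equiv.ext fun a => ?_)
      obtain ⟨m, hm, rfl⟩ := h.trH a
      rw [← Perm.mul_apply, ← mem_centralizer_singleton_iff.1 (h5.ge hm).2, Perm.mul_apply, hs,
        Perm.one_apply]
  · refine ⟨by rw [← hc, hd, h1], ?_⟩
    rwa [(Nat.prime_dvd_prime_iff_eq pp Nat.prime_three).1 (pp.dvd_of_dvd_pow (n := 2)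
      ((dvd_pow_self p (by omega)).trans h1.dvd))] at e

theorem eight : ∃ u ∈ Q, ∀ a, a ≠ x → (u ^ 4) a ≠ a := by
  obtain ⟨c9, e3⟩ := h.nine ab
  have hs := h.fix s h.mem
  have nq : ∀ u ∈ Q, ∀ n ∈ H, u * n * u⁻¹ ∈ H := fun u hu n hn =>
    conj_mem_of_mem_normalizer (h.nH (h.le hu)) hn
  obtain ⟨e₁, he₁, y1⟩ := h.trH y
  obtain ⟨w, w1, -⟩ := h.exw
  obtain ⟨n, hn, rfl⟩ := h.trH w
  have he₂ := mul_mem (inv_mem hn) (nq s h.mem n hn)
  have n2 : n⁻¹ * (s * n * s⁻¹) ≠ 1 := fun e =>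
    w1 (by rw [← h.conj_apply hs, ← inv_mul_eq_one.1 e])
  have s2 : s * (n⁻¹ * (s * n * s⁻¹)) * s⁻¹ = (n⁻¹ * (s * n * s⁻¹))⁻¹ := by
    rw [show s * (n⁻¹ * (s * n * s⁻¹)) * s⁻¹ = s * n⁻¹ * s⁻¹ * (s * s * n * (s * s)⁻¹) by group, h.sq]
    group
  generalize n⁻¹ * (s * n * s⁻¹) = e₂ at he₂ n2 s2
  have s1 : s * e₁ * s⁻¹ = e₁ := h.reg ab (nq s h.mem _ he₁) he₁ (by rw [h.conj_apply hs, y1, h.sy])
  have n1 : e₁ ≠ 1 := fun e => h.yx (by rw [← y1, e, Perm.one_apply])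
  have a1 := e3 _ he₁
  have a2 := e3 _ he₂
  have c : Commute e₁ e₂ := ab _ he₁ _ he₂
  have p1 : psi e₁ e₂ (1, 0) = e₁ := by simp [psi, ZMod.val_one]
  have p2 : psi e₁ e₂ (0, 1) = e₂ := by simp [psi, ZMod.val_one]
  have mem : ∀ v, psi e₁ e₂ v ∈ H := fun v => mul_mem (pow_mem he₁ _) (pow_mem he₂ _)
  have ker : ∀ v, psi e₁ e₂ v = 1 → v = 0 := fun v e => by
    have k := psi_conj a1 a2 c (s1.trans p1.symm) (by rw [s2, psi_neg a1 a2 c, p2]) v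
    rw [e, mul_one, mul_inv_cancel] at k
    rcases F_inj v with k1 | k1 | k1 | k1 | k1
    · exact k1
    all_goals
      have k2 := congrArg (psi e₁ e₂) k1
      simp only [psi_add a1 a2 c, psi_neg a1 a2 c, e, ← k, p1, p2, mul_one, inv_one] at k2
      first | exact absurd k2.symm n1 | exact absurd k2.symm n2
  have inj : Function.Injective fun v => psi e₁ e₂ v x := fun v w e => by
    refine sub_eq_zero.1 (ker _ ?_)
    rw [sub_eq_add_neg, psi_add a1 a2 c, psi_neg a1 a2 c, h.reg ab (mem v) (mem w) e, mul_inv_cancel]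
  have surj := (inj.bijective_of_nat_card_le (by rw [c9]; simp)).2
  have ne : ∀ v, v ≠ 0 ↔ psi e₁ e₂ v x ≠ x := fun v => not_congr
    ⟨fun e => by rw [e, psi_zero, Perm.one_apply], fun e => ker v (h.reg ab (mem v) (one_mem H) e)⟩
  obtain ⟨u, hu, e⟩ := h.tr y (psi e₁ e₂ (1, 1) x) h.yx ((ne _).1 (by decide))
  have u1 : u * e₁ * u⁻¹ = psi e₁ e₂ (1, 1) :=
    h.reg ab (nq u hu _ he₁) (mem _) (by rw [h.conj_apply (h.fix u hu), y1, e])
  obtain ⟨q, hq⟩ := surj ((u * e₂ * u⁻¹) x)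
  have u2 := h.reg ab (nq u hu _ he₂) (mem q) hq.symm
  have it : ∀ g ∈ Q, ∀ q, g * e₁ * g⁻¹ = psi e₁ e₂ (1, 1) → g * e₂ * g⁻¹ = psi e₁ e₂ q → ∀ k v,
      (g ^ k) (psi e₁ e₂ v x) = psi e₁ e₂ ((F (1, 1) q)^[k] v) x := fun g hg q k1 k2 k => by
    induction k with
    | zero => exact fun v => rfl
    | succ k ih =>
      intro v
      rw [pow_succ, Perm.mul_apply, ← h.conj_apply (h.fix g hg), psi_conj a1 a2 c k1 k2, ih,
        Function.iterate_succ_apply]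
  have A : ∀ g ∈ Q, ∀ f : V → V, (∀ k v, (g ^ k) (psi e₁ e₂ v x) = psi e₁ e₂ (f^[k] v) x) →
      ((∀ v, v ≠ 0 → f^[4] v ≠ v) → ∃ u ∈ Q, ∀ a, a ≠ x → (u ^ 4) a ≠ a) ∧
      ¬ ∃ v, f^[6] v = v ∧ f^[2] v ≠ v := fun g hg f k => ⟨fun k1 => ⟨g, hg, fun a ha e => by
        obtain ⟨v, rfl⟩ := surj a
        exact k1 v ((ne v).2 ha) (inj ((k 4 v).symm.trans e))⟩, fun ⟨v, k1, k2⟩ =>
      k2 (inj ((k 2 v).symm.trans (two_fix (isPGroup_iff_forall.1 h.two _ (pow_mem hg 2))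
        (by rw [← pow_mul, k, k1]))))⟩
  have i1 := it u hu q u1 u2
  have i2 := it (u * s) (mul_mem hu h.mem) (-q)
    (by rw [← u1, show u * s * e₁ * (u * s)⁻¹ = u * (s * e₁ * s⁻¹) * u⁻¹ by group, s1])
    (by rw [psi_neg a1 a2 c, ← u2, show u * s * e₂ * (u * s)⁻¹ = u * (s * e₂ * s⁻¹) * u⁻¹ by group, s2]
        group)
  rcases F_key q with k | k | k | k | ⟨v, k1, k2⟩
  · exact (A _ hu _ i1).1 k
  · exact (A _ (mul_mem hu h.mem) _ i2).1 k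
  · exact absurd k (A _ hu _ i1).2
  · exact absurd k (A _ (mul_mem hu h.mem) _ i2).2
  · have k3 := i1 1 v
    rw [pow_one, Function.iterate_one, k2, psi_zero, Perm.one_apply] at k3
    exact absurd (u.injective (k3.trans (h.fix u hu).symm)) ((ne v).1 k1)

end Hy

theorem jobHE : H12.BP.JobHE.{u} := by
  intro G Ω _ _ _ _ x Q hQ fix nrm tr trG
  classical
  have := Fintype.ofFinite Ω
  refine or_iff_not_imp_left.2 fun hn => ?_
  push Not at hn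
  obtain ⟨s₀, hs₀, y, yx, sy, z, sz⟩ := hn
  let ρ := MulAction.toPermHom G Ω
  have hQ' : IsPGroup 2 (Q.map ρ) := hQ.map ρ
  have m0 : ρ s₀ ∈ Q.map ρ ⊓ MulAction.stabilizer (Perm Ω) y := ⟨mem_map_of_mem ρ hs₀, sy⟩
  obtain ⟨k, hk⟩ := ex_inv (isPGroup_iff_forall.1 hQ' _ m0.1)
    fun e => sz (DFunLike.congr_fun e z)
  have m1 := pow_mem m0 (2 ^ k)
  generalize ρ s₀ ^ 2 ^ k = s at hk m1
  have s1 : s ≠ 1 := fun e => by rw [e, orderOf_one] at hk; omega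
  have le : Q.map ρ ≤ ρ.range := map_le_range ρ Q
  have : Nontrivial ρ.range := ⟨⟨⟨s, le m1.1⟩, 1, fun e => s1 (congrArg Subtype.val e)⟩⟩
  obtain ⟨N, hN, N1, hmin⟩ := H2.exists_minimal_normal ρ.range
  have nH := le_normalizer_map_subtype N
  have h : Hy ρ.range (Q.map ρ) (N.map ρ.range.subtype) x y s := by
    refine ⟨hQ', le, ?_, ?_, fun a b ha hb => ?_, m1.1, s1,
      by rw [← pow_two, ← hk, pow_orderOf_eq_one], yx, m1.2, map_subtype_le N, nH, fun a => ?_⟩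
    · rintro _ ⟨u, hu, rfl⟩
      exact fix u hu
    · rintro _ ⟨g, rfl⟩ e _ ⟨u, hu, rfl⟩
      exact ⟨_, nrm g e u hu, by rw [map_mul, map_mul, map_inv]⟩
    · obtain ⟨u, hu, e⟩ := tr a b ha hb
      exact ⟨_, mem_map_of_mem ρ hu, e⟩
    · by_cases ha : a = x
      · exact ⟨1, one_mem _, ha.symm⟩
      obtain ⟨⟨n, hn⟩, n1⟩ := ne_bot_iff_exists_ne_one.1 N1
      obtain ⟨b, hb⟩ : ∃ b, (n : Perm Ω) b ≠ b := by
        by_contra e
        exact n1 (Subtype.ext (Subtype.ext (Equiv.ext fun b => by_contra fun k => e ⟨b, k⟩)))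
      obtain ⟨g, rfl⟩ := trG b
      obtain ⟨u, hu, e⟩ := tr (g⁻¹ • (n : Perm Ω) (g • x)) a (fun e => hb (inv_smul_eq_iff.1 e)) ha
      refine ⟨_, conj_mem_of_mem_normalizer (nH ⟨u * g⁻¹, rfl⟩) (mem_map_of_mem _ hn), ?_⟩
      rw [← map_inv, ← e, mul_inv_rev, inv_inv]
      change (u * g⁻¹) • (n : Perm Ω) ((g * u⁻¹) • x) = _
      rw [mul_smul, mul_smul, fix _ (inv_mem hu)]
  have h2 : MulAction.IsMultiplyPretransitive ρ.range Ω 2 :=
    MulAction.is_two_pretransitive_iff.2 fun {a b c d} hab hcd => by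
      obtain ⟨g, rfl⟩ := trG a
      obtain ⟨g', rfl⟩ := trG c
      obtain ⟨u, hu, e⟩ := tr (g⁻¹ • b) (g'⁻¹ • d) (fun e => hab (inv_smul_eq_iff.1 e).symm)
        fun e => hcd (inv_smul_eq_iff.1 e).symm
      refine ⟨⟨_, g' * u * g⁻¹, rfl⟩, ?_, ?_⟩
      · change (g' * u * g⁻¹) • g • x = _
        rw [mul_smul, mul_smul, inv_smul_smul, fix u hu]
      · change (g' * u * g⁻¹) • b = _
        rw [mul_smul, mul_smul, e, smul_inv_smul]
  have ab : IsMulCommutative (N.map ρ.range.subtype) := by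
    rcases Cfsg.Agent.S0700.result ρ.range h2 N N1 hmin with ⟨c, -⟩ | ⟨c, -⟩
    · infer_instance
    · by_contra e
      exact h.not_simple (N.equivMapOfInjective _ ρ.range.subtype_injective).symm.isSimpleGroup e
  have ab' : ∀ m ∈ N.map ρ.range.subtype, ∀ n ∈ N.map ρ.range.subtype, m * n = n * m :=
    fun m hm n hn => congrArg Subtype.val (ab.1.1 ⟨m, hm⟩ ⟨n, hn⟩)
  refine ⟨(h.nine ab').1, fun u v ux vx u2 v2 uf vf a => ?_, ?_⟩
  · obtain ⟨n, hn, rfl⟩ := h.trH a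
    exact (h.inverts ab' (g := ρ u) ⟨u, rfl⟩ ux (Equiv.ext u2) uf hn).trans
      (h.inverts ab' (g := ρ v) ⟨v, rfl⟩ vx (Equiv.ext v2) vf hn).symm
  · obtain ⟨_, ⟨u, hu, rfl⟩, e⟩ := h.eight ab'
    exact ⟨u, hu, fun a ha k => e a ha (by rw [← map_pow]; exact k)⟩

end H9.BpHE
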