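import Cfsg.Agent.H3.DSQAut
import Cfsg.Agent.H3.AutP
import Cfsg.Agent.H3.NonCyclic
import Cfsg.Agent.H48.AutRank2
import Cfsg.Agent.H86.OddAut
import Cfsg.Agent.H98.Coprime

/-! Two-groups without a non-cyclic abelian subgroup of order eight. -/

set_option autoImplicit false

namespace H9.Ab8

open Cfsg Subgroup H98
open scoped commutatorElement

variable {S : Type*} [Group S]

/-- `Y` contains a non-cyclic abelian subgroup of order eight. -/
def Bad (Y : Subgroup S) : Prop :=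
  ∃ A : Subgroup S, A ≤ Y ∧ IsMulCommutative A ∧ ¬ IsCyclic A ∧ Nat.card A = 8

/-- `Y` is a four-group. -/
def V4 (Y : Subgroup S) : Prop := Nat.card Y = 4 ∧ ∀ y ∈ Y, y * y = 1

/-- `Y` is quaternion of order eight, with the elementwise facts that are used. -/
structure Q8 (Y : Subgroup S) : Prop where
  iso : Nonempty (Y ≃* QuaternionGroup 2)
  card : Nat.card Y = 8
  aut : Nat.card (MulAut Y) ∣ 24
  nc : ∃ i ∈ Y, ∃ j ∈ Y, i * j ≠ j * i
  nc' : ∀ i ∈ Y, i * i ≠ 1 → ∃ j ∈ Y, i * j ≠ j * i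
  uniq : ∀ a ∈ Y, ∀ b ∈ Y, a * a = 1 → b * b = 1 → a = 1 ∨ b = 1 ∨ a = b
  sq : ∀ a ∈ Y, ∀ b ∈ Y, a * a * b = b * (a * a)
  four : ∀ a ∈ Y, a * a * (a * a) = 1
  ne : ∀ i ∈ Y, ∀ j ∈ Y, i * j ≠ j * i → i * i ≠ 1
  gen : ∀ i ∈ Y, ∀ j ∈ Y, i * j ≠ j * i → ∀ w ∈ Y, w = i * i * (i * i) ∨ w = i ∨ w = i * i ∨
    w = i⁻¹ ∨ w = j ∨ w = i * j ∨ w = i * j * i⁻¹ ∨ w = i⁻¹ * j
  inn : ∀ i ∈ Y, ∀ j ∈ Y, i * j ≠ j * i → ∀ a ∈ Y, ∀ b ∈ Y, a * a = 1 → b * b = 1 →
    ∃ n ∈ Y, n * i * n⁻¹ = a * i ∧ n * j * n⁻¹ = b * j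
  cen : ∀ c ∈ Y, (∀ a ∈ Y, a * c = c * a) → c * c = 1

theorem q8_of {Y : Subgroup S} (e : Y ≃* QuaternionGroup 2) : Q8 Y := by
  have l : ∀ y ∈ Y, ∃ q, y = (e.symm q : S) := fun y hy => ⟨e ⟨y, hy⟩, by simp⟩
  have i : Function.Injective (Y.subtype.comp e.symm.toMonoidHom) :=
    Y.subtype_injective.comp e.symm.injective
  have m : ∀ q, (Y.subtype.comp e.symm.toMonoidHom) q ∈ Y := fun q => (e.symm q).2
  replace l : ∀ y ∈ Y, ∃ q, y = (Y.subtype.comp e.symm.toMonoidHom) q := l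
  generalize Y.subtype.comp e.symm.toMonoidHom = f at i m l
  have c : Nat.card Y = 2 ^ 3 := by
    rw [Nat.card_congr e.toEquiv, Nat.card_eq_fintype_card, QuaternionGroup.card]; rfl
  have o : ∀ q, f q = 1 ↔ q = 1 := fun q => map_eq_one_iff f i
  refine ⟨⟨e⟩, c, ?_, ⟨_, m (.a 1), _, m (.xa 0), ?_⟩, fun a ha => ?_, fun a ha b hb => ?_,
    fun a ha b hb => ?_, fun a ha => ?_, fun a ha b hb => ?_, fun a ha b hb h c hc => ?_,
    fun a ha b hb h c hc d hd => ?_, fun a ha h => ?_⟩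
  · have := Finite.of_equiv _ e.symm.toEquiv
    exact H3.card_mulAut_dvd c ((H3.dsq_quaternion 0).of_mulEquiv e.symm).index_frattini
  · simp only [← map_mul, ne_eq, i.eq_iff]; decide
  all_goals obtain ⟨a, rfl⟩ := l a ha
  · have : ∀ a : QuaternionGroup 2, a * a ≠ 1 → ∃ b, a * b ≠ b * a := by decide
    intro h
    obtain ⟨b, hb⟩ := this a (by simpa only [← map_mul, ne_eq, o] using h)
    exact ⟨_, m b, by simpa only [← map_mul, ne_eq, i.eq_iff] using hb⟩
  · obtain ⟨b, rfl⟩ := l b hb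
    simp only [← map_mul, o, i.eq_iff]
    clear ha hb; revert a b; decide
  · obtain ⟨b, rfl⟩ := l b hb
    simp only [← map_mul, i.eq_iff]
    clear ha hb; revert a b; decide
  · simp only [← map_mul, o]
    clear ha; revert a; decide
  · obtain ⟨b, rfl⟩ := l b hb
    simp only [← map_mul, o, ne_eq, i.eq_iff]
    clear ha hb; revert a b; decide
  · obtain ⟨b, rfl⟩ := l b hb
    obtain ⟨c, rfl⟩ := l c hc
    simp only [← map_mul, ← map_inv, ne_eq, i.eq_iff] at h ⊢
    clear ha hb hc; revert a b c; decide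
  · obtain ⟨b, rfl⟩ := l b hb
    obtain ⟨c, rfl⟩ := l c hc
    obtain ⟨d, rfl⟩ := l d hd
    have : ∀ a b c d : QuaternionGroup 2, a * b ≠ b * a → c * c = 1 → d * d = 1 →
        ∃ n, n * a * n⁻¹ = c * a ∧ n * b * n⁻¹ = d * b := by decide +kernel
    simp only [← map_mul, o, ne_eq, i.eq_iff] at h ⊢
    intro h1 h2
    obtain ⟨n, h3, h4⟩ := this a b c d h h1 h2
    exact ⟨_, m n, by simp only [← map_mul, ← map_inv, h3, h4, and_self]⟩
  · have h1 := h _ (m (.a 1))
    have h2 := h _ (m (.xa 0))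
    simp only [← map_mul, o, i.eq_iff] at h1 h2 ⊢
    clear ha h; revert a; decide

theorem Q8.le {Y K : Subgroup S} (h : Q8 Y) {i j : S} (hi : i ∈ Y) (hj : j ∈ Y)
    (n : i * j ≠ j * i) (iK : i ∈ K) (jK : j ∈ K) : Y ≤ K := fun w hw => by
  rcases h.gen i hi j hj n w hw with e | e | e | e | e | e | e | e <;> rw [e] <;>
    simp only [mul_mem, inv_mem, iK, jK]

theorem comm_of_sq {Y : Subgroup S} (h : ∀ y ∈ Y, y * y = 1) : Y ≤ centralizer Y :=
  fun a ha b hb => by
    have e := h _ (mul_mem ha hb)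
    rw [mul_eq_one_iff_eq_inv, mul_inv_rev, ← mul_eq_one_iff_eq_inv.1 (h a ha),
      ← mul_eq_one_iff_eq_inv.1 (h b hb)] at e
    exact e.symm

theorem not_cyc [Finite S] {Y : Subgroup S} (h : ∀ y ∈ Y, y * y = 1) (h2 : 2 < Nat.card Y) :
    ¬ IsCyclic Y := fun hc => by
  obtain ⟨g, hg⟩ := isCyclic_iff_exists_orderOf_eq_natCard.1 hc
  have := Nat.le_of_dvd two_pos (orderOf_dvd_of_pow_eq_one
    (show g ^ 2 = 1 from Subtype.ext ((pow_two (g : S)).trans (h g g.2))))
  omega

theorem card_le_two [Finite S] {W : Subgroup S}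
    (h : ∀ a ∈ W, ∀ b ∈ W, a = 1 ∨ b = 1 ∨ a = b) : Nat.card W ≤ 2 := by
  by_contra hn
  obtain ⟨a, b, c, ha, hb, hc, h1, h2, h3⟩ := (Set.two_lt_ncard_iff (s := (W : Set S))).1
    (not_le.1 hn)
  have := h a ha b hb
  have := h a ha c hc
  have := h b hb c hc
  grind

variable [Finite S]

theorem card_lt {A B : Subgroup S} (h : A < B) : Nat.card A < Nat.card B :=
  lt_of_le_of_ne (card_le_of_le h.le) fun e => h.ne (eq_of_le_of_card_ge h.le e.ge)

omit [Finite S] in
theorem Bad.mono {Y Z : Subgroup S} (h : Bad Y) (l : Y ≤ Z) : Bad Z :=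
  let ⟨A, h1, h2⟩ := h
  ⟨A, h1.trans l, h2⟩

theorem bad_of {B : Subgroup S} (hB : IsPGroup 2 B) (hc : B ≤ centralizer B) (nc : ¬ IsCyclic B)
    (h4 : 4 < Nat.card B) : Bad B := by
  have := le_centralizer_iff_isMulCommutative.1 hc
  obtain ⟨x, y, hx, hy, hxy⟩ := H3.exists_pair_of_comm_pgroup hB nc
  obtain ⟨n, hn⟩ := hB.exists_card_eq
  obtain ⟨K, h1, h2⟩ := Sylow.exists_subgroup_card_pow_succ (p := 2) (n := 2)
    (hn ▸ pow_dvd_pow 2 (by
      by_contra h3
      have : n < 3 := by omega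
      interval_cases n <;> omega))
    (H3.card_sup_zpowers_of_commute Nat.prime_two (mul_comm' x y) hx hy hxy)
  refine ⟨K.map B.subtype, map_subtype_le K, le_centralizer_iff_isMulCommutative.1
    ((map_subtype_le K).trans (hc.trans (centralizer_anti (map_subtype_le K)))), fun h => ?_,
    (card_map_of_injective B.subtype_injective).trans h1⟩
  exact H3.not_isCyclic_of_pair (h2 (mem_sup_left (mem_zpowers x))) (h2 (mem_sup_right
    (mem_zpowers y))) hx (hy ▸ pow_orderOf_eq_one y) hxy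
    (isCyclic_of_surjective _ (K.equivMapOfInjective _ B.subtype_injective).symm.surjective)

variable {H Y W : Subgroup S}

theorem small (hH : Odd (Nat.card H)) (hY : IsPGroup 2 Y) (nb : ¬ Bad Y)
    (hn : H ≤ normalizer (Y : Set S)) (hc : ¬ H ≤ centralizer (Y : Set S)) : V4 Y ∨ Q8 Y := by
  have na : ¬ IsPGroup 2 (MulAut Y) := fun h => hc (by
    obtain ⟨k, hk⟩ := h.exists_card_eq
    exact relIndex_eq_one.1 (Nat.eq_one_of_dvd_coprimes
      (Nat.Coprime.pow_left k (Nat.coprime_two_left.2 hH))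
      (hk ▸ H48.relIndex_centralizer_dvd_card_mulAut hn) (relIndex_dvd_card _ _)))
  rcases H3.exists_pair_of_pgroup hY with h | ⟨-, n, ⟨e⟩⟩ | ⟨x, y, hc, hx, hy, hxy⟩
  · obtain ⟨k, hk⟩ := hY.exists_card_eq
    refine absurd (?_ : IsPGroup 2 (MulAut Y)) na
    rcases k with _ | k
    · exact .of_card (n := 0) (by rw [IsCyclic.card_mulAut, hk]; rfl)
    · exact .of_card (n := k) (by
        simp [IsCyclic.card_mulAut, hk, Nat.totient_prime_pow_succ Nat.prime_two])
  · exact Or.inr (q8_of (((H3.dsq_quaternion n).of_mulEquiv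
      e.symm).quaternion_eight_or_isPGroup_mulAut.resolve_right na).some)
  have c := H3.card_sup_zpowers_of_commute Nat.prime_two (mem_center_iff.1 hc y).symm hx hy hxy
  have e : centralizer {y} = zpowers x ⊔ zpowers y := by
    refine le_antisymm (fun a ha => by_contra fun hn => nb ?_) (sup_le
      (zpowers_le.2 (center_le_centralizer _ hc)) (zpowers_le.2 (mem_centralizer_singleton_iff.2 rfl)))
    have hs : ∀ u ∈ ({x, y, a} : Set Y), ∀ v ∈ ({x, y, a} : Set Y), u * v = v * u := by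
      have := mem_center_iff.1 hc
      have := mem_centralizer_singleton_iff.1 ha
      rintro u (rfl | rfl | rfl) v (rfl | rfl | rfl) <;> simp_all
    have l : zpowers x ⊔ zpowers y < closure {x, y, a} := lt_of_le_of_ne
      (sup_le (zpowers_le.2 (subset_closure (by simp))) (zpowers_le.2 (subset_closure (by simp))))
      fun e => hn (e ▸ subset_closure (by simp))
    obtain ⟨A, -, h1, h2, h3⟩ := bad_of (hY.to_subgroup (closure {x, y, a}))
      (le_centralizer_iff_isMulCommutative.2 (isMulCommutative_closure hs))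
      (H3.not_isCyclic_of_pair (l.le (mem_sup_left (mem_zpowers x)))
        (l.le (mem_sup_right (mem_zpowers y))) hx (hy ▸ pow_orderOf_eq_one y) hxy)
      (by have := card_lt l; omega)
    exact ⟨A.map Y.subtype, map_subtype_le A, inferInstance, fun h => h2 (isCyclic_of_surjective _
      (A.equivMapOfInjective _ Y.subtype_injective).symm.surjective),
      (card_map_of_injective Y.subtype_injective).trans h3⟩
  by_cases ab : IsMulCommutative Y
  · have t : zpowers x ⊔ zpowers y = ⊤ := eq_top_iff.2 fun a _ =>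
      e.le (mem_centralizer_singleton_iff.2 (mul_comm' a y))
    refine Or.inl ⟨by rw [← card_top, ← t, c]; rfl, fun a ha => ?_⟩
    have := (H3.isElementaryAbelian_sup_zpowers (p := 2) (mul_comm' x y) (hx ▸ pow_orderOf_eq_one x)
      (hy ▸ pow_orderOf_eq_one y)).2 ⟨a, ha⟩ (t.ge (mem_top _))
    exact (pow_two a).symm.trans (congrArg Subtype.val this)
  · obtain ⟨m, a, b, h⟩ := H3.exists_dsq_of_card_centralizer hY ab (x := y) (by rw [e, c]; rfl)
    exact Or.inr (q8_of (h.quaternion_eight_or_isPGroup_mulAut.resolve_right na).some)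

/-- A proper invariant subgroup of a small group is centralised and has index at least four. -/
theorem proper (hH : Odd (Nat.card H)) (hY : IsPGroup 2 Y) (nb : ¬ Bad Y)
    (hn : H ≤ normalizer (Y : Set S)) (hc : ¬ H ≤ centralizer (Y : Set S)) (l : W < Y)
    (hW : H ≤ normalizer (W : Set S)) :
    H ≤ centralizer (W : Set S) ∧ 4 * Nat.card W ≤ Nat.card Y := by
  have c := card_lt l
  have h1 : H ≤ centralizer (W : Set S) := by
    by_contra h
    rcases small hH hY nb hn hc with ⟨e, -⟩ | e <;>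
      rcases small hH (hY.to_le l.le) (fun b => nb (b.mono l.le)) hW h with ⟨e1, e2⟩ | e1
    · omega
    · have := e1.card; omega
    · have := card_le_two fun a ha b hb => e.uniq a (l.le ha) b (l.le hb) (e2 a ha) (e2 b hb)
      omega
    · have := e1.card; have := e.card; omega
  refine ⟨h1, ?_⟩
  obtain ⟨k, hk⟩ := hY.index (W.subgroupOf Y)
  have e := (W.subgroupOf Y).card_mul_index
  rw [Nat.card_congr (subgroupOfEquivOfLe l.le).toEquiv] at e
  rcases k with _ | _ | k
  · rw [hk] at e; omega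
  · refine absurd (fun h hh a ha => ?_) hc
    have := (H86.oddAut_conj (hn hh) (Nat.coprime_two_right.2
      (hH.of_dvd_nat (orderOf_dvd_natCard H hh)))).fix_of_index_two hY l.le
      (fun w hw => by rw [← h1 hh w hw, mul_inv_cancel_right]) (fun a ha b hb h1 h2 =>
        (mul_mem_iff_of_index_two hk (a := ⟨a, ha⟩⁻¹) (b := ⟨b, hb⟩)).2
          (iff_of_false (fun e => h1 (inv_mem_iff.1 e)) h2)) a ha
    exact (mul_inv_eq_iff_eq_mul.1 this).symm
  · rw [← e, hk, pow_add, pow_add]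
    have := Nat.two_pow_pos k
    nlinarith

end H9.Ab8
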