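/- STD-SP (S3129), type I fusion: the normal form of the alternating involutions (slot BN). -/
import Cfsg.Agent.H86.SPGDef

set_option autoImplicit false
set_option linter.unusedSectionVars false

namespace H9.SPG

open H67.UA hiding Par
open H67.SP H86.SPG Matrix
open H86.SPI (X0)

variable {n : ℕ} {F : Type} [Field F] [StarRing F] [TrivialStar F] [CharP F 2] [Finite F]

/-- The partner of an index. -/
def sx (n : ℕ) (i : Fin (n + 1)) : Fin (n + 1) :=
  Fin.ofNat (n + 1) (if i.val % 2 = 0 then i.val + 1 else i.val - 1)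

theorem sx_val {j : ℕ} (hj : 2 * j ≤ n + 1) {i : Fin (n + 1)} (hi : i.val < 2 * j) :
    (sx n i).val = if i.val % 2 = 0 then i.val + 1 else i.val - 1 := by
  rw [sx, Fin.val_ofNat, Nat.mod_eq_of_lt]
  split_ifs <;> omega

/-- `a_(2 j) - 1` -/
def NJ (j : ℕ) (v : Vn n F) : Vn n F := fun i => if i.val < 2 * j then v (sx n i).rev else 0

theorem NJ_add (j : ℕ) (v w : Vn n F) : NJ j (v + w) = NJ j v + NJ j w := by
  ext i
  simp only [NJ, Pi.add_apply]
  split_ifs <;> simp

theorem NJ_wk (j : ℕ) (v : Vn n F) : Wk (2 * j) (NJ j v) := fun _ hi => if_neg (by omega)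

theorem NJ_of_wk {j k : ℕ} (h : 2 * j + k ≤ n + 1) {v : Vn n F} (hv : Wk k v) : NJ j v = 0 := by
  ext i
  simp only [NJ, Pi.zero_apply]
  split_ifs with hi
  · refine hv _ ?_
    have := sx_val (by omega) hi
    rw [Fin.val_rev]
    split_ifs at this <;> omega
  · rfl

theorem mulVec_al (j : ℕ) (v : Vn n F) : (1 + ∑ i : Fin (n + 1) with i.val < 2 * j,
    op (ev i : Vn n F) (ev (sx n i))) *ᵥ v = v + NJ j v := by
  rw [add_mulVec, one_mulVec, Matrix.sum_mulVec]
  congr 1
  ext k
  simp only [op_mulVec, hf_ev_right, Finset.sum_apply, Pi.smul_apply, ev_apply, smul_eq_mul, mul_ite,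
    mul_one, mul_zero, Finset.sum_ite_eq, Finset.mem_filter, Finset.mem_univ, true_and, NJ]

theorem NJ_succ {j : ℕ} (hj : 2 * (j + 1) ≤ n + 1) {a b : Fin (n + 1)} (ha : a.val = 2 * j)
    (hb : b.val = 2 * j + 1) (v : Vn n F) :
    NJ (j + 1) v = hf v (ev b) • ev a + hf v (ev a) • ev b + NJ j v := by
  ext i
  simp only [NJ, Pi.add_apply, Pi.smul_apply, hf_ev_right, ev_apply, smul_eq_mul]
  have hab : a ≠ b := fun e => by rw [e] at ha; omega
  by_cases h1 : i = a
  · have : sx n a = b := Fin.ext (by rw [sx_val hj (by omega), if_pos (by omega)]; omega)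
    subst h1
    simp [this, ha, hab]
  by_cases h2 : i = b
  · have : sx n b = a := Fin.ext (by rw [sx_val hj (by omega), if_neg (by omega)]; omega)
    subst h2
    simp [this, h1, hb, show 2 * j + 1 < 2 * (j + 1) by omega]
  have h3 : i.val ≠ 2 * j := fun e => h1 (Fin.ext (e.trans ha.symm))
  have h4 : i.val ≠ 2 * j + 1 := fun e => h2 (Fin.ext (e.trans hb.symm))
  simp [h1, h2, show i.val < 2 * (j + 1) ↔ i.val < 2 * j by omega]

theorem hf_ev_ev {a b : Fin (n + 1)} (h : a.val + b.val ≠ n) : hf (ev a : Vn n F) (ev b) = 0 := by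
  rw [hf_ev, if_neg]
  intro e
  have := congrArg Fin.val e
  rw [Fin.val_rev] at this
  omega

variable [p : Par n F] [Base n F]

theorem exists_al (j : ℕ) (hj : 4 * j ≤ n + 1) : ∃ g ∈ X0 n F, ∀ v, ac g v = v + NJ j v := by
  induction j with
  | zero => exact ⟨1, one_mem _, fun v => by ext i; simp [NJ]⟩
  | succ j ih =>
    obtain ⟨g, hg, h⟩ := ih (by omega)
    let a : Fin (n + 1) := ⟨2 * j, by omega⟩
    let b : Fin (n + 1) := ⟨2 * j + 1, by omega⟩
    have hab : hf (ev a : Vn n F) (ev b) = 0 := hf_ev_ev (by simp only [a, b]; omega)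
    have wk : ∀ c d : F, Wk (2 * j + 2) (c • ev a + d • ev b : Vn n F) := fun c d i hi => by
      have h1 : i ≠ a := fun e => by have := congrArg Fin.val e; simp only [a] at this; omega
      have h2 : i ≠ b := fun e => by have := congrArg Fin.val e; simp only [b] at this; omega
      simp [ev_apply, h1, h2]
    refine ⟨g * qq (ev b) (ev a), mul_mem hg ?_, fun v => ?_⟩
    · simpa using (H86.SPI.mw n F).qq_mem (FV.q0_ev a) (FV.q0_ev b) hab 1
    · rw [ac_mul, ac_qq (FV.pp _ _ hab), h, add_assoc v, NJ_add, NJ_of_wk (by omega) (wk _ _),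
        add_zero, add_assoc, NJ_succ (a := a) (b := b) (by omega) rfl rfl]

theorem al_spec {j : ℕ} (hj : 4 * j ≤ n + 1) :
    al n F j ∈ X0 n F ∧ ∀ v, ac (al n F j) v = v + NJ j v := by
  obtain ⟨g, hg, h⟩ := exists_al (F := F) j hj
  have : al n F j = g := by
    rw [← mk_mt g]
    refine congrArg mk (Matrix.ext_of_mulVec_single fun i => ?_)
    exact (mulVec_al j _).trans (h _).symm
  exact this ▸ ⟨hg, h⟩

theorem nf_al {j : ℕ} (hj : 4 * j ≤ n + 1) : Nf (al n F j) (2 * j) := by
  obtain ⟨h0, h⟩ := al_spec (F := F) hj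
  have e : ∀ v, ac (al n F j) v + v = NJ j v := fun v => by
    rw [h, add_right_comm, v_add_self, zero_add]
  have lift : ∀ w : Vn n F, Wk (2 * j) w → ∃ y, (∀ i : Fin (n + 1), 2 * j ≤ i.rev.val → y i = 0) ∧
      w = ac (al n F j) y + y := fun w hw => by
    refine ⟨fun i => if i.rev.val < 2 * j then w (sx n i.rev) else 0, fun i hi => if_neg (by omega), ?_⟩
    rw [e]
    ext i
    simp only [NJ, Fin.rev_rev]
    split_ifs with h1 h2
    · congr 1
      refine Fin.ext ?_
      have a := sx_val (by omega) h1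
      have b := sx_val (by omega) h2
      split_ifs at a b <;> omega
    · have a := sx_val (by omega) h1
      split_ifs at a <;> omega
    · exact hw i (by omega)
  refine ⟨ac_ext fun v => ?_, fun v => ?_, fun w => ⟨?_, fun hw => (lift w hw).imp fun _ h => h.2⟩,
    lift⟩
  · rw [ac_mul, h, h, NJ_add, NJ_of_wk (by omega) (NJ_wk j v), add_zero, add_assoc, v_add_self,
      add_zero, ac_one]
  · have := FV.q0_add (ac (al n F j) v) v
    rw [e, (H86.SPI.mw n F).q _ h0, FV.q0_W _ fun i hi => NJ_wk j v i (by unfold kk at hi; omega),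
      CharTwo.add_self_eq_zero, zero_add] at this
    exact this.symm
  · rintro ⟨y, rfl⟩
    exact e y ▸ NJ_wk j y

theorem rk_of_nf {x : XU n F} {l : ℕ} (h : Nf x l) (hl : l ≤ n + 1) : rk x = l := by
  let f : (Fin l → F) →ₗ[F] Vn n F := LinearMap.pi fun i =>
    if h : i.val < l then LinearMap.proj ⟨i.val, h⟩ else 0
  have hf' : ∀ c i, f c i = if h : i.val < l then c ⟨i.val, h⟩ else 0 := fun c i => by
    simp only [f, LinearMap.pi_apply]
    split_ifs <;> rfl
  have inj : Function.Injective f := fun c d e => funext fun k => by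
    have := congrFun e ⟨k.val, by omega⟩
    simpa [hf'] using this
  have e : LinearMap.range (mt x - 1).mulVecLin = LinearMap.range f := by
    ext w
    have h1 : w ∈ LinearMap.range (mt x - 1).mulVecLin ↔ Wx x w := exists_congr fun y => by
      rw [mulVecLin_apply, sub_mulVec, one_mulVec, CharTwo.sub_eq_add, eq_comm]; rfl
    rw [h1, h.im]
    refine ⟨fun hw => ⟨fun k => w ⟨k.val, by omega⟩, funext fun i => ?_⟩, ?_⟩
    · rw [hf']
      split_ifs with hi
      · rfl
      · exact (hw i (by omega)).symm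
    · rintro ⟨c, rfl⟩ i hi
      rw [hf', dif_neg (by omega)]
  rw [rk, Matrix.rank, e, LinearMap.finrank_range_of_inj inj, Module.finrank_fin_fun]

theorem even_rk {u : XU n F} (h : Alt u) : Even (rk u) := by
  obtain ⟨φ, A, h1, h2, -⟩ := FW.tr (n := n) (F := F)
  have : H54.spMov (φ u) = (LinearMap.range (mt u - 1).mulVecLin).map A.toLinearMap := by
    ext w
    constructor
    · rintro ⟨v, rfl⟩
      obtain ⟨v, rfl⟩ := A.surjective v
      exact ⟨_, ⟨v, rfl⟩, by
        rw [H54.spN_apply, h1, mulVecLin_apply, sub_mulVec, one_mulVec, map_sub]; rfl⟩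
    · rintro ⟨_, ⟨v, rfl⟩, rfl⟩
      exact ⟨A v, by rw [H54.spN_apply, h1, mulVecLin_apply, sub_mulVec, one_mulVec, map_sub]; rfl⟩
  have e := H54.IsAltType.even_finrank (g := φ u) fun v => by
    obtain ⟨v, rfl⟩ := A.surjective v
    rw [h1, h2, H86.SPI.hf_comm]; exact h v
  rwa [this, LinearEquiv.finrank_map_eq] at e

theorem two_rk {u : XU n F} (h : u * u = 1) : rk u + rk u ≤ n + 1 := by
  have := Matrix.rank_add_rank_le_card_of_mul_eq_zero (A := mt u - 1) (B := mt u - 1) (by
    rw [sub_mul, mul_sub, mul_sub, ← mt_mul, h, mt_one, mul_one, one_mul, one_mul]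
    ext i j
    simp [CharTwo.sub_eq_add, add_assoc, CharTwo.add_cancel_left, CharTwo.add_self_eq_zero])
  rwa [Fintype.card_fin] at this

omit p in
theorem jobBN : JobBN := by
  intro n F _ _ _ _ _ p b
  refine ⟨fun u h1 h2 => ?_, fun j hj => ⟨nf_al hj, rk_of_nf (nf_al hj) (by omega), (al_spec hj).1⟩,
    ac_ext fun v => ?_, ac_ext fun v => ?_⟩
  · obtain ⟨j, hj⟩ := even_rk h2
    have h3 := two_rk h1
    have h4 : 4 * j ≤ n + 1 := by omega
    have h5 := nf_al (F := F) h4
    obtain ⟨g, hg⟩ := isConj_iff.1 ((FW.rkc _ _ h5.sq h1).2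
      ⟨by rw [rk_of_nf h5 (by omega), hj, two_mul], iff_of_true h5.alt h2⟩)
    exact ⟨j, g, h4, hg.symm⟩
  · rw [(al_spec (by omega)).2]
    ext i
    simp [NJ]
  · have h5 := p.five
    have h1 : (1 : Fin (n + 1)).val = 1 := by rw [Fin.val_one', Nat.mod_eq_of_lt (by omega)]
    rw [(al_spec (by omega)).2, ac_qq (FV.pp _ _ (hf_ev_ev (by rw [h1, Fin.val_zero]; omega))),
      NJ_succ (j := 0) (a := 0) (b := 1) (by omega) rfl h1]
    ext i
    simp [NJ, add_assoc]

end H9.SPG
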