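import Cfsg.Agent.H28.TESpec

/-! Tower NF (S1308), chapter TE part 1: slot S0. -/

set_option autoImplicit false

open Cfsg Subgroup H14 H98 H1.Gold H31.S2 H14.GC H14.FE H14.NF H28.TE
open scoped commutatorElement

namespace H9.TES0

universe u

theorem jobS0 : H28.TE.JobS0.{u} := by
  intro kt G _ _ Q Q₁ E Q₂ T hL y y' hy hy' hal
  have k := kt G Q Q₁ E Q₂ T hL
  obtain ⟨c, rfl⟩ : ∃ c, y = y' * c := ⟨y'⁻¹ * y, by group⟩
  have cQ : c ∈ Q₁ := (mul_mem_cancel_left hy'.mem).1 hy.mem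
  have cE : c ∈ cen E := (mul_mem_cancel_left hy'.ce).1 hy.ce
  have cT : ∀ t ∈ T, Commute c t := fun t ht => by
    have h := hal t ht
    rw [commutatorElement_def, commutatorElement_def] at h
    have h1 : c * t⁻¹ = t⁻¹ * c := by
      calc c * t⁻¹ = y'⁻¹ * t⁻¹ * (t * (y' * c) * t⁻¹ * (y' * c)⁻¹) * (y' * c) := by group
        _ = t⁻¹ * c := by rw [h]; group
    exact Commute.inv_right_iff.1 h1
  obtain ⟨a, m, hm, ho⟩ := Nat.exists_eq_two_pow_mul_odd (orderOf_pos c).ne'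
  obtain ⟨t, ht, -, -, t2, -⟩ := hL.fT
  have cm : c ^ m ∈ E := k.mx _ (pow_mem cQ m) (pow_mem cE m)
    ⟨a, by rw [← pow_mul, mul_comm, ← ho, pow_orderOf_eq_one]⟩ t ht t2.1 ((cT t ht).pow_left m)
  obtain ⟨s, hs⟩ : ∃ s, s = (y' * y')⁻¹ * (y' * c * (y' * c)) := ⟨_, rfl⟩
  have sE : s ∈ E := hs ▸ mul_mem (inv_mem hy'.sq) hy.sq
  have sc : Commute s c := mem_centralizer_iff.1 cE s sE
  have e1 : y'⁻¹ * c * y' = s * c⁻¹ := by rw [hs]; group
  have e2 : y'⁻¹ * c ^ m * y' = c ^ m := by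
    rw [mul_assoc, mem_centralizer_iff.1 hy'.ce _ cm, inv_mul_cancel_left]
  have e3 : s ^ m = s := by
    obtain ⟨n, rfl⟩ := hm
    rw [pow_succ, pow_mul, pow_two, hL.elE s sE, one_pow, one_mul]
  have e4 : c ^ m = s * (c ^ m)⁻¹ := by
    have := conj_pow (a := y'⁻¹) (b := c) (i := m)
    rw [inv_inv, e1, e2, sc.inv_right.mul_pow, e3, inv_pow] at this
    exact this.symm
  have e5 : s = 1 := by rw [← hL.elE _ cm, eq_mul_inv_iff_mul_eq.1 e4]
  rw [e5] at hs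
  exact (inv_mul_eq_one.1 hs.symm).symm

end H9.TES0
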