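import Cfsg.Agent.H90.RFKit2

/-! RF tower: the member of a coset of inner automorphisms that commutes with a fixed point free
automorphism. -/

set_option autoImplicit false

open Subgroup H90.RF H92

namespace H9.RF

section
variable {X A : Type*} [Group X] [Finite X] [Group A] {ι : X →* A} {δ : X →* X} {k : A}
  (hk : ∀ c, k * ι c * k⁻¹ = ι (δ c)) (hδ : MonoidHom.FixedPointFree δ)
include hk hδ

theorem fix_coset {g : A} (hg : g⁻¹ * (k * g * k⁻¹) ∈ ι.range) : ∃ c, Commute k (g * ι c) := by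
  obtain ⟨v, e⟩ := hg
  obtain ⟨c, rfl⟩ := hδ.commutatorMap_surjective v
  rw [MonoidHom.commutatorMap_apply, div_eq_mul_inv, map_mul, map_inv, ← hk] at e
  refine ⟨c, ?_⟩
  calc k * (g * ι c) = g * (g⁻¹ * (k * g * k⁻¹)) * k * ι c := by group
    _ = _ := by rw [← e]; group

theorem inn_one {x : A} (hx : x ∈ ι.range) (h : Commute k x) : x = 1 := by
  obtain ⟨s, rfl⟩ := hx
  let f : ι.ker → ι.ker := fun c => ⟨c / δ c, by
    rw [MonoidHom.mem_ker, map_div, ← hk, MonoidHom.mem_ker.1 c.2]; simp⟩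
  have : Function.Injective f := fun a b e =>
    Subtype.ext (hδ.commutatorMap_injective (congrArg Subtype.val e))
  obtain ⟨c, e⟩ := Finite.surjective_of_injective this ⟨s / δ s, by
    rw [MonoidHom.mem_ker, map_div, ← hk, h.eq]; simp⟩
  exact hδ.commutatorMap_injective (congrArg Subtype.val e) ▸ c.2

end

variable {P : Type*} [Group P] [Finite P] {X : Subgroup P} {Y : Subgroup (Equiv.Perm P)}
  {z : ℕ → Subgroup P} {n : ℕ}

theorem exists_rigid (l : Lg X Y) (hz : ∀ i ≤ n, z i ≤ X) (pr : ∀ β, Au X β → ∀ i, Pr β (z i))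
    (inn : ∀ s ∈ X, (∃ y ∈ Y, ∀ c ∈ X, y c = s * c * s⁻¹) ∧ Cg z n (fun c => s * c * s⁻¹) id)
    (rad : ∀ y ∈ Y, Cg z n y id → ∃ s ∈ X, ∀ c ∈ X, y c = s * c * s⁻¹)
    {I : Type*} (d : I → P → P) (hd : ∀ p, ∃ y ∈ Y, ∀ c ∈ X, y c = d p c)
    {ν : P → P} (aν : Au X ν) (w : I → I) (hw : ∀ p, ∀ c ∈ X, ν (d p c) = d (w p) (ν c))
    (k : I) (wk : w k = k) (dk : ∀ p, ∀ c ∈ X, d k (d p c) = d p (d k c))
    (fpf : ∀ c ∈ X, d k c = c → c = 1) {g : Equiv.Perm P} (hg : g ∈ Y) (cg : Cg z n g ν) :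
    ∃ m ∈ Y, ∃ β, Au X β ∧ Cg z n β id ∧ (∀ p, ∀ c ∈ X, β (d p c) = d p (β c)) ∧
      ∀ c ∈ X, m c = ν (β c) := by
  have lift : ∀ y ∈ Y, ∃ α : MulAut X, af α = y := fun y hy => ⟨(l.au y hy).toAut, Equiv.ext fun c => by
    by_cases hc : c ∈ X
    exacts [Au.af_toAut _ hc, by rw [af_of_not_mem _ hc, l.out y hy c hc]]⟩
  have cp : ∀ {α β : MulAut X} {γ δ : P → P}, Cg z n (af α) γ → Cg z n (af β) δ → Pr δ X →
      (∀ i, Pr δ (z i)) → Cg z n (af (α * β)) fun c => γ (δ c) := fun {α β γ δ} h1 h2 h3 h4 =>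
    ((h2.comp_left (au_af α) (pr _ (au_af α)) hz (au_af β).mem h3).trans (h1.comp_right h4)).congr hz
      (fun c _ => (af_mul_apply α β c).symm) fun _ _ => rfl
  let N : Subgroup (MulAut X) :=
    { carrier := {α | Cg z n (af α) id}
      one_mem' := (Cg.refl z n id).congr hz (fun c _ => (af_one_apply c).symm) fun _ _ => rfl
      mul_mem' := fun h1 h2 => cp h1 h2 (fun _ h => h) fun _ _ h => h
      inv_mem' := fun {α} h => ((Cg.comp_right h (pr _ (au_af α⁻¹))).congr hz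
        (fun c _ => af_af_inv α c) fun _ _ => rfl).symm }
  have nN : N.Normal := ⟨fun α h β => (cp (cp (Cg.refl z n (af β)) h (fun _ h => h) fun _ _ h => h)
    (Cg.refl z n (af β⁻¹)) (au_af _).mem (pr _ (au_af _))).congr hz (fun _ _ => rfl)
      fun c _ => af_af_inv β c⟩
  have cj : ∀ (s : X), ∀ c ∈ X, af (MulAut.conj s) c = s * c * (s : P)⁻¹ := fun s c hc => by
    rw [af_of_mem _ hc]; rfl
  have rd : ∀ α ∈ Y.comap af, α ∈ N → α ∈ (MulAut.conj (G := X)).range := fun α h1 h2 => by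
    obtain ⟨s, hs, e⟩ := rad _ h1 h2
    exact ⟨⟨s, hs⟩, aut_ext fun c hc => by rw [cj _ c hc, e c hc]⟩
  have iY : ∀ s : X, MulAut.conj s ∈ Y.comap af ∧ MulAut.conj s ∈ N := fun s => by
    obtain ⟨⟨y, hy, e⟩, h⟩ := inn s s.2
    obtain ⟨α, rfl⟩ := lift y hy
    exact ⟨(aut_ext fun c hc => by rw [cj _ c hc, e c hc] : α = MulAut.conj s) ▸ hy,
      h.congr hz (fun c hc => (cj s c hc).symm) fun _ _ => rfl⟩
  have hd' : ∀ p, ∃ α ∈ Y.comap af, ∀ c ∈ X, af α c = d p c := fun p => by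
    obtain ⟨y, hy, e⟩ := hd p
    obtain ⟨α, rfl⟩ := lift y hy
    exact ⟨α, hy, e⟩
  choose D DY De using hd'
  obtain ⟨g, rfl⟩ := lift g hg
  have ev := fun c (hc : c ∈ X) => aν.af_toAut hc
  generalize aν.toAut = v at ev
  have gv : v⁻¹ * g ∈ N := (cp (Cg.refl z n (af v⁻¹)) cg aν.mem (pr _ aν)).congr hz (fun _ _ => rfl)
    fun c hc => by rw [← ev c hc, af_inv_af]; rfl
  have vD : ∀ p, v * D p = D (w p) * v := fun p => aut_ext fun c hc => by
    rw [af_mul_apply, af_mul_apply, ev _ (af_mem _ hc), De p c hc, De _ _ (af_mem _ hc), ev c hc,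
      hw p c hc]
  have kD : ∀ p, Commute (D k) (D p) := fun p => aut_ext fun c hc => by
    rw [af_mul_apply, af_mul_apply, De _ _ (af_mem _ hc), De _ _ (af_mem _ hc), De _ _ hc, De _ _ hc,
      dk p c hc]
  have kv : D k * v = v * D k := by rw [vD, wk]
  have hk : ∀ c : X, D k * MulAut.conj c * (D k)⁻¹ = MulAut.conj ((D k).toMonoidHom c) := fun c =>
    MulEquiv.ext fun x => by simp
  have hδ : MonoidHom.FixedPointFree (D k).toMonoidHom := fun c e => Subtype.ext (fpf c c.2 (by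
    rw [← De k c c.2, af_coe]; exact congrArg Subtype.val e))
  obtain ⟨c, hc⟩ := fix_coset hk hδ (g := g) (rd _ (mul_mem (inv_mem hg) (mul_mem (mul_mem (DY k) hg)
    (inv_mem (DY k)))) (by
      convert mul_mem (inv_mem gv) (nN.conj_mem _ gv (D k)) using 1
      calc _ = g⁻¹ * (v * D k) * v⁻¹ * g * (D k)⁻¹ := by rw [← kv]; group
        _ = _ := by group))
  have mY := mul_mem (show g ∈ Y.comap af from hg) (iY c).1
  have mv := mul_mem gv (iY c).2
  rw [mul_assoc] at mv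
  generalize g * MulAut.conj c = m at hc mY mv
  refine ⟨_, mY, af (v⁻¹ * m), au_af _, mv, fun p x hx => ?_, fun x hx => ?_⟩
  · have e := inn_one hk hδ (rd _ (mul_mem (mul_mem (mul_mem mY (DY p)) (inv_mem mY))
      (inv_mem (DY (w p)))) (by
        convert nN.conj_mem _ (mul_mem mv (nN.conj_mem _ (inv_mem mv) (D p))) v using 1
        rw [← mul_inv_eq_iff_eq_mul.2 (vD p)]; group))
      (((hc.mul_right (kD p)).mul_right hc.inv_right).mul_right (kD _).inv_right)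
    rw [mul_inv_eq_one, ← mul_inv_eq_iff_eq_mul.2 (vD p)] at e
    rw [← De p x hx, ← De p _ (af_mem _ hx), ← af_mul_apply, ← af_mul_apply (D p)]
    congr 2
    calc _ = v⁻¹ * (m * D p * m⁻¹) * m := by group
      _ = _ := by rw [e]; group
  · rw [← ev _ (af_mem _ hx), ← af_mul_apply, mul_inv_cancel_left]

end H9.RF
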