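import Cfsg.Agent.H11.SPR
import Cfsg.Agent.H91.Spectrum
import Cfsg.Agent.H1.GBasic
import Cfsg.Agent.S1279
import Cfsg.Agent.S0217

/-! SPECTRA, job He2: abelian Sylow subgroups of rank three with solvable centralizers. -/

set_option autoImplicit false

namespace H9.SP

open Cfsg Subgroup H14 H98 H1.Gold H40.SP

universe u

variable {G : Type*} [Group G] [Finite G] {p : ℕ} [Fact p.Prime]

/-- A solvable group with an abelian Sylow subgroup `P` is `N(P) O_{p'}`. -/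
theorem sol_fr [Group.IsSolvable G] {P : Subgroup G} (hP : IsSyl p P ⊤) (ab : P ≤ cen P) (g : G) :
    ∃ n ∈ nor P, ∃ k ∈ pPrimeCore p G, g = n * k := by
  let f := QuotientGroup.mk' (pPrimeCore p G)
  have hf : Function.Surjective f := QuotientGroup.mk'_surjective _
  have h1 : IsSyl p (P.map f) ⊤ := map_top_of_surjective f hf ▸ hP.map f
  have h2 : pCore p _ ≤ P.map f := H2.pCore_le_sylow h1.toSylowTop
  have h3 : P.map f ≤ pCore p _ := ((map_le_centralizer_map f ab).trans (centralizer_anti h2)).trans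
    (H2.centralizer_pCore_le (H2.pPrimeCore_quotient_pPrimeCore p G))
  have h4 : (P ⊔ pPrimeCore p G).Normal := by
    have : P ⊔ pPrimeCore p G = (pCore p _).comap f := by
      rw [← le_antisymm h3 h2, comap_map_eq, QuotientGroup.ker_mk']
    rw [this]; infer_instance
  obtain ⟨a, ha, n, hn, rfl⟩ := (hP.of_le (K := P ⊔ pPrimeCore p G) le_sup_left le_top).frattini_mem
    (le_normalizer_of_normal (mem_top g))
  obtain ⟨x, hx, k, hk, rfl⟩ := (mem_sup_left_norm le_normalizer_of_normal).1 hn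
  exact ⟨a * x, mul_mem ha (le_normalizer hx), k, hk, (mul_assoc _ _ _).symm⟩

theorem sol_le {P C : Subgroup G} (hC : Group.IsSolvable C) (hP : IsSyl p P C) (ab : P ≤ cen P) :
    C ≤ nor P ⊔ opp p C := fun g hg => by
  obtain ⟨n, hn, k, hk, e⟩ := sol_fr hP.subgroupOf_top (by
    rw [cen, centralizer_subgroupOf hP.le]; exact fun x hx => ab hx) ⟨g, hg⟩
  have := map_le_normalizer_map C.subtype le_rfl (mem_map_of_mem _ hn)
  rw [map_subgroupOf_eq_of_le hP.le] at this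
  rw [show g = n * k from congrArg Subtype.val e]
  exact mul_mem (mem_sup_left this) (mem_sup_right (mem_map_of_mem _ hk))

/-- `P` acts freely on the cosets of `M` other than `M`. -/
theorem index_modEq {P M : Subgroup G} (hP : IsSyl p P ⊤) (ab : P ≤ cen P) (hN : nor P ≤ M)
    (hC : ∀ a ∈ P, a ≠ 1 → cen1 a ≤ M) : M.index ≡ 1 [MOD Nat.card P] := by
  have hPM : P ≤ M := le_normalizer.trans hN
  have hM := hP.of_le hPM le_top
  refine H5.card_modEq_one_of_semiregular (A := P) ((1 : G) : G ⧸ M)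
    (fun a => QuotientGroup.eq.2 (by simpa using hPM a.2)) fun a x e ne => ?_
  induction x using QuotientGroup.induction_on with | H g => ?_
  have m : g⁻¹ * a * g⁻¹⁻¹ ∈ M := by
    simpa [mul_assoc] using QuotientGroup.eq.1 e.symm
  by_contra a1
  have l : cj g⁻¹ (zpowers (a : G)) ≤ M := by
    rw [cj, MonoidHom.map_zpowers]; exact zpowers_le.2 m
  obtain ⟨k, hk, e1⟩ := hM.exists_cj_le
    (isPGroup_cj _ (hP.isPGroup.to_le (zpowers_le.2 a.2))) l
  rw [cj_cj] at e1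
  have l2 : cj (k * g⁻¹) P ≤ M := (cj_mono _ (ab.trans (cen_le_cen1 a.2))).trans (by
    rw [cj_cen1]
    exact hC _ (e1 (conj_mem_cj (mem_zpowers _))) fun e2 => a1 (Subtype.ext (conj_eq_one_iff.1 e2)))
  obtain ⟨k', hk', e2⟩ := hM.exists_cj_le (isPGroup_cj _ hP.isPGroup) l2
  rw [cj_cj] at e2
  have := (M.mul_mem_cancel_left hk).1 ((M.mul_mem_cancel_left hk').1
    (hN (mem_normalizer_of_cj_le e2)))
  exact ne (QuotientGroup.eq.2 (by rwa [mul_one]))

/-- The signalizer functor argument. -/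
theorem exists_M [IsSimpleGroup G] {P : Subgroup G} (hP : IsSyl p P ⊤)
    (el : IsElementaryAbelian p P) (h3 : p ^ 3 ≤ Nat.card P) (hG : P ≠ ⊤)
    (sol : ∀ a ∈ P, a ≠ 1 → Group.IsSolvable (cen1 a)) :
    ∃ M : Subgroup G, M ≠ ⊤ ∧ nor P ≤ M ∧ ∀ a ∈ P, a ≠ 1 → cen1 a ≤ M := by
  have hp : p.Prime := Fact.out
  have ab : P ≤ cen P := haveI := el.1; le_centralizer P
  obtain ⟨⟨f1, f2, f3, f4⟩, f5⟩ := Cfsg.Agent.S1279.result p P el
    ((Nat.pow_le_pow_right hp.pos (by norm_num)).trans h3) sol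
  obtain ⟨k1, -⟩ := Cfsg.Agent.S0217.result P (fun a ha b hb => ab hb a ha) el.2 h3 _ f1 f2 f3 f5 f4
  set K := ⨆ a : {a : G // a ∈ P ∧ a ≠ 1}, centralizerPPrimeCore p (a : G) with hK
  have nK : nor P ≤ nor K := fun n hn => mem_normalizer_of_cj_le (cj_le_iff.2 (iSup_le fun a => by
    rw [← cj_le_iff]
    refine le_trans ?_ (le_iSup (fun a : {a : G // a ∈ P ∧ a ≠ 1} => centralizerPPrimeCore p (a : G))
      ⟨n * a * n⁻¹, conj_mem_of_mem_normalizer hn a.2.1, fun e => a.2.2 (conj_eq_one_iff.1 e)⟩)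
    exact ((cj_opp n _).trans (congrArg _ (cj_cen1 n a))).le))
  have P0 : P ≠ ⊥ := fun e => by
    rw [e, card_bot] at h3
    exact absurd h3 (not_le.2 (Nat.one_lt_pow (by norm_num) hp.one_lt))
  refine ⟨nor P ⊔ K, fun e => ?_, le_sup_left, fun a ha a1 => ?_⟩
  · rcases (normal_of_top_le_normalizer (e.ge.trans (sup_le nK le_normalizer))).eq_bot_or_eq_top
      with e1 | e1
    · rw [e1, sup_bot_eq] at e
      exact (normal_of_top_le_normalizer e.ge).eq_bot_or_eq_top.elim P0 hG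
    · refine k1 (dvd_trans ?_ (card_dvd_of_le (le_top.trans e1.ge : P ≤ K)))
      by_contra e2
      exact P0 ((isSyl_self hP.isPGroup).eq_bot_iff.2 e2)
  · refine (sol_le (sol a ha a1) (hP.of_le (ab.trans (cen_le_cen1 ha)) le_top) ab).trans
      (sup_le_sup_left ?_ _)
    exact le_iSup (fun a : {a : G // a ∈ P ∧ a ≠ 1} => centralizerPPrimeCore p (a : G)) ⟨a, ha, a1⟩

theorem arith {d : ℕ} (h : d ∣ 2 ^ 10 * 3 ^ 3 * 5 ^ 2 * 17 ^ 1) (h1 : d ≡ 1 [MOD 343]) : d = 1 := by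
  obtain ⟨e1, d2, b1, a2, rfl⟩ := (Nat.dvd_mul).1 h
  obtain ⟨e2, d3, b2, a3, rfl⟩ := (Nat.dvd_mul).1 b1
  obtain ⟨d1, d4, a1, a4, rfl⟩ := (Nat.dvd_mul).1 b2
  obtain ⟨i, hi, rfl⟩ := (Nat.dvd_prime_pow Nat.prime_two).1 a1
  obtain ⟨j, hj, rfl⟩ := (Nat.dvd_prime_pow Nat.prime_three).1 a4
  obtain ⟨k, hk, rfl⟩ := (Nat.dvd_prime_pow Nat.prime_five).1 a3
  obtain ⟨l, hl, rfl⟩ := (Nat.dvd_prime_pow (by norm_num : Nat.Prime 17)).1 a2
  exact (by decide +kernel : ∀ i ≤ 10, ∀ j ≤ 3, ∀ k ≤ 2, ∀ l ≤ 1,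
    2 ^ i * 3 ^ j * 5 ^ k * 17 ^ l % 343 = 1 % 343 → 2 ^ i * 3 ^ j * 5 ^ k * 17 ^ l = 1)
    i hi j hj k hk l hl h1

theorem jobHe2 : JobHe2.{u} := by
  intro S _ _ _ c n49 sol P ab
  have : Fact (Nat.Prime 7) := ⟨by norm_num⟩
  have cP : Nat.card (P : Subgroup S) = 7 ^ 3 :=
    H87.card_sylow_eq P (a := 3) (m := 11750400) c (by decide)
  have o7 : ∀ x ∈ (P : Subgroup S), x ^ 7 = 1 := fun x hx => by
    obtain ⟨i, -, hi⟩ := (Nat.dvd_prime_pow this.out).1 (cP ▸ orderOf_dvd_natCard _ hx)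
    rw [← orderOf_dvd_iff_pow_eq_one, hi]
    by_contra e
    refine n49 (H91.mem_range_orderOf_of_dvd (m := 7 ^ 2) (pow_dvd_pow 7 ?_) ⟨x, hi⟩)
    by_contra e2
    have : i ≤ 1 := by omega
    exact e (by simpa using pow_dvd_pow 7 this)
  obtain ⟨M, m1, m2, m3⟩ := exists_M (isSyl_sylow P) ⟨ab, o7⟩ cP.ge
    (fun e => by rw [e, card_top, c] at cP; norm_num at cP)
    fun a ha a1 => sol a (orderOf_eq_prime (o7 a ha) a1)
  have h1 := index_modEq (isSyl_sylow P) (le_centralizer _) m2 m3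
  have h2 : (P : Subgroup S).index = 2 ^ 10 * 3 ^ 3 * 5 ^ 2 * 17 ^ 1 := by
    have := (P : Subgroup S).card_mul_index
    rw [cP, c] at this
    omega
  exact m1 (index_eq_one.1 (arith (h2 ▸ index_dvd_of_le (le_normalizer.trans m2)) (by rwa [cP] at h1)))

end H9.SP
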