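import Cfsg.Agent.H9.SpHe2
import Cfsg.Agent.H24.J1Ord
import Cfsg.Agent.H42.ReeFinal
import Cfsg.Agent.H74.JK7
import Cfsg.Agent.H1.Coprime2

/-! SPECTRA, job J1: lifting a Frobenius subgroup of order `55`. -/

set_option autoImplicit false

namespace H9.SP

open Cfsg Subgroup H14 H98 H1.Gold H40.SP H11.SP
open scoped commutatorElement

universe u

theorem frob_J : ∃ x z : H74.J1.J, orderOf x = 11 ∧ z ^ 5 = 1 ∧ z ∈ nor (zpowers x) ∧
    z * x ≠ x * z := by
  have : Fact (Nat.Prime 11) := ⟨by norm_num⟩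
  have : Fact (Nat.Prime 5) := ⟨by norm_num⟩
  have c := H74.J1.card
  obtain ⟨x, o⟩ := exists_prime_orderOf_dvd_card' (G := H74.J1.J) 11 (by rw [c]; norm_num)
  have h0 := H74.JK.jh_J.1.cent_prime c (Or.inr (Or.inl rfl)) o
  obtain ⟨n, e, k, h1, h2, h3, h4, h5, h6⟩ := H74.JK.cent_data (p := 11) (by norm_num)
    (by rw [c]; norm_num) (by rw [c]; norm_num) o
  obtain rfl : k = 1 := by omega
  obtain rfl : e = 10 := by
    have := Nat.le_of_dvd (by norm_num) h3
    rw [c] at h4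
    interval_cases e <;> omega
  obtain ⟨z, oz⟩ := exists_prime_orderOf_dvd_card' (G := nor (zpowers x)) 5 (by rw [h6]; norm_num)
  rw [← orderOf_coe] at oz
  refine ⟨x, z, o, orderOf_dvd_iff_pow_eq_one.1 oz.dvd, z.2, fun e => ?_⟩
  have := orderOf_dvd_natCard _ (mem_cen1.2 e)
  rw [h0, oz] at this
  norm_num at this

variable {G : Type*} [Group G]

theorem map_frob {G' : Type*} [Group G'] (f : G →* G') (hf : Function.Injective f)
    (h : ∃ x z : G, orderOf x = 11 ∧ z ^ 5 = 1 ∧ z ∈ nor (zpowers x) ∧ z * x ≠ x * z) :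
    ∃ x z : G', x ∈ f.range ∧ orderOf x = 11 ∧ z ^ 5 = 1 ∧ z ∈ nor (zpowers x) ∧ z * x ≠ x * z := by
  obtain ⟨x, z, h1, h2, h3, h4⟩ := h
  refine ⟨f x, f z, ⟨x, rfl⟩, by rw [orderOf_injective f hf, h1], by rw [← map_pow, h2, map_one],
    ?_, fun e => h4 (hf (by rw [map_mul, map_mul, e]))⟩
  rw [← MonoidHom.map_zpowers]
  exact map_le_normalizer_map f le_rfl (mem_map_of_mem f h3)

theorem pow_mul_mem {C : Subgroup G} {z c : G} (hz : z ∈ nor C) (hc : c ∈ C) (n : ℕ) :
    (z ^ n)⁻¹ * (z * c) ^ n ∈ C := by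
  induction n with
  | zero => simp
  | succ n ih =>
    have := mul_mem (conj_mem_of_mem_normalizer' hz ih) hc
    convert this using 1
    rw [pow_succ, pow_succ]; group

theorem mem_of_cop {C : Subgroup G} {z : G} {m n : ℕ} (h : m.Coprime n) (hm : z ^ m ∈ C)
    (hn : z ^ n ∈ C) : z ∈ C := by
  have := mul_mem (zpow_mem hm (Nat.gcdA m n)) (zpow_mem hn (Nat.gcdB m n))
  rwa [← zpow_natCast, ← zpow_natCast, ← zpow_mul, ← zpow_mul, ← zpow_add, ← Nat.gcd_eq_gcd_ab, h,
    Nat.cast_one, zpow_one] at this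

theorem om_of_surj [Finite G] {A : Type*} [Group A] {π : G →* A} (hπ : Function.Surjective π)
    {n : ℕ} (h : n ∈ om A) : n ∈ om G := by
  obtain ⟨a, rfl⟩ := h
  obtain ⟨g, rfl⟩ := hπ a
  exact H91.mem_range_orderOf_of_dvd (orderOf_map_dvd π g) ⟨g, rfl⟩

theorem jobJ1 : JobJ1.{u} := by
  intro G A _ _ _ π S aq c o37 n25 n185 n407
  have := aq.simple
  have := aq.normal
  have : Finite A := .of_surjective π aq.surj
  have f11 : Fact (Nat.Prime 11) := ⟨by norm_num⟩
  have p37 : Nat.Prime 37 := by norm_num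
  have k37 : 37 ∣ Nat.card π.ker := by
    have h1 : 37 ∣ Nat.card G := by
      obtain ⟨g, hg⟩ := o37
      exact hg ▸ _root_.orderOf_dvd_natCard g
    rw [card_eq_card_quotient_mul_card_subgroup π.ker,
      Nat.card_congr (QuotientGroup.quotientKerEquivOfSurjective π aq.surj).toEquiv,
      p37.dvd_mul] at h1
    refine h1.resolve_left fun h2 => ?_
    have := jobRA A S aq.normal 37 11 1 1 p37 f11.out (by norm_num) one_pos (by rw [c]; unfold PP; norm_num)
      (fun e => n407 (om_of_surj aq.surj e)) (by simpa using h2)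
    rw [c] at this
    norm_num at this
  obtain ⟨R, R0, hR, hN⟩ := frat_ker aq.surj p37 k37
  obtain ⟨e⟩ := H24.isoJ1_of_card H42.Ree.walterB c
  obtain ⟨x, z, -, ox, oz, zn, zx⟩ := map_frob (S.subtype.comp
    (H74.J1.equivJ1.trans e.symm).toMonoidHom)
    (S.subtype_injective.comp (H74.J1.equivJ1.trans e.symm).injective) frob_J
  obtain ⟨Q, hQ⟩ := exists_isSyl 11 (nor R ⊓ (zpowers x).comap π)
  obtain ⟨g, hg, rfl⟩ := hN z
  obtain ⟨a, ha, n, hn, rfl⟩ := hQ.frattini_mem (g := g)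
    (le_normalizer_inf (H := nor R ⊓ (nor (zpowers x)).comap π) (inf_le_left.trans le_normalizer)
      (inf_le_right.trans (comap_le_normalizer_comap π le_rfl)) ⟨hg, zn⟩)
  have aR : a ∈ nor R := (Subgroup.mul_mem_cancel_right _ hn.1).1 hg
  have xc : zpowers x ≤ cen (zpowers x) := le_centralizer _
  have a1 : π a ∉ cen (zpowers x) := fun e1 => zx (by
    rw [map_mul]
    exact (mem_centralizer_iff.1 (mul_mem e1 (xc hn.2)) x (mem_zpowers x)).symm)
  have a5 : π a ^ 5 ∈ cen (zpowers x) := by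
    have := pow_mul_mem (normalizer_le_normalizer_centralizer _ zn) (inv_mem (xc hn.2)) 5
    rwa [oz, inv_one, one_mul, map_mul, mul_inv_cancel_right] at this
  obtain ⟨i, m, hm, em⟩ := Nat.exists_eq_pow_mul_and_not_dvd (orderOf_pos a).ne' 5 (by norm_num)
  have w5 : (a ^ m) ^ 5 = 1 := by
    rw [← pow_mul, ← orderOf_dvd_iff_pow_eq_one, em, mul_comm m]
    refine mul_dvd_mul_right ?_ _
    by_contra e1
    refine n25 (H91.mem_range_orderOf_of_dvd (m := 5 ^ 2)
      ((pow_dvd_pow 5 ?_).mul_right m) ⟨a, em⟩)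
    by_contra e2
    exact e1 (by simpa using pow_dvd_pow 5 (show i ≤ 1 by omega))
  have w1 : π (a ^ m) ∉ cen (zpowers x) := fun e1 => a1 (by
    rw [map_pow] at e1
    exact mem_of_cop (Nat.prime_five.coprime_iff_not_dvd.2 hm) a5 e1)
  have wQ : a ^ m ∈ nor Q := pow_mem ha m
  have wR : a ^ m ∈ nor R := pow_mem aR m
  generalize a ^ m = w at w5 w1 wQ wR
  have : Fact (Nat.Prime 5) := ⟨Nat.prime_five⟩
  have ow : orderOf w = 5 := orderOf_eq_prime w5 fun e => w1 (by rw [e, map_one]; exact one_mem _)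
  have QR : Q ≤ nor R := hQ.le.trans inf_le_left
  have cy := (H5.isCyclic_or_quaternion_of_fpf R0 QR
    (fpf p37 f11.out (by norm_num) n407 hR hQ.isPGroup) hQ.isPGroup).resolve_right
    fun h => absurd h.1 (by norm_num)
  have cm : IsMulCommutative Q := inferInstance
  have hW : zpowers w ≤ nor Q := zpowers_le.2 wQ
  have fp : ∀ h ∈ zpowers w ⊔ Q, h ≠ 1 → R ⊓ centralizer {h} = ⊥ := by
    intro h hh h1
    obtain ⟨_, ⟨j, rfl⟩, q, hq, rfl⟩ := (mem_sup_left_norm hW).1 hh
    have e1 := pow_mul_mem (hW ⟨j, rfl⟩) hq 5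
    rw [← zpow_natCast, ← zpow_mul, mul_comm j, zpow_mul, zpow_natCast, w5, one_zpow, inv_one,
      one_mul] at e1
    by_cases e2 : (w ^ j * q) ^ 5 = 1
    · exact fpf1 p37 (s := 5) (by norm_num) n185 hR (dvd_of_eq (orderOf_eq_prime e2 h1).symm)
    · exact fpf1 p37 (s := 11) (by norm_num) n407 hR
        ((dvd_ord f11.out hQ.isPGroup e1 e2).trans (orderOf_pow_dvd 5))
  have cop : (Nat.card (zpowers w)).Coprime (Nat.card Q) := by
    obtain ⟨k, hk⟩ := IsPGroup.iff_card.1 hQ.isPGroup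
    rw [Nat.card_zpowers, ow, hk]
    exact Nat.Coprime.pow_right _ (by norm_num)
  have l : ⁅Q, zpowers w⁆ ≤ Q := commutator_le_left' hW
  have b := H5.eq_bot_of_fpf_of_fpf R0 (sup_le (zpowers_le.2 wR) QR) fp (R := ⁅Q, zpowers w⁆)
    (B := zpowers w) (l.trans le_sup_right) le_sup_left
    (le_normalizer_commutator hW le_normalizer) (fun b hb b1 => eq_bot_iff.2 (le_trans
      (le_inf (le_inf (inf_le_left.trans l) (inf_le_right.trans ?_)) inf_le_left)
      (H1.centralizer_inf_commutator_eq_bot hW cop).le))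
    (fun e => w1 (by rw [zpowers_eq_bot.1 e, map_one]; exact one_mem _))
  · have h1 := hQ.map π
    have h2 : (nor R ⊓ (zpowers x).comap π).map π = zpowers x :=
      le_antisymm (map_le_iff_le_comap.2 inf_le_right) fun y hy => by
        obtain ⟨k, hk, rfl⟩ := hN y
        exact ⟨k, ⟨hk, hy⟩, rfl⟩
    rw [h2] at h1
    have h3 := map_le_centralizer_map π
      (le_centralizer_iff.1 (commutator_eq_bot_iff_le_centralizer.1 b))
    rw [h1.eq_of_isPGroup (isPGroup_zpowers (k := 1) (by rw [pow_one, ← ox, pow_orderOf_eq_one]))]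
      at h3
    exact w1 (h3 (mem_map_of_mem π (mem_zpowers w)))
  · have : zpowers b = zpowers w := eq_of_le_of_card_ge (zpowers_le.2 hb) (by
      obtain ⟨j, rfl⟩ := hb
      rw [Nat.card_zpowers, Nat.card_zpowers, ow, orderOf_eq_prime (p := 5) (by
        rw [← zpow_natCast, ← zpow_mul, mul_comm j, zpow_mul, zpow_natCast, w5, one_zpow]) b1])
    rw [← this]
    exact (cen1_eq b).le

end H9.SP
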