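import Cfsg.Agent.H48.DC4Spec

/-! Job VZ of the chapter C4 of S3275: `z` centralises `Ω₁(Z(Q))`. -/

set_option autoImplicit false

namespace H9.DC4VZ

open Subgroup Cfsg H98 H48.DP H57.DPC H48.DP2

universe u

theorem four {T : Type*} [AddCommGroup T] [Finite T] (h2 : ∀ x : T, x + x = 0) (Z : T →+ T)
    (hZ : ∀ x, Z (Z (Z x)) = x) (p : T → Prop) (p0 : p 0) (pZ : ∀ x, p x → p (Z x)) {a : T}
    (ha : p a) (hN : a + Z a + Z (Z a) = 0) (a0 : a ≠ 0) : 4 ≤ Nat.card {x // p x} := by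
  have zi : Function.Injective Z := fun x y e => by rw [← hZ x, e, hZ]
  have h1 : Z a ≠ 0 := fun e => a0 (zi (by rw [e, map_zero]))
  have h3 : Z (Z a) ≠ 0 := fun e => h1 (zi (by rw [e, map_zero]))
  have h4 : a ≠ Z a := fun e => a0 (by
    rw [← e, ← e, h2, zero_add] at hN
    exact hN)
  have h5 : Z a ≠ Z (Z a) := fun e => h4 (zi e)
  have h6 : a ≠ Z (Z a) := fun e => h4 (by
    have := congrArg Z e
    rw [hZ] at this
    exact this.symm)
  let f : Fin 4 → {x // p x} := ![⟨0, p0⟩, ⟨a, ha⟩, ⟨Z a, pZ _ ha⟩, ⟨Z (Z a), pZ _ (pZ _ ha)⟩]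
  have hf : Function.Injective f := by
    intro i j e
    have e' := congrArg Subtype.val e
    fin_cases i <;> fin_cases j <;>
      first
        | rfl
        | exact absurd e' a0.symm | exact absurd e' a0 | exact absurd e' h1.symm | exact absurd e' h1
        | exact absurd e' h3.symm | exact absurd e' h3 | exact absurd e' h4.symm | exact absurd e' h4
        | exact absurd e' h5.symm | exact absurd e' h5 | exact absurd e' h6.symm | exact absurd e' h6
  simpa using Nat.card_le_card_of_injective f hf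

theorem core {T : Type*} [AddCommGroup T] [Finite T] (h2 : ∀ x : T, x + x = 0) (Y Z U : T →+ T)
    (hY : ∀ x, Y (Y (Y x)) = x) (hZ : ∀ x, Z (Z (Z x)) = x) (hc : ∀ x, Z (Y x) = Y (Z x))
    (hUZ : ∀ x, U (Z x) = Z (U x)) (hUY : ∀ x, U (Y x) = Y (Z (U x)))
    (hU : ∀ x, U x = 0 → x = 0) {v : T} (hv : Z v ≠ v) :
    64 ≤ (Z - AddMonoidHom.id T).ker.index := by
  have hk : ∀ x, Y (U x) = Z (Z (U (Y x))) := fun x => by rw [hUY, hc, hc, hZ]
  let N : T → Prop := fun x => x + Z x + Z (Z x) = 0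
  let p0 : T → Prop := fun x => N x ∧ Y x = x
  let p1 : T → Prop := fun x => N x ∧ Y x = Z (Z x)
  let p2 : T → Prop := fun x => N x ∧ Y x = Z x
  have NU : ∀ x, N x → N (U x) := fun x h => by
    have := congrArg U h
    simpa only [map_add, hUZ, map_zero] using this
  have NZ : ∀ x, N x → N (Z x) := fun x h => by
    have := congrArg Z h
    simpa only [map_add, map_zero] using this
  have NY : ∀ x, N x → N (Y x) := fun x h => by
    have := congrArg Y h
    simpa only [N, map_add, map_zero, hc] using this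
  have Na : ∀ x y, N x → N y → N (x + y) := fun x y h h' => by
    simp only [N, map_add] at *
    linear_combination (norm := abel) h + h'
  have N0 : N 0 := by simp [N]
  have u0 : ∀ x, p0 x → p1 (U x) := fun x h => ⟨NU x h.1, by rw [hk, h.2]⟩
  have u1 : ∀ x, p1 x → p2 (U x) := fun x h => ⟨NU x h.1, by rw [hk, h.2, hUZ, hUZ, hZ]⟩
  have u2 : ∀ x, p2 x → p0 (U x) := fun x h => ⟨NU x h.1, by rw [hk, h.2, hUZ, hZ]⟩
  have ex : ∃ a, a ≠ 0 ∧ p0 a := by
    have hs : N (Z v - v) := by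
      simp only [N, map_sub, hZ]
      abel
    have s0 : Z v - v ≠ 0 := sub_ne_zero.2 hv
    generalize Z v - v = s at hs s0
    have e0 : p0 (s + Y s + Y (Y s)) := ⟨Na _ _ (Na _ _ hs (NY _ hs)) (NY _ (NY _ hs)), by
      simp only [map_add, hY]
      abel⟩
    have e1 : p1 (s + Y (Z s) + Y (Y (Z (Z s)))) :=
      ⟨Na _ _ (Na _ _ hs (NY _ (NZ _ hs))) (NY _ (NY _ (NZ _ (NZ _ hs)))), by
        simp only [map_add, hY, hZ, hc]
        abel⟩
    have e2 : p2 (s + Y (Z (Z s)) + Y (Y (Z s))) :=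
      ⟨Na _ _ (Na _ _ hs (NY _ (NZ _ (NZ _ hs)))) (NY _ (NY _ (NZ _ hs))), by
        simp only [map_add, hY, hZ, hc]
        abel⟩
    by_contra hn
    push Not at hn
    have f0 : s + Y s + Y (Y s) = 0 := by
      by_contra h
      exact hn _ h e0
    have f2 : s + Y (Z (Z s)) + Y (Y (Z s)) = 0 := by
      by_contra h
      exact hn _ (fun e => h (hU _ e)) (u2 _ e2)
    have f1 : s + Y (Z s) + Y (Y (Z (Z s))) = 0 := by
      by_contra h
      exact hn _ (fun e => h (hU _ (hU _ e))) (u2 _ (u1 _ e1))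
    have g1 := congrArg Y hs
    have g2 := congrArg Y g1
    simp only [map_add, map_zero] at g1 g2
    exact s0 (by linear_combination (norm := abel) f0 + f1 + f2 - g1 - g2 - h2 s)
  obtain ⟨a, a0, ha⟩ := ex
  have hb := u0 a ha
  have hc' := u1 _ hb
  have c0 : 4 ≤ Nat.card {x // p0 x} := four h2 Z hZ p0 ⟨N0, map_zero Y⟩
    (fun x h => ⟨NZ x h.1, by rw [← hc, h.2]⟩) ha ha.1 a0
  have c1 : 4 ≤ Nat.card {x // p1 x} := four h2 Z hZ p1 ⟨N0, by simp⟩
    (fun x h => ⟨NZ x h.1, by rw [← hc, h.2]⟩) hb hb.1 fun e => a0 (hU _ e)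
  have c2 : 4 ≤ Nat.card {x // p2 x} := four h2 Z hZ p2 ⟨N0, by simp⟩
    (fun x h => ⟨NZ x h.1, by rw [← hc, h.2]⟩) hc' hc'.1 fun e => a0 (hU _ (hU _ e))
  have hr : ∀ s, N s → s ∈ (Z - AddMonoidHom.id T).range := fun s h => ⟨Z s, by
    simp only [N] at h
    simp only [AddMonoidHom.sub_apply, AddMonoidHom.id_apply]
    linear_combination (norm := abel) h - h2 s - h2 (Z s)⟩
  let f : {x // p0 x} × {x // p1 x} × {x // p2 x} → (Z - AddMonoidHom.id T).range :=
    fun t => ⟨t.1.1 + t.2.1.1 + t.2.2.1, hr _ (Na _ _ (Na _ _ t.1.2.1 t.2.1.2.1) t.2.2.2.1)⟩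
  have hf : Function.Injective f := by
    rintro ⟨⟨x, hx, ex⟩, ⟨x', hx', ex'⟩, ⟨x'', hx'', ex''⟩⟩ ⟨⟨w, hw, ew⟩, ⟨w', hw', ew'⟩, ⟨w'', hw'', ew''⟩⟩ e
    have e0 : x + x' + x'' = w + w' + w'' := congrArg Subtype.val e
    have e1 := congrArg Y e0
    simp only [map_add, ex, ex', ex'', ew, ew', ew''] at e1
    have e2 := congrArg Y e1
    simp only [map_add, ← hc, ex, ex', ex'', ew, ew', ew'', hZ] at e2
    simp only [N] at hx hx' hx'' hw hw' hw''
    have r0 : x = w := by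
      linear_combination (norm := abel) e0 + e1 + e2 - hx' - hx'' + hw' + hw'' - h2 x + h2 w
    subst r0
    have e3 := congrArg Z e1
    have e4 := congrArg Z (congrArg Z e2)
    simp only [map_add, hZ] at e3 e4
    have r1 : x' = w' := by
      linear_combination (norm := abel) e0 + e3 + e4 - hx'' + hw'' - h2 x' + h2 w'
    subst r1
    have r2 : x'' = w'' := add_left_cancel e0
    subst r2
    rfl
  have := Nat.card_le_card_of_injective f hf
  rw [Nat.card_prod, Nat.card_prod] at this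
  rw [AddSubgroup.index_ker]
  calc 64 = 4 * (4 * 4) := rfl
    _ ≤ _ := Nat.mul_le_mul c0 (Nat.mul_le_mul c1 c2)
    _ ≤ _ := this

variable {G : Type u} [Group G]

theorem om_conj {X : Subgroup G} {g : G} (hg : g ∈ No X) {v : G} (hv : v ∈ Om X) :
    g * v * g⁻¹ ∈ Om X := by
  obtain ⟨h1, h2, h3⟩ := hv
  refine ⟨(mem_normalizer_iff.1 hg v).1 h1, mem_centralizer_iff.2 fun x hx => ?_, ?_⟩
  · have hx' : g⁻¹ * x * g⁻¹⁻¹ ∈ X := (mem_normalizer_iff.1 (inv_mem hg) x).1 hx
    have e := mem_centralizer_iff.1 h2 _ hx'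
    calc x * (g * v * g⁻¹) = g * (g⁻¹ * x * g⁻¹⁻¹ * v) * g⁻¹ := by group
      _ = g * v * g⁻¹ * x := by rw [e]; group
  · calc g * v * g⁻¹ * (g * v * g⁻¹) = g * (v * v) * g⁻¹ := by group
      _ = 1 := by rw [h3]; group

theorem om_comm (X : Subgroup G) : IsMulCommutative (Om X) :=
  ⟨⟨fun a b => Subtype.ext (mem_centralizer_iff.1 b.2.2.1 a a.2.1)⟩⟩

/-- conjugation on `Ω₁(Z(X))` -/
def cn (X : Subgroup G) (g : G) (hg : g ∈ No X) : Additive (Om X) →+ Additive (Om X) where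
  toFun v := Additive.ofMul ⟨g * (v.toMul : Om X) * g⁻¹, om_conj hg (v.toMul : Om X).2⟩
  map_zero' := Additive.toMul.injective (Subtype.ext (by simp))
  map_add' a b := Additive.toMul.injective (Subtype.ext (by simp [mul_assoc]))

theorem cn_val (X : Subgroup G) (g : G) (hg : g ∈ No X) (v : Additive (Om X)) :
    (((cn X g hg v).toMul : Om X) : G) = g * (v.toMul : Om X) * g⁻¹ := rfl

open scoped IsMulCommutative in
theorem big [Finite G] {X : Subgroup G} {y z u : G} (hy : y ∈ No X) (hz : z ∈ No X) (hu : u ∈ No X)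
    (y3 : y ^ 3 = 1) (z3 : z ^ 3 = 1) (yz : z * y = y * z) (uz : z * u = u * z)
    (uy : u * y * u⁻¹ = y * z) (h : ¬ Om X ≤ C1 z) : 64 ≤ (C1 z).relIndex (Om X) := by
  have := om_comm X
  obtain ⟨v, hv, hn⟩ := SetLike.not_le_iff_exists.1 h
  have ext : ∀ a b : Additive (Om X), ((a.toMul : Om X) : G) = (b.toMul : Om X) → a = b :=
    fun a b e => Additive.toMul.injective (Subtype.ext e)
  have cube : ∀ g x : G, g ^ 3 = 1 → g * (g * (g * x * g⁻¹) * g⁻¹) * g⁻¹ = x := fun g x e => by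
    calc _ = g ^ 3 * x * (g ^ 3)⁻¹ := by simp only [pow_succ, pow_zero]; group
      _ = x := by rw [e]; group
  have cm : ∀ g k g' k' x : G, g * k = g' * k' →
      g * (k * x * k⁻¹) * g⁻¹ = g' * (k' * x * k'⁻¹) * g'⁻¹ := fun g k g' k' x e => by
    calc _ = (g * k) * x * (g * k)⁻¹ := by group
      _ = _ := by rw [e]; group
  have key := core (T := Additive (Om X)) (fun x => ext _ _ (x.toMul : Om X).2.2.2)
    (cn X y hy) (cn X z hz) (cn X u hu) (fun x => ext _ _ (cube y _ y3))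
    (fun x => ext _ _ (cube z _ z3)) (fun x => ext _ _ (cm _ _ _ _ _ yz))
    (fun x => ext _ _ (cm _ _ _ _ _ uz.symm)) (fun x => ext _ _ (by
      simp only [cn_val]
      calc _ = (u * y * u⁻¹) * (u * (x.toMul : Om X) * u⁻¹) * (u * y * u⁻¹)⁻¹ := by group
        _ = _ := by rw [uy]; group))
    (fun x e => ext _ _ (by
      have e' : u * (x.toMul : Om X) * u⁻¹ = 1 := congrArg (fun w => ((w.toMul : Om X) : G)) e
      simpa using e'))
    (v := Additive.ofMul ⟨v, hv⟩) (fun e => hn (by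
      have e' : z * v * z⁻¹ = v := congrArg (fun w => ((w.toMul : Om X) : G)) e
      exact mem_centralizer_singleton_iff.2 (mul_inv_eq_iff_eq_mul.1 e').symm))
  have e : (cn X z hz - AddMonoidHom.id _).ker = ((C1 z).subgroupOf (Om X)).toAddSubgroup := by
    ext w
    rw [AddMonoidHom.mem_ker, AddMonoidHom.sub_apply, AddMonoidHom.id_apply, sub_eq_zero]
    change _ ↔ ((w.toMul : Om X) : G) ∈ C1 z
    rw [mem_centralizer_singleton_iff]
    constructor
    · intro e
      have e' : z * (w.toMul : Om X) * z⁻¹ = (w.toMul : Om X) :=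
        congrArg (fun w => ((w.toMul : Om X) : G)) e
      exact (mul_inv_eq_iff_eq_mul.1 e').symm
    · intro e
      exact ext _ _ (mul_inv_eq_iff_eq_mul.2 e.symm)
  rw [e, index_toAddSubgroup] at key
  exact key

theorem rel_conj [Finite G] {J : Subgroup G} {g : G} (hg : g ∈ No J) (a : G) :
    (C1 (g * a * g⁻¹)).relIndex (Om J) = (C1 a).relIndex (Om J) := by
  have h1 : cj g (Om J) = Om J :=
    cj_eq_self (mem_normalizer_fintype fun v hv => om_conj hg hv)
  have h2 : cj g (C1 a) = C1 (g * a * g⁻¹) := by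
    ext x
    rw [mem_cj, mem_centralizer_singleton_iff, mem_centralizer_singleton_iff]
    constructor
    · intro e
      calc x * (g * a * g⁻¹) = g * (g⁻¹ * x * g * a) * g⁻¹ := by group
        _ = _ := by rw [e]; group
    · intro e
      calc g⁻¹ * x * g * a = g⁻¹ * (x * (g * a * g⁻¹)) * g := by group
        _ = _ := by rw [e]; group
  conv_lhs => rw [← h1, ← h2]
  exact relIndex_map_map_of_injective _ _ (MulAut.conj g).injective

theorem job : JVZ.{u} := by
  intro G _ _ M Q J L y z u h ⟨A, hA, hAJ, hoff⟩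
  by_contra hn
  obtain ⟨P, hPM, hy, hz, hu, hPz, -, -⟩ := h.bd.syl
  have hM : M ≤ No Q := h.bd.no.ge
  have h64 := big (hM (hPM hy)) (hM (hPM hz)) (hM (hPM hu))
    (by rw [← h.bd.y3, pow_orderOf_eq_one]) (by rw [← h.bd.z3, pow_orderOf_eq_one])
    (mem_centralizer_singleton_iff.1 (hPz hy)).symm (mem_centralizer_singleton_iff.1 (hPz hu)).symm
    h.bd.uy hn
  have hVZ : Om Q ≤ Om J := fun v hv => by
    have hc : v ∈ Ce J := centralizer_le h.lt.JQ hv.2.1
    exact ⟨h.cJ hc, hc, hv.2.2⟩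
  have nz : ∀ H K : Subgroup G, H.relIndex K ≠ 0 := fun H K => (H.subgroupOf K).index_ne_zero_of_finite
  obtain ⟨a, ha, haJ⟩ := SetLike.not_le_iff_exists.1 hAJ
  have h4 : (C1 a).relIndex (Om J) ≤ 4 := by
    calc (C1 a).relIndex (Om J) ≤ (Ce A).relIndex (Om J) :=
          relIndex_le_of_le_left (centralizer_le (Set.singleton_subset_iff.2 ha)) (nz _ _)
      _ ≤ J.relIndex A := hoff
      _ ≤ J.relIndex (Q ⊓ L) := relIndex_le_of_le_right hA (nz _ _)
      _ = 4 := h.lt.idx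
  obtain ⟨f, z', hs, hk, rfl, F, -, -⟩ := h.md
  let a' : L := ⟨a, (hA ha).2⟩
  have t1 : f a' ≠ 1 := fun e => haJ (by
    have : a' ∈ f.ker := e
    rw [hk] at this
    exact this)
  have t2 : orderOf (f a') = 2 := by
    have : Fact (Nat.Prime 2) := ⟨Nat.prime_two⟩
    refine orderOf_eq_prime ?_ t1
    rw [pow_two]
    exact F.el _ ⟨a', hA ha, rfl⟩
  obtain ⟨l0, hl⟩ := F.g2 _ t2
  obtain ⟨m0, hm⟩ := F.c3 _ hl
  obtain ⟨l, rfl⟩ := hs l0
  obtain ⟨m, rfl⟩ := hs m0
  have hj : (a' * (l * a' * l⁻¹))⁻¹ * (m * z' * m⁻¹) ∈ f.ker := by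
    rw [MonoidHom.mem_ker]
    simp only [map_mul, map_inv, hm, inv_mul_cancel]
  rw [hk] at hj
  have hj' : (a * (l * a * (l : G)⁻¹))⁻¹ * (m * z' * (m : G)⁻¹) ∈ J := hj
  have hle : C1 a ⊓ C1 (l * a * (l : G)⁻¹) ⊓ Om J ≤ C1 (m * z' * (m : G)⁻¹) := by
    rintro x ⟨⟨h1, h2⟩, -, h3, -⟩
    have c1 : Commute x a := mem_centralizer_singleton_iff.1 h1
    have c2 : Commute x (l * a * (l : G)⁻¹) := mem_centralizer_singleton_iff.1 h2
    have c3 : Commute x _ := (mem_centralizer_iff.1 h3 _ hj').symm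
    have c4 := (c1.mul_right c2).mul_right c3
    rw [mul_inv_cancel_left] at c4
    exact mem_centralizer_singleton_iff.2 c4
  have h16 : (C1 (z' : G)).relIndex (Om J) ≤ 16 := by
    calc (C1 (z' : G)).relIndex (Om J) = (C1 (m * z' * (m : G)⁻¹)).relIndex (Om J) :=
          (rel_conj (h.lt.LN m.2) _).symm
      _ ≤ (C1 a ⊓ C1 (l * a * (l : G)⁻¹) ⊓ Om J).relIndex (Om J) :=
          relIndex_le_of_le_left hle (nz _ _)
      _ = (C1 a ⊓ C1 (l * a * (l : G)⁻¹)).relIndex (Om J) := inf_relIndex_right _ _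
      _ ≤ (C1 a).relIndex (Om J) * (C1 (l * a * (l : G)⁻¹)).relIndex (Om J) := relIndex_inf_le
      _ ≤ 4 * 4 := by
          rw [rel_conj (h.lt.LN l.2)]
          exact Nat.mul_le_mul h4 h4
  have := relIndex_le_of_le_right (H := C1 (z' : G)) hVZ (nz _ _)
  omega

end H9.DC4VZ
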