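import Cfsg.Agent.H73.GSSpec
import Cfsg.Agent.H98.PReduced

/-! Job S2 of the chapter GS of S3275. -/

set_option autoImplicit false

namespace H9.GSS2

open Subgroup Cfsg H98 H48.DP H57.DPC H48.DP2 H98.DP0C H73.GS

universe u

variable {X : Type u} [Group X]

theorem tri {x c : X} (x3 : orderOf x = 3) (h : c ∈ zpowers x) : c = 1 ∨ c = x ∨ c = x⁻¹ := by
  obtain ⟨n, rfl⟩ := mem_zpowers_iff.1 h
  have h3 : x ^ 3 = 1 := by rw [← x3, pow_orderOf_eq_one]
  rw [← zpow_mod_orderOf, x3]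
  have : n % ((3 : ℕ) : ℤ) = 0 ∨ n % ((3 : ℕ) : ℤ) = 1 ∨ n % ((3 : ℕ) : ℤ) = 2 := by omega
  rcases this with e | e | e <;> rw [e]
  · exact Or.inl (zpow_zero x)
  · exact Or.inr (Or.inl (zpow_one x))
  · refine Or.inr (Or.inr (eq_inv_of_mul_eq_one_left ?_))
    rw [← h3, zpow_ofNat, ← pow_succ]

theorem cen [Finite X] {x : X} (h : Sx ⊥ x) {D : Subgroup X} (hD : IsPGroup 3 D) (hx : x ∈ D) :
    D ≤ C1 x := by
  have : Fact (Nat.Prime 3) := ⟨Nat.prime_three⟩
  have x1 : x ≠ 1 := fun e => by simpa [e] using h.x3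
  obtain ⟨⟨e, he⟩, e1⟩ := ne_bot_iff_exists_ne_one.1
    (oz_ne_bot hD fun b => x1 (mem_bot.1 (b ▸ hx)))
  have e1' : e ≠ 1 := fun k => e1 (Subtype.ext k)
  obtain ⟨-, h2, h3⟩ := mem_oz.1 he
  have hc : D ≤ C1 e := fun d hd => mem_centralizer_singleton_iff.2 (mem_centralizer_iff.1 h2 d hd)
  by_cases hz : e ∈ zpowers x
  · rcases tri h.x3 hz with k | k | k
    · exact absurd k e1'
    · exact k ▸ hc
    · intro d hd
      have : Commute d x⁻¹ := k ▸ mem_centralizer_singleton_iff.1 (hc hd)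
      exact mem_centralizer_singleton_iff.2 (Commute.inv_right_iff.1 this)
  · rcases h.alt e (orderOf_eq_prime h3 e1') (mem_centralizer_iff.1 h2 x hx).symm hz with k | k
    · exact absurd (mem_bot.1 (k.1 D hD hx hx)) x1
    · exact k.2 D hD hx hc

theorem job : JobS2.{u} := by
  intro fx s2a X _ _ Y T y x s h d hY hT hy hle
  have x1 : x ≠ 1 := fun e => by simpa [e] using h.x3
  have nO : ∀ g : X, g ∈ No (pCoreOf 3 (⊤ : Subgroup X)) := fun g =>
    self_le_normalizer_pCoreOf _ (mem_top g)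
  have z3 : IsPGroup 3 (zpowers x) :=
    isPGroup_zpowers (k := 1) (by rw [pow_one, ← h.x3, pow_orderOf_eq_one])
  have hO : pCoreOf 3 (⊤ : Subgroup X) ≤ C1 x := le_sup_left.trans
    (cen h ((isPGroup_pCoreOf _).to_sup_of_normal_left' z3 fun g _ => nO g)
      (mem_sup_right (mem_zpowers x)))
  have hxO : x ∈ pCoreOf 3 (⊤ : Subgroup X) := fx X x s h.toSec h.x3
    (d.xx.2.2.2.to_le le_sup_right) d.sx
    (mem_centralizer_iff.2 fun g hg => mem_centralizer_singleton_iff.1 (hO hg))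
    fun K hK => s2a X Y K y x s h d hY hK
  have hq : ∀ q : X, q * x * q⁻¹ = x ∨ q * x * q⁻¹ = x⁻¹ := by
    intro q
    have c3 : orderOf (q * x * q⁻¹) = 3 := by
      rw [← h.x3]
      exact (MulAut.conj q).orderOf_eq x
    by_cases hz : q * x * q⁻¹ ∈ zpowers x
    · refine (tri h.x3 hz).resolve_left fun e => ?_
      simp [e] at c3
    · rcases h.alt _ c3 (mem_centralizer_singleton_iff.1
        (hO (conj_mem_of_mem_normalizer (nO q) hxO))) hz with k | k
      · exact absurd (mem_bot.1 (k.1 _ z3 (mem_zpowers x) (mem_zpowers x))) x1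
      · exact absurd (isConj_iff.2 ⟨q, rfl⟩) k.1
  have sT : s ∈ T := hle (mem_sup_right (mem_zpowers s))
  have sx' : s⁻¹ * x⁻¹ * s = x := by rw [← d.sx]; group
  have nC : ∀ g : X, g ∈ No (C1 x) := fun g => mem_normalizer_fintype fun a ha => by
    have ha' : Commute a x := mem_centralizer_singleton_iff.1 ha
    have h1 : Commute a (g⁻¹ * x * g⁻¹⁻¹) := by
      rcases hq g⁻¹ with e | e <;> rw [e]
      · exact ha'
      · exact ha'.inv_right
    refine mem_centralizer_singleton_iff.2 ?_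
    calc g * a * g⁻¹ * x = g * (a * (g⁻¹ * x * g⁻¹⁻¹)) * g⁻¹ := by group
      _ = x * (g * a * g⁻¹) := by rw [h1.eq]; group
  have hA : T ⊓ C1 x = Y := d.mx _ ⟨inf_normalizer_le_normalizer_inf ⟨hy, nC y⟩,
    centralizer_le_normalizer _ (mem_centralizer_iff.2 fun a ha =>
      mem_centralizer_singleton_iff.1 ha.2),
    inf_normalizer_le_normalizer_inf ⟨le_normalizer sT, nC s⟩,
    hT.to_le (sup_le inf_le_left (zpowers_le.2 sT))⟩ (le_inf (le_sup_left.trans hle) hY)
  intro q hqT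
  rcases hq q with e | e
  · exact mem_sup_left (hA.le ⟨hqT, mem_centralizer_singleton_iff.2 (mul_inv_eq_iff_eq_mul.1 e)⟩)
  · have h1 : s⁻¹ * q ∈ Y := hA.le ⟨T.mul_mem (T.inv_mem sT) hqT, mem_centralizer_singleton_iff.2 (by
      calc s⁻¹ * q * x = s⁻¹ * (q * x * q⁻¹) * s * (s⁻¹ * q) := by group
        _ = x * (s⁻¹ * q) := by rw [e, sx'])⟩
    have := mul_mem (mem_sup_right (S := Y) (mem_zpowers s)) (mem_sup_left (T := zpowers s) h1)
    rwa [mul_inv_cancel_left] at this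

end H9.GSS2
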