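import Cfsg.Agent.H48.DNASpec
import Cfsg.Agent.H2.PrimeCore

/-! Job PK2 of the chapter alpha of S3275. -/

set_option autoImplicit false

namespace H9.NAPK2

open Subgroup Cfsg H98 H48.DP H57.DPC H26.DA H98.DP0C H48.DP2
open scoped commutatorElement

universe u

theorem rk1 {Y : Type*} [Group Y] [Finite Y] (h : PRankLE 3 1 Y) {c e : Y} (hc : c ^ 3 = 1)
    (he : orderOf e = 3) (cm : Commute c e) : c ∈ zpowers e := by
  have e3 : e ^ 3 = 1 := by rw [← he, pow_orderOf_eq_one]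
  have hm : ∀ a ∈ zpowers c ⊔ zpowers e, ∃ i j : ℤ, a = c ^ i * e ^ j := by
    intro a ha
    obtain ⟨_, ⟨i, rfl⟩, _, ⟨j, rfl⟩, rfl⟩ := (mem_sup_left_norm (le_normalizer_of_le_centralizer
      (zpowers_le.2 (mem_centralizer_iff.2 (by
        rintro _ ⟨j, rfl⟩
        exact (cm.symm.zpow_left j).eq))))).1 ha
    exact ⟨i, j, rfl⟩
  have h1 := h (zpowers c ⊔ zpowers e) ⟨⟨fun a b => Subtype.ext (by
      obtain ⟨i, j, e1⟩ := hm a a.2
      obtain ⟨i', j', e2⟩ := hm b b.2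
      rw [coe_mul, coe_mul, e1, e2]
      exact ((((Commute.refl c).zpow_zpow i i').mul_right (cm.zpow_zpow i j')).mul_left
        ((cm.symm.zpow_zpow j i').mul_right ((Commute.refl e).zpow_zpow j j'))).eq)⟩⟩ (by
      intro a ha
      obtain ⟨i, j, rfl⟩ := hm a ha
      rw [(cm.zpow_zpow i j).mul_pow, ← zpow_natCast, ← zpow_natCast, zpow_comm, zpow_comm e,
        zpow_natCast, zpow_natCast, hc, e3, one_zpow, one_zpow, one_mul])
  have h2 : zpowers e = zpowers c ⊔ zpowers e :=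
    eq_of_le_of_card_ge le_sup_right (by rw [Nat.card_zpowers, he]; exact h1)
  rw [h2]
  exact mem_sup_left (mem_zpowers c)

theorem dec {X : Type u} [Group X] [Finite X] {K P S : Subgroup X} {z r e : X} (f : Fu K P S z r)
    (sup : K ⊔ Ce K = ⊤) (rk : PRankLE 3 1 (Ce K)) (he : orderOf e = 3) (ce : ∀ g, Commute g e)
    {x : X} (hx : x ^ 3 = 1) :
    ∃ k ∈ K, k ^ 3 = 1 ∧ (∀ g ∈ K, Commute x g → Commute k g) ∧ ∃ i : ℤ, x = k * e ^ i := by
  obtain ⟨k, hk, c, hc, rfl⟩ :=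
    (mem_sup_left_norm (le_normalizer_centralizer (le_normalizer (H := K)))).1 (sup ▸ mem_top x)
  have cg : ∀ g ∈ K, Commute g c := fun g hg => mem_centralizer_iff.1 hc g hg
  rw [(cg k hk).mul_pow] at hx
  have h1 : k ^ 3 ∈ Ce K := by
    rw [eq_inv_of_mul_eq_one_left hx]
    exact inv_mem (pow_mem hc 3)
  have k3 : k ^ 3 = 1 := by
    obtain ⟨n, hn⟩ := f.cP ⟨pow_mem hk 3, centralizer_anti f.syl.le h1⟩
    refine f.cr _ (pow_mem hk 3) ?_ (mem_centralizer_iff.1 h1 r f.rK).symm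
    have hn' : z ^ n = k ^ 3 := hn
    rw [← hn', ← zpow_natCast, zpow_comm, zpow_natCast, ← f.z3, pow_orderOf_eq_one, one_zpow]
  rw [k3, one_mul] at hx
  refine ⟨k, hk, k3, fun g hg h => ?_, ?_⟩
  · have := h.mul_left (cg g hg).symm.inv_left
    rwa [mul_inv_cancel_right] at this
  · have eK : e ∈ Ce K := mem_centralizer_iff.2 fun g _ => ce g
    obtain ⟨i, hi⟩ := rk1 rk (c := ⟨c, hc⟩) (e := ⟨e, eK⟩) (Subtype.ext hx)
      (by rw [orderOf_mk, he]) (Subtype.ext (ce c))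
    exact ⟨i, by rw [← show e ^ i = c from congrArg Subtype.val hi]⟩

theorem lift {C : Type*} [Group C] [Finite C] {a b : C} (ha : a ^ 3 = 1) (hb : b ^ 3 = 1)
    (cm : Commute a b) (e : QuotientGroup.mk' (pPrimeCore 3 C) a = QuotientGroup.mk' _ b) :
    a = b := by
  have h1 : a⁻¹ * b ∈ pPrimeCore 3 C := QuotientGroup.eq.1 e
  have h2 : (a⁻¹ * b) ^ 3 = 1 := by rw [cm.inv_left.mul_pow, inv_pow, ha, hb, inv_one, one_mul]
  exact inv_mul_eq_one.1 (orderOf_eq_one_iff.1 (Nat.Coprime.eq_one_of_dvd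
    (H2.coprime_orderOf_of_mem_pPrimeCore h1) (orderOf_dvd_of_pow_eq_one h2)))

theorem job : JPK2.{u} := by
  intro G _ _ M Q P y z r K S h
  have : Fact (Nat.Prime 3) := ⟨Nat.prime_three⟩
  let y' : C1 y := ⟨y, mem_C1_self y⟩
  have y3 : y' ^ 3 = 1 := Subtype.ext (by
    show y ^ 3 = 1
    rw [← h.lt.y3, pow_orderOf_eq_one])
  have z3 : z ^ 3 = 1 := Subtype.ext (by
    show (z : G) ^ 3 = 1
    rw [← h.lt.z3, pow_orderOf_eq_one])
  have cy : ∀ g : C1 y, Commute g y' := fun g => Subtype.ext (mem_centralizer_singleton_iff.1 g.2)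
  have pw : ∀ (a : C1 y) (i : ℤ), a ^ 3 = 1 → (a ^ i) ^ 3 = 1 := fun a i e => by
    rw [← zpow_natCast, zpow_comm, zpow_natCast, e, one_zpow]
  have he : orderOf (pm (C1 y) y') = 3 := by
    refine orderOf_eq_prime (by rw [← map_pow, y3, map_one]) fun e => ?_
    have h1 : y' = 1 := lift y3 (one_pow 3) (Commute.one_right _) (e.trans (map_one _).symm)
    have h2 : y = 1 := congrArg Subtype.val h1
    simpa [h2] using h.lt.y3
  have ce : ∀ g, Commute g (pm (C1 y) y') := fun g => by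
    obtain ⟨g, rfl⟩ := QuotientGroup.mk'_surjective _ g
    exact (cy g).map _
  refine ⟨fun p hp cm => ?_, fun w hw w3 cm => ?_, fun w hw w3 cm => ?_⟩
  · let p' : C1 y := ⟨p, h.lt.Py hp⟩
    have p3 : p' ^ 3 = 1 := Subtype.ext (h.lt.ex p hp)
    have h1 := h.fu.cr (pm (C1 y) p') (h.fu.syl.le ⟨p', hp, rfl⟩) (by rw [← map_pow, p3, map_one])
      ((show Commute p' r from Subtype.ext cm).map _)
    exact congrArg Subtype.val
      (lift p3 (one_pow 3) (Commute.one_right _) (h1.trans (map_one _).symm))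
  · let w' : C1 y := ⟨w, hw⟩
    have w3' : w' ^ 3 = 1 := Subtype.ext w3
    obtain ⟨k, hk, k3, kc, i, e⟩ := dec h.fu h.sup h.rk he ce (x := pm (C1 y) w')
      (by rw [← map_pow, w3', map_one])
    obtain ⟨n, hn, e1⟩ := cm
    have e2 : n = ⁅w', r⁆ := Subtype.ext e1
    have h1 : Commute (pm (C1 y) w') (pm (C1 y) r) := by
      rw [← commutatorElement_eq_one_iff_commute, ← map_commutatorElement, ← e2]
      exact (QuotientGroup.eq_one_iff n).2 hn
    rw [h.fu.cr k hk k3 (kc _ h.fu.rK h1), one_mul, ← map_zpow] at e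
    exact ⟨i, (congrArg Subtype.val (lift w3' (pw _ i y3) ((cy w').zpow_right i) e)).symm⟩
  · let w' : C1 y := ⟨w, hw⟩
    have w3' : w' ^ 3 = 1 := Subtype.ext w3
    obtain ⟨k, hk, -, kc, i, e⟩ := dec h.fu h.sup h.rk he ce (x := pm (C1 y) w')
      (by rw [← map_pow, w3', map_one])
    have cp : ∀ p : C1 y, (p : G) ∈ P → Commute w' p := fun p hp =>
      Subtype.ext (mem_centralizer_iff.1 cm p hp).symm
    obtain ⟨j, hj⟩ := h.fu.cP ⟨hk, mem_centralizer_iff.2 (by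
      rintro _ ⟨p, hp, rfl⟩
      exact (kc _ (h.fu.syl.le ⟨p, hp, rfl⟩) ((cp p hp).map _)).symm.eq)⟩
    have hj' : pm (C1 y) z ^ j = k := hj
    have zP : (z : G) ∈ P := commutator_le_of_le le_rfl le_rfl (h.lt.der ▸ mem_zpowers (z : G))
    rw [← hj', ← map_zpow, ← map_zpow, ← map_mul] at e
    have h1 := lift w3' (by rw [((cy z).zpow_zpow j i).mul_pow, pw _ j z3, pw _ i y3, one_mul])
      (((cp z zP).zpow_right j).mul_right ((cy w').zpow_right i)) e
    have h2 : w = (z : G) ^ j * y ^ i := congrArg Subtype.val h1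
    rw [h2]
    exact mul_mem (mem_sup_right (zpow_mem_zpowers _ j)) (mem_sup_left (zpow_mem_zpowers _ i))

end H9.NAPK2
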