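import Cfsg.Agent.H7.HKT
import Cfsg.Agent.H84.K3B
import Cfsg.Agent.H22.HHExtra
import Cfsg.Agent.H12.Basic

/-! HKS tower, job P1d: quaternion kernel, all involutions of a four-group of type SL. -/

set_option autoImplicit false
set_option linter.unusedSectionVars false

namespace H9.HK

open MulAction Cfsg Subgroup H89.K H65 H7.HKS H7.HKT
open scoped Pointwise

universe u

variable {G Ω : Type u} [Group G] [Finite G] [MulAction G Ω] {U : Ω → Subgroup G} {a b : Ω}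
  {z v : G}

theorem pg_zpowers {t : G} {k : ℕ} (h : t ^ 2 ^ k = 1) : IsPGroup 2 (zpowers t) := by
  obtain ⟨j, -, e⟩ := (Nat.dvd_prime_pow Nat.prime_two).1 (orderOf_dvd_of_pow_eq_one h)
  exact IsPGroup.of_card (n := j) (by rw [Nat.card_zpowers, e])

theorem st_ia {g : G} (hg : g ∈ St G a b) : g⁻¹ • a = a := (st_iff.1 (inv_mem hg)).1

theorem st_ib {g : G} (hg : g ∈ St G a b) : g⁻¹ • b = b := (st_iff.1 (inv_mem hg)).2

/-- Every involution is conjugate into a subgroup whose index is not divisible by four. -/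
theorem into_B (h2 : ∀ N : Subgroup G, N.index ≠ 2) {C B : Subgroup G} (hC : Odd C.index)
    (hB : B ≤ C) (h4 : ¬ 4 ∣ B.relIndex C) {t : G} (ht : t * t = 1) :
    ∃ g : G, g * t * g⁻¹ ∈ B := by
  obtain ⟨T, -, TB, T2, To⟩ :=
    (H84.K3.kit3.syl B B ⊥ bot_le IsPGroup.of_bot le_normalizer le_rfl).1
  obtain ⟨S, TS, SC, S2, So⟩ :=
    (H84.K3.kit3.syl C C T (TB.trans hB) T2 le_normalizer le_rfl).1
  have oS : Odd S.index := by rw [← relIndex_mul_index SC]; exact So.mul hC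
  obtain ⟨g, -, hg⟩ := H72.HKS.kit1.ext S (zpowers t) 1 1 S2 oS (by simp) (IsConj.refl _)
    (pg_zpowers (k := 1) (by rw [pow_one, pow_two, ht])) (by simp)
  have wS := hg t (mem_zpowers t)
  set w := g * t * g⁻¹ with hw
  have w2 : w * w = 1 := by rw [hw, conj_mul, ht]; simp
  by_cases wT : w ∈ T
  · exact ⟨g, TB wT⟩
  have e : T.relIndex S * S.relIndex C = T.relIndex B * B.relIndex C := by
    rw [relIndex_mul_relIndex _ _ _ TS SC, relIndex_mul_relIndex _ _ _ TB hB]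
  obtain ⟨j, hj⟩ : ∃ j, T.relIndex S = 2 ^ j := by
    obtain ⟨n, hn⟩ := IsPGroup.iff_card.1 S2
    obtain ⟨j, -, e⟩ := (Nat.dvd_prime_pow Nat.prime_two).1 (hn ▸ relIndex_dvd_card T S)
    exact ⟨j, e⟩
  have j1 : T.relIndex S = 2 := by
    rcases j with _ | _ | j
    · exact absurd (relIndex_eq_one.1 (by simpa using hj) wS) wT
    · simpa using hj
    · exfalso
      apply h4
      have : 4 ∣ T.relIndex B * B.relIndex C := by
        rw [← e, hj]; exact Dvd.dvd.mul_right ⟨2 ^ j, by ring⟩ _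
      exact (Nat.Coprime.pow_left 2 (Nat.coprime_two_left.2 To)).dvd_of_dvd_mul_left this
  obtain ⟨c, cS, hc⟩ := relIndex_eq_two_iff.1 j1
  have hc' : ∀ s ∈ S, s ∉ T → s * c ∈ T := fun s hs h => ((hc s hs).or.resolve_right h)
  have nT : S ≤ normalizer (T : Set G) := by
    haveI : (T.subgroupOf S).Normal := normal_of_index_eq_two j1
    exact le_normalizer_of_normal_subgroupOf TS
  obtain ⟨g', h', -⟩ := H72.HKS.kit1.tho S T w h2 S2 oS TS nT ⟨w, wS, le_antisymm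
    (sup_le TS (zpowers_le.2 wS)) fun s hs => by
      by_cases h : s ∈ T
      · exact mem_sup_left h
      · have : s = s * c * (w * c)⁻¹ * w := by group
        rw [this]
        exact mul_mem (mem_sup_left (mul_mem (hc' s hs h) (inv_mem (hc' w wS wT))))
          (mem_sup_right (mem_zpowers w))⟩ w2 wS wT
  exact ⟨g' * g, by rw [show g' * g * t * (g' * g)⁻¹ = g' * w * g'⁻¹ by rw [hw]; group]; exact TB h'⟩

/-- The stabiliser of a third point in `C_H(z)`. -/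
abbrev Dz (a b p : Ω) (z : G) : Subgroup G := (St G a b ⊓ centralizer {z}) ⊓ stabilizer G p

section LD

variable {F : Type} [Field F] [Fintype F] {x y : F → G}

/-- The standing data for `z`. -/
structure ZD (U : Ω → Subgroup G) (a b : Ω) (z : G) (x y : F → G) : Prop where
  c4 : C4 U
  ne : a ≠ b
  iv : Iv z a b
  ld : LD x y (CU U {z} a) (CU U {z} b) a b
  ze : sl2h x y (-1) = z

theorem ZD.rg (h : ZD U a b z x y) : Rg U := h.c4.toRg

theorem ZD.xU (h : ZD U a b z x y) (c : F) : x c ∈ U a := (x_mem h.ld c).1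

theorem ZD.xz (h : ZD U a b z x y) (c : F) : x c * z = z * x c := (mem_CU.1 (x_mem h.ld c)).2

theorem ZD.xl (h : ZD U a b z x y) (c : F) : x c ∈ LX U {z} :=
  cu_le_lx (mem_Fx.2 h.iv.1.1) (x_mem h.ld c)

theorem ZD.zl (h : ZD U a b z x y) : z ∈ LX U {z} ⊓ St G a b :=
  ⟨h.ze ▸ h_lx h.rg h.ne (sub1 h.iv.1) h.ld _, h.iv.1⟩

theorem ZD.inj (h : ZD U a b z x y) {c d : F} (e : x c • b = x d • b) : c = d := by
  have := h.rg.reg h.ne.symm ((x d)⁻¹ * x c) (mul_mem (inv_mem (h.xU d)) (h.xU c))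
    (by rw [mul_smul, e, inv_smul_smul])
  exact h.ld.inj (inv_mul_eq_one.1 this).symm

theorem ZD.pa (h : ZD U a b z x y) (c : F) : x c • b ≠ a := fun e =>
  h.ne (((smul_left_cancel_iff (x c)).1 ((h.rg.fix a _ (h.xU c)).trans e.symm)))

theorem ZD.pb (h : ZD U a b z x y) {c : F} (hc : c ≠ 0) : x c • b ≠ b := fun e =>
  hc (h.inj (by rw [e, h.ld.rel.x_zero, one_smul]))

theorem ZD.mem_D (h : ZD U a b z x y) {g : G} :
    g ∈ Dz a b (x 1 • b) z ↔ g ∈ St G a b ∧ g * z = z * g ∧ g * x 1 = x 1 * g := by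
  refine ⟨fun hg => ⟨hg.1.1, mem_C.1 hg.1.2, ?_⟩, fun hg => ⟨⟨hg.1, mem_C.2 hg.2.1⟩, ?_⟩⟩
  · have m : g * x 1 * g⁻¹ ∈ U a := hg.1.1.1 ▸ h.rg.conj g a _ (h.xU 1)
    have e : g • x 1 • b = x 1 • b := hg.2
    have := h.rg.reg h.ne.symm ((x 1)⁻¹ * (g * x 1 * g⁻¹)) (mul_mem (inv_mem (h.xU 1)) m) (by
      rw [mul_smul, mul_smul, mul_smul, st_ib hg.1.1, e, inv_smul_smul])
    rw [← mul_inv_eq_iff_eq_mul, ← inv_mul_eq_one.1 this]
  · change g • x 1 • b = x 1 • b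
    rw [← mul_smul, hg.2.2, mul_smul, hg.1.2]

theorem ZD.kD (h : ZD U a b z x y) : Kh Ω {z} ≤ Dz a b (x 1 • b) z := fun _ hk =>
  h.mem_D.2 ⟨kh_st h.iv.1 hk, kh_comm hk, kl h.rg h.ne h.iv.1 hk (h.xl 1)⟩

theorem ZD.inv_D (h : ZD U a b z x y) {w : G} (hw : w ∈ Dz a b (x 1 • b) z) (e : w * w = 1) :
    w = 1 ∨ w = z := by
  haveI : Finite Ω := Nat.finite_of_card_ne_zero (by rw [H72.HKS.kit1.card h.rg a]; omega)
  refine h.c4.nof h.ne h.iv w e (mem_C.1 hw.1.2) ?_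
  have s : ({a, b, x 1 • b} : Set Ω) ⊆ Fx Ω {w, z} := by
    rintro c (rfl | rfl | rfl)
    · exact mem_Fx2.2 ⟨hw.1.1.1, h.iv.1.1⟩
    · exact mem_Fx2.2 ⟨hw.1.1.2, h.iv.1.2⟩
    · exact mem_Fx2.2 ⟨hw.2, (h.kD self_kh).2⟩
  have := Set.ncard_le_ncard s
  rwa [Set.ncard_eq_three.2 ⟨_, _, _, h.ne, (h.pa 1).symm, (h.pb one_ne_zero).symm, rfl⟩] at this

theorem ZD.sq_D (h : ZD U a b z x y) {w : G} (hw : w ∈ Dz a b (x 1 • b) z) (e : w * w = z) :
    w ∈ Kh Ω {z} := by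
  obtain ⟨hs, hz, hx⟩ := h.mem_D.1 hw
  have wN : w ∈ normalizer ({z} : Set G) := mem_N.2 hz
  obtain ⟨l, σ, -, h1, -, h3, -⟩ := H3.HK2.kit2.semi h.rg.sr h.ne inf_le_left inf_le_left h.ld w hs
    (norm_CU h.rg.toSp hs.1 wN) (norm_CU h.rg.toSp hs.2 wN)
  have l1 : l = 1 := by
    have := h1 1
    rw [hx, mul_inv_cancel_right, map_one, mul_one] at this
    exact (h.ld.inj this).symm
  subst l1
  have nl := n_lx h.rg h.ne (sub1 h.iv.1) h.ld (1 : F)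
  have wn : w * sl2n x y 1 = sl2n x y 1 * w := by
    have := h3 1 one_ne_zero
    rw [map_one, mul_one] at this
    exact mul_inv_eq_iff_eq_mul.1 this
  have nN : sl2n x y 1 ∈ normalizer ({z} : Set G) := mem_N.2 (lx_comm h.rg h.ne h.iv.1 nl)
  obtain ⟨d, φ, o1, o2, o3⟩ := H84.K3.kit3.out h.rg h.ne (sub1 h.iv.1) h.ld
  have p1 : φ ⟨_, nN⟩ = 1 := ((o1 ⟨_, nN⟩).2 ⟨_, nl, fun _ _ => rfl⟩).2
  have p2 : φ ⟨w, wN⟩ = σ := (o2 ⟨w, wN⟩ 1 σ hs h1).1
  have sq : w * sl2n x y 1 * (w * sl2n x y 1) = 1 := by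
    calc _ = w * (sl2n x y 1 * w) * sl2n x y 1 := by group
      _ = w * w * (sl2n x y 1 * sl2n x y 1) := by rw [← wn]; group
      _ = 1 := by rw [e, h.ld.rel.n_one_sq, h.ze, iv_sq h.iv]
  have mv : (w * sl2n x y 1) • a ≠ a := by
    rw [mul_smul, (h.ld.sw 1 one_ne_zero).1, hs.2]; exact h.ne.symm
  have p3 : φ (⟨w, wN⟩ * ⟨_, nN⟩) = 1 := by
    rcases o3 (⟨w, wN⟩ * ⟨_, nN⟩) (fun c _ => by
      change (w * sl2n x y 1 * (w * sl2n x y 1)) • c = c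
      rw [sq, one_smul]) (fun t => mv (t a (mem_Fx.2 h.iv.1.1))) with ⟨-, h4, -⟩ | h5 | h5
    · exfalso
      rcases h.c4.nof h.ne h.iv (w * sl2n x y 1) sq (mem_N.1 (mul_mem wN nN))
        (le_trans (by norm_num) h4) with e | e
      · exact mv (by rw [e, one_smul])
      · exact mv (by rw [e]; exact h.iv.1.1)
    · exact h5.1
    · exact h5.1
  rw [map_mul, p1, p2, mul_one] at p3
  refine kh_of h.rg h.ne h.iv.1 hs hz fun u hu => ?_
  obtain ⟨c, rfl⟩ := (h.ld.rx u).1 hu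
  have := h1 c
  rw [p3, one_mul] at this
  exact mul_inv_eq_iff_eq_mul.1 this

/-- A Sylow `2`-subgroup of the three-point stabiliser is quaternion and lies in the kernel. -/
theorem ZD.syl (h : ZD U a b z x y) (hq : HasQ Ω z) : ∃ (R : Subgroup G) (ρ κ : G) (r : ℕ),
    R ≤ Kh Ω {z} ∧ Odd (R.relIndex (Dz a b (x 1 • b) z)) ∧ Nat.card R = 2 ^ (r + 1) ∧ 2 ≤ r ∧
      ρ ∈ Kh Ω {z} ∧ κ ∈ Kh Ω {z} ∧ orderOf ρ = 2 ^ r ∧ ρ ^ 2 ^ (r - 1) = z ∧
      κ * ρ * κ⁻¹ = ρ⁻¹ := by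
  obtain ⟨k, hk, k', hk', e1, e2, e3⟩ := hq
  have z2 := iv_sq h.iv
  have f : ∀ k : G, k * k = z → IsPGroup 2 (zpowers k) := fun k e =>
    pg_zpowers (k := 2) (by rw [show 2 ^ 2 = 2 * 2 by norm_num, pow_mul, pow_two k, e, pow_two, z2])
  have P2 : IsPGroup 2 ↥(zpowers k' ⊔ zpowers k) := by
    refine IsPGroup.to_sup_of_normal_right' (f k' e2) (f k e1) (zpowers_le.2 ?_)
    refine mem_normalizer_fintype fun u hu => ?_
    obtain ⟨i, rfl⟩ := mem_zpowers_iff.1 hu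
    rw [← conj_zpow, e3]
    exact zpow_mem (inv_mem (mem_zpowers k)) i
  obtain ⟨R, PR, RD, R2, Ro⟩ := (H84.K3.kit3.syl (Dz a b (x 1 • b) z) _ _
    (sup_le (zpowers_le.2 (h.kD hk')) (zpowers_le.2 (h.kD hk))) P2 le_normalizer le_rfl).1
  have kR : k ∈ R := PR (mem_sup_right (mem_zpowers k))
  have kR' : k' ∈ R := PR (mem_sup_left (mem_zpowers k'))
  rcases H84.K3.kit3.quat R z R2 (e1 ▸ mul_mem kR kR) h.iv.2
    (fun g hg e => h.inv_D (RD hg) e) with hc | ⟨ρ, κ, r, r2, o, p, q, cj, cd, mem⟩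
  · exfalso
    have c : k' * k = k * k' :=
      congrArg Subtype.val (hc.commGroup.mul_comm (⟨k', kR'⟩ : R) ⟨k, kR⟩)
    rw [c, mul_inv_cancel_right] at e3
    exact iv_ne h.iv (by rw [← e1]; nth_rewrite 2 [e3]; simp)
  have κK : κ ∈ Kh Ω {z} := h.sq_D (RD ((mem κ).2 ⟨0, Or.inr (by simp)⟩)) q
  have ρK : ρ ∈ Kh Ω {z} := by
    have : κ * ρ ∈ Kh Ω {z} := h.sq_D (RD ((mem _).2 ⟨1, Or.inr (by simp)⟩)) (by
      calc κ * ρ * (κ * ρ) = κ * ρ * κ⁻¹ * (κ * κ) * ρ := by group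
        _ = z := by
          rw [cj, q, mul_assoc, ← p, ← pow_succ, pow_succ', inv_mul_cancel_left])
    simpa using mul_mem (inv_mem κK) this
  refine ⟨R, ρ, κ, r, fun g hg => ?_, Ro, cd, r2, ρK, κK, o, p, cj⟩
  obtain ⟨i, rfl | rfl⟩ := (mem g).1 hg
  · exact pow_mem ρK i
  · exact mul_mem κK (pow_mem ρK i)

theorem ZD.cN (h : ZD U a b z x y) {g l : G} (hg : g ∈ St G a b) (e : g * z = z * g)
    (hl : l ∈ LX U {z} ⊓ St G a b) : g * l * g⁻¹ ∈ LX U {z} ⊓ St G a b :=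
  mem_inf.2 ⟨lx_conj' h.rg.toSp e hl.1, mul_mem (mul_mem hg (mem_inf.1 hl).2) (inv_mem hg)⟩

theorem ZD.nf (h : ZD U a b z x y) (hq : HasQ Ω z) (s : AS U a b v z) : NF U z a b := by
  obtain ⟨R, ρ, κ, r, RK, Ro, -⟩ := h.syl hq
  intro g hg gz ⟨k, hk⟩ l hl
  have gz' : g⁻¹ * z = z * g⁻¹ := mem_C.1 (inv_mem (mem_C.2 gz))
  obtain ⟨τ, hτ, e⟩ := s.tr (x 1) (x_mem h.ld 1) (g⁻¹ * x 1 * g⁻¹⁻¹)
    ((mem_normalizer_iff.1 (norm_CU h.rg.toSp (st_ia hg) (mem_N.2 gz')) _).1 (x_mem h.ld 1))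
    (x_ne h.ld one_ne_zero) (fun e => x_ne h.ld one_ne_zero (conj_eq_one_iff.1 e))
  have mD : g * τ ∈ Dz a b (x 1 • b) z := by
    refine h.mem_D.2 ⟨mul_mem hg hτ.2, mem_C.1 (mul_mem (mem_C.2 gz) (mem_C.2 (s.cv τ hτ))), ?_⟩
    rw [← mul_inv_eq_iff_eq_mul, mul_inv_rev]
    calc _ = g * (τ * x 1 * τ⁻¹) * g⁻¹ := by group
      _ = _ := by rw [e]; group
  set D := Dz a b (x 1 • b) z
  have oK : Odd ((Kh Ω {z}).relIndex D) := Ro.of_dvd_nat (relIndex_dvd_of_le_left D RK)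
  haveI : ((Kh Ω {z}).subgroupOf D).Normal :=
    ⟨fun k hk d => kh_conj' (mem_C.1 d.2.1.2) hk⟩
  have pK : (g * τ) ^ (Kh Ω {z}).relIndex D ∈ Kh Ω {z} :=
    ((Kh Ω {z}).subgroupOf D).pow_index_mem ⟨_, mD⟩
  have ind : ∀ j : ℕ, ∀ l ∈ LX U {z} ⊓ St G a b,
      (g * τ) ^ j * l * ((g * τ) ^ j)⁻¹ = g ^ j * l * (g ^ j)⁻¹ := by
    intro j
    induction j with
    | zero => simp
    | succ j ih =>
      intro l hl
      calc _ = (g * τ) ^ j * (g * (τ * l) * τ⁻¹ * g⁻¹) * ((g * τ) ^ j)⁻¹ := by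
            rw [pow_succ]; group
        _ = (g * τ) ^ j * (g * l * g⁻¹) * ((g * τ) ^ j)⁻¹ := by rw [s.comm τ hτ l hl]; group
        _ = _ := by rw [ih _ (h.cN hg gz hl), pow_succ]; group
  have c1 : g ^ (Kh Ω {z}).relIndex D ∈ centralizer ({l} : Set G) := by
    rw [mem_C, ← mul_inv_eq_iff_eq_mul, ← ind _ l hl, kl h.rg h.ne h.iv.1 pK hl.1]; group
  have c2 : g ∈ zpowers (g ^ (Kh Ω {z}).relIndex D) := by
    rw [mem_zpowers_pow_iff]
    exact Nat.Coprime.coprime_dvd_right (orderOf_dvd_of_pow_eq_one hk)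
      (Nat.Coprime.pow_right k (Nat.coprime_two_right.2 oK))
  exact mem_C.1 (zpowers_le.2 c1 c2)

/-- The cyclic subgroup of the quaternion group acts semiregularly on a group of order `q`. -/
theorem ZD.dvd (h : ZD U a b z x y) (s : AS U a b z v) (f : Fr z v a b) {i : F} (hi : i * i = -1)
    {ρ κ : G} {r : ℕ} (r2 : 2 ≤ r) (ρK : ρ ∈ Kh Ω {z}) (κK : κ ∈ Kh Ω {z}) (o : orderOf ρ = 2 ^ r)
    (p : ρ ^ 2 ^ (r - 1) = z) (cj : κ * ρ * κ⁻¹ = ρ⁻¹) : 2 ^ r ∣ Fintype.card F - 1 := by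
  have i0 : i ≠ 0 := fun e => by simp [e] at hi
  have z2 := iv_sq h.iv
  set k := ρ ^ 2 ^ (r - 2) with hk
  have kK : k ∈ Kh Ω {z} := pow_mem ρK _
  have k2 : k * k = z := by
    rw [hk, ← pow_add, ← p]; congr 1
    obtain ⟨j, rfl⟩ := Nat.exists_eq_add_of_le r2
    rw [show 2 + j - 1 = j + 1 by omega, show 2 + j - 2 = j by omega]; ring
  have hl := h_lx h.rg h.ne (sub1 h.iv.1) h.ld i
  have hh : sl2h x y i * sl2h x y i = z := by rw [h.ld.rel.h_mul' i0 i0, hi, h.ze]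
  set w := sl2h x y i * k with hw
  have wst : w ∈ St G a b := mul_mem (h_st h.rg h.ne h.ld i0) (kh_st h.iv.1 kK)
  have wz : w * z = z * w :=
    mem_C.1 (mul_mem (mem_C.2 (lx_comm h.rg h.ne h.iv.1 hl)) (mem_C.2 (kh_comm kK)))
  have w2 : w * w = 1 := by
    calc _ = sl2h x y i * (k * sl2h x y i) * k := by rw [hw]; group
      _ = sl2h x y i * sl2h x y i * (k * k) := by rw [kl h.rg h.ne h.iv.1 kK hl]; group
      _ = 1 := by rw [hh, k2, z2]
  have wK : w ∉ Kh Ω {z} := fun m => by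
    have m' : sl2h x y i ∈ Kh Ω {z} := by simpa [hw] using mul_mem m (inv_mem kK)
    rcases lk h.rg h.ne h.iv.1 h.ld hl m' with e | e
    · exact iv_ne h.iv (by rw [← hh, e, one_mul])
    · exact iv_ne h.iv (by rw [← hh, e, h.ze, z2])
  have f' : Fr z w a b := ⟨h.iv, iv_mk wst w2 fun e => wK (e ▸ one_mem _),
    fun e => wK (e ▸ self_kh), wz.symm⟩
  have cw : κ * w * κ⁻¹ = z * w := by
    have e1 : κ * k * κ⁻¹ = k⁻¹ := by rw [hk, ← conj_pow, cj, inv_pow]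
    have e2 : k⁻¹ = z * k := by
      rw [inv_eq_iff_mul_eq_one, ← mul_assoc, kh_comm kK, mul_assoc, k2, z2]
    calc _ = κ * sl2h x y i * κ⁻¹ * (κ * k * κ⁻¹) := by rw [hw]; group
      _ = sl2h x y i * z * k := by rw [e1, e2, kl h.rg h.ne h.iv.1 κK hl]; group
      _ = _ := by rw [lx_comm h.rg h.ne h.iv.1 hl, hw]; group
  have c1 := card_cu_conj h.rg.toSp κ w a
  rw [cw, (kh_st h.iv.1 κK).1] at c1
  have c2 := h.c4.prod h.ne f'
  rw [h.c4.prod h.ne f, s.cz, s.czv, c1, mul_assoc, mul_assoc] at c2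
  have c3 : Nat.card (CU U {w} a) = Nat.card (CU U {z} a) :=
    (Nat.mul_self_inj.1 (Nat.eq_of_mul_eq_mul_left Nat.card_pos c2)).symm
  have ρw : ρ * w = w * ρ := by
    calc _ = ρ * sl2h x y i * k := by rw [hw]; group
      _ = _ := by rw [kl h.rg h.ne h.iv.1 ρK hl, hw, hk, mul_assoc, mul_assoc, ← pow_succ, pow_succ']
  have := H22.card_dvd_sub_of_semiregular (zpowers ρ) (CU U {w} a) ⊥ bot_le
    (zpowers_le.2 (norm_CU h.rg.toSp (kh_st h.iv.1 ρK).1 (mem_N.2 ρw))) (by rw [normalizer_eq_top]; exact le_top)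
    fun g hg g1 u hu => mem_bot.2 ((s.semiK g (zpowers_le.2 ρK hg) u hu.1.1
      (h.c4.neg h.ne (fr_symm f') u hu.1) (mem_C.1 hu.2).symm).resolve_left g1)
  rwa [Nat.card_zpowers, o, c3, card_F h.rg h.ne h.ld, card_bot] at this

theorem ZD.idx (h : ZD U a b z x y) (s : AS U a b v z) :
    (Dz a b (x 1 • b) z).relIndex (St G a b ⊓ centralizer {z}) = Fintype.card F - 1 := by
  classical
  set C := St G a b ⊓ centralizer ({z} : Set G)
  have e : (Dz a b (x 1 • b) z).subgroupOf C = stabilizer C (x 1 • b) := by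
    ext g; exact ⟨fun hg => hg.2, fun hg => ⟨g.2, hg⟩⟩
  have o : orbit C (x 1 • b) = (fun c => x c • b) '' {0}ᶜ := by
    ext p
    constructor
    · rintro ⟨g, rfl⟩
      obtain ⟨c, hc⟩ := (h.ld.rx _).1 ((mem_normalizer_iff.1
        (norm_CU h.rg.toSp g.2.1.1 (mem_N.2 (mem_C.1 g.2.2))) _).1 (x_mem h.ld 1))
      refine ⟨c, fun e => ?_, ?_⟩
      · rw [Set.mem_singleton_iff.1 e, h.ld.rel.x_zero] at hc
        exact x_ne h.ld one_ne_zero (by simpa using hc.symm)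
      · change x c • b = (g : G) • x 1 • b
        rw [hc, mul_smul, mul_smul, st_ib g.2.1]
    · rintro ⟨c, hc, rfl⟩
      obtain ⟨τ, hτ, e⟩ := s.tr (x 1) (x_mem h.ld 1) (x c) (x_mem h.ld c)
        (x_ne h.ld one_ne_zero) (x_ne h.ld hc)
      refine ⟨⟨τ, hτ.2, mem_C.2 (s.cv τ hτ)⟩, ?_⟩
      change τ • x 1 • b = x c • b
      rw [← e, mul_smul, mul_smul, st_ib hτ.2]
  rw [relIndex, e, index_stabilizer, o, Set.ncard_image_of_injective _ fun c d e => h.inj e,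
    Set.ncard_compl, Set.ncard_singleton, Nat.card_eq_fintype_card]

theorem ZD.inv_L (h : ZD U a b z x y) {w : G} (hw : w ∈ LX U {z}) (e : w * w = 1) :
    w = 1 ∨ w = z := by
  have := ((H3.HK2.kit2.grp h.rg.sr h.ne inf_le_left inf_le_left h.ld).1
    (h.ze ▸ iv_ne h.iv)).2 w (lx_eq h.rg h.ne (sub1 h.iv.1) h.ld ▸ hw) e
  rwa [h.ze] at this

theorem ZD.cT (h : ZD U a b z x y) :
    Nat.card ↥(LX U {z} ⊓ St G a b) = Nat.card (CU U {z} a) - 1 := by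
  rw [card_F h.rg h.ne h.ld]
  exact (H84.K3.kit3.sy1 h.rg h.ne (sub1 h.iv.1) h.ld).2.1 (h.ze ▸ iv_ne h.iv)

end LD

theorem zd_of (h : C4 U) (hab : a ≠ b) (hz : Iv z a b) (s : SLt U z) :
    ∃ (F : Type) (_ : Field F) (_ : Fintype F) (x y : F → G), ZD U a b z x y := by
  obtain ⟨F, _, _, x, y, D⟩ := (h.tl hab hz).1
  exact ⟨F, inferInstance, inferInstance, x, y, h, hab, hz, D, ((h.sl hab hz D).resolve_right fun e => e.1 s).2⟩

section Fin

variable {F F' : Type} [Field F] [Fintype F] [Field F'] [Fintype F'] {x y : F → G} {x' y' : F' → G}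

theorem inv_I (h : ZD U a b z x y) (h' : ZD U a b v x' y') (f : Fr z v a b) :
    Odd (Nat.card ↥((LX U {z} ⊓ St G a b) ⊓ (LX U {v} ⊓ St G a b))) := by
  rw [← Nat.not_even_iff_odd, even_iff_two_dvd]
  intro d
  obtain ⟨g, hg⟩ := exists_prime_orderOf_dvd_card' 2 d
  have g2 : (g : G) * g = 1 := by
    rw [← pow_two, ← hg, ← Subgroup.orderOf_coe, pow_orderOf_eq_one]
  have g1 : (g : G) ≠ 1 := fun e => by
    rw [← Subgroup.orderOf_coe, e] at hg; simp at hg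
  exact f.2.2.1 (((h.inv_L g.2.1.1 g2).resolve_left g1).symm.trans
    ((h'.inv_L g.2.2.1 g2).resolve_left g1))

/-- Involutions `l τ n`. -/
theorem conj_ltn (h : ZD U a b z x y) (h' : ZD U a b v x' y') (f : Fr z v a b) (s : AS U a b v z)
    {i : F} (hi : i * i = -1) {l τ : G} (hl : l ∈ LX U {z} ⊓ St G a b)
    (hτ : τ ∈ LX U {v} ⊓ St G a b) (e : l * τ * sl2n x y 1 * (l * τ * sl2n x y 1) = 1) :
    l * τ * sl2n x y 1 ∈ LX U {z} ∨ IsConj v (l * τ * sl2n x y 1) := by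
  have i0 : i ≠ 0 := fun e => by simp [e] at hi
  set n := sl2n x y 1 with hn
  have nl : n ∈ LX U {z} := n_lx h.rg h.ne (sub1 h.iv.1) h.ld 1
  have sw : Sw n a b := h.ld.sw 1 one_ne_zero
  have n2 : n * n = z := by rw [hn, h.ld.rel.n_one_sq, h.ze]
  have cst : ∀ g ∈ St G a b, n * g * n⁻¹ ∈ St G a b := fun g hg => by
    have := st_conj n (st_symm hg)
    rwa [sw.1, sw.2] at this
  have m1 : n * l * n⁻¹ ∈ LX U {z} ⊓ St G a b :=
    mem_inf.2 ⟨mul_mem (mul_mem nl (mem_inf.1 hl).1) (inv_mem nl), cst l hl.2⟩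
  have m2 : n * τ * n⁻¹ * τ⁻¹ ∈ LX U {z} ⊓ St G a b := mem_inf.2 ⟨by
    have := mul_mem nl (lx_conj' h.rg.toSp (s.cv τ hτ) (inv_mem nl))
    simpa only [mul_assoc] using this, mul_mem (cst τ hτ.2) (inv_mem (mem_inf.1 hτ).2)⟩
  have t2 : τ * τ ∈ LX U {z} ⊓ St G a b := by
    have m := mul_mem m1 m2
    have : τ * τ = (n * l * n⁻¹ * (n * τ * n⁻¹ * τ⁻¹))⁻¹ * l⁻¹ * z⁻¹ := by
      have e1 : l * (τ * (n * l * n⁻¹ * (n * τ * n⁻¹ * τ⁻¹))) * τ * z = 1 := by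
        rw [← e, ← n2]; group
      rw [s.comm τ hτ _ m] at e1
      have e2 := s.comm τ hτ _ m
      calc τ * τ = (n * l * n⁻¹ * (n * τ * n⁻¹ * τ⁻¹))⁻¹ * l⁻¹ *
            (l * (n * l * n⁻¹ * (n * τ * n⁻¹ * τ⁻¹) * τ) * τ * z) * z⁻¹ := by group
        _ = _ := by rw [e1, mul_one]
    rw [this]
    exact mul_mem (mul_mem (inv_mem m) (inv_mem hl)) (inv_mem h.zl)
  obtain ⟨j, hj⟩ := inv_I h h' f
  have p1 : (τ * τ) ^ (2 * j + 1) = 1 := by
    rw [← hj]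
    exact congrArg Subtype.val (pow_card_eq_one' (G := ↥((LX U {z} ⊓ St G a b) ⊓
      (LX U {v} ⊓ St G a b))) (x := ⟨τ * τ, t2, mul_mem hτ hτ⟩))
  have p2 : τ = ((τ * τ) ^ j)⁻¹ * τ ^ (2 * j + 1) := by rw [← pow_two, ← pow_mul]; group
  have ml : l * ((τ * τ) ^ j)⁻¹ ∈ LX U {z} := mul_mem hl.1 (inv_mem (pow_mem t2.1 j))
  rcases h'.inv_L (pow_mem hτ.1 (2 * j + 1)) (by rw [← p1, (Commute.refl τ).mul_pow]) with p | p
  · left
    rw [p2, p, mul_one]; exact mul_mem ml nl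
  right
  obtain ⟨k, kK, hk⟩ := hk_dec h.rg h.ne h.iv.1 h.ld hi f.2.1.1 f.2.2.2.symm fun u hu => by
    rw [iv_inv f.2.1]; exact h.c4.neg h.ne f u hu
  have hl' := h_lx h.rg h.ne (sub1 h.iv.1) h.ld i
  set l₂ := l * ((τ * τ) ^ j)⁻¹ * sl2h x y i * n with hl₂
  have m₂ : l₂ ∈ LX U {z} := mul_mem (mul_mem ml hl') nl
  have e₂ : l * τ * n = l₂ * k := by
    rw [hl₂, mul_assoc _ n k, ← kl h.rg h.ne h.iv.1 kK nl]
    nth_rewrite 1 [p2]
    rw [p, hk]; group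
  have hh : sl2h x y i * sl2h x y i = sl2h x y (-1) := by rw [h.ld.rel.h_mul' i0 i0, hi]
  have sq : ∀ m ∈ LX U {z}, m * k * (m * k) = m * m * (k * k) := fun m hm => by
    calc _ = m * (k * m) * k := by group
      _ = _ := by rw [kl h.rg h.ne h.iv.1 kK hm]; group
  have q₂ : l₂ * l₂ = sl2h x y (-1) := by
    have a1 := sq _ m₂
    have a2 := sq _ hl'
    rw [← e₂, e] at a1
    rw [← hk, iv_sq f.2.1, hh] at a2
    exact mul_right_cancel (a1.symm.trans a2)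
  have sl := (H84.K3.kit3.slc h.rg h.ne (sub1 h.iv.1) h.ld (h.ze ▸ iv_ne h.iv)).2
  obtain ⟨g₁, m₁, c₁⟩ := sl _ m₂ q₂
  obtain ⟨g₂, m₃, c₂⟩ := sl _ hl' hh
  have cj : ∀ g ∈ LX U {z}, ∀ m, g * (m * k) * g⁻¹ = g * m * g⁻¹ * k := fun g hg m => by
    rw [mul_assoc (g * m), ← kl h.rg h.ne h.iv.1 kK (inv_mem hg)]; group
  rw [e₂, hk]
  exact (isConj_iff.2 ⟨g₂, by rw [cj _ m₃, c₂]⟩).trans (isConj_iff.2 ⟨g₁, by rw [cj _ m₁, c₁]⟩).symm

theorem one (h : ZD U a b z x y) (h' : ZD U a b v x' y') (f : Fr z v a b) (s : AS U a b v z)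
    (s' : AS U a b z v) (hq : HasQ Ω z) (q1 : Fintype.card F % 4 = 1) : H89.K.One G := by
  obtain ⟨i, hi⟩ := ex_i q1
  have sz : SLt U z := h.zl.1
  have slc := h.c4.slc h.ne h.iv sz
  set n := sl2n x y 1 with hn
  have nl : n ∈ LX U {z} := n_lx h.rg h.ne (sub1 h.iv.1) h.ld 1
  have sw : Sw n a b := h.ld.sw 1 one_ne_zero
  have n2 : n * n = z := by rw [hn, h.ld.rel.n_one_sq, h.ze]
  have cst : ∀ g ∈ St G a b, n * g * n⁻¹ ∈ St G a b := fun g hg => by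
    have := st_conj n (st_symm hg)
    rwa [sw.1, sw.2] at this
  set Tz := LX U {z} ⊓ St G a b
  set Tv := LX U {v} ⊓ St G a b
  have nrm : Tz ≤ normalizer (Tv : Set G) := fun l hl => mem_normalizer_fintype fun τ hτ => by
    rw [← s.comm τ hτ l hl, mul_inv_cancel_right]; exact hτ
  set A := Tz ⊔ Tv with hA
  have mA : ∀ g ∈ A, ∃ l ∈ Tz, ∃ τ ∈ Tv, g = l * τ := fun g hg => by
    have : g ∈ ((Tz : Set G) * (Tv : Set G)) := by rw [← coe_mul_of_left_le_normalizer_right _ _ nrm]; exact hg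
    obtain ⟨l, hl, τ, hτ, e⟩ := this
    exact ⟨l, hl, τ, hτ, e.symm⟩
  have Ast : A ≤ St G a b := sup_le inf_le_right inf_le_right
  have Az : A ≤ centralizer {z} := sup_le (fun l hl => mem_C.2 (lx_comm h.rg h.ne h.iv.1 hl.1))
    fun τ hτ => mem_C.2 (s.cv τ hτ)
  have Av : A ≤ centralizer {v} := sup_le (fun l hl => mem_C.2 (s'.cv l hl))
    fun τ hτ => mem_C.2 (lx_comm h.rg h.ne h'.iv.1 hτ.1)
  have nA : n ∈ normalizer (A : Set G) := mem_normalizer_fintype fun g hg => by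
    obtain ⟨l, hl, τ, hτ, rfl⟩ := mA g hg
    have m1 : n * l * n⁻¹ ∈ Tz :=
      mem_inf.2 ⟨mul_mem (mul_mem nl (mem_inf.1 hl).1) (inv_mem nl), cst l hl.2⟩
    have m2 : n * τ * n⁻¹ * τ⁻¹ ∈ Tz := mem_inf.2 ⟨by
      have := mul_mem nl (lx_conj' h.rg.toSp (s.cv τ hτ) (inv_mem nl))
      simpa only [mul_assoc] using this, mul_mem (cst τ hτ.2) (inv_mem (mem_inf.1 hτ).2)⟩
    rw [show n * (l * τ) * n⁻¹ = n * l * n⁻¹ * (n * τ * n⁻¹ * τ⁻¹) * τ by group]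
    exact mul_mem (mem_sup_left (mul_mem m1 m2)) (mem_sup_right hτ)
  have zA : z ∈ A := mem_sup_left h.zl
  set B := A ⊔ zpowers n with hB
  have mB : ∀ g ∈ B, g ∈ A ∨ g * n⁻¹ ∈ A := fun g hg => by
    have : g ∈ ((A : Set G) * (zpowers n : Set G)) := by
      rw [← coe_mul_of_right_le_normalizer_left _ _ (zpowers_le.2 nA)]; exact hg
    obtain ⟨c, hc, m, hm, rfl⟩ := this
    obtain ⟨j, rfl⟩ := mem_zpowers_iff.1 hm
    obtain ⟨k, rfl | rfl⟩ := Int.even_or_odd' j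
    · left
      rw [zpow_mul, zpow_two, n2]; exact mul_mem hc (zpow_mem zA k)
    · right
      change c * n ^ (2 * k + 1) * n⁻¹ ∈ A
      rw [zpow_add_one, zpow_mul, zpow_two, n2, mul_assoc, mul_inv_cancel_right]
      exact mul_mem hc (zpow_mem zA k)
  have nnA : n ∉ A := fun m => h.ne ((Ast m).1.symm.trans sw.1)
  have iB : A.relIndex B = 2 := by
    refine relIndex_eq_two_iff.2 ⟨n⁻¹, inv_mem (mem_sup_right (mem_zpowers n)), fun g hg => ?_⟩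
    rcases mB g hg with m | m
    · exact Or.inr ⟨m, fun m' => nnA (by simpa using mul_mem (inv_mem m') m)⟩
    · exact Or.inl ⟨m, fun m' => nnA (by simpa using mul_mem (inv_mem m) m')⟩
  have BC : B ≤ centralizer {z} :=
    sup_le Az (zpowers_le.2 (mem_C.2 (lx_comm h.rg h.ne h.iv.1 nl)))
  obtain ⟨R, ρ, κ, r, RK, Ro, cR, r2, ρK, κK, o, p, cj⟩ := h.syl hq
  obtain ⟨e, he⟩ := h.dvd s' f hi r2 ρK κK o p cj
  have h4 : ¬ 4 ∣ B.relIndex (centralizer {z}) := by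
    have cF := card_F h.rg h.ne h.ld
    have c1 := (H72.HKS.kit1.cnt h.rg h.ne h.iv.1 h.iv.2 (h.c4.fx3 h.ne h.iv) cF).2.2.2.2.1
    have c2 := H12.card_mul_relIndex (inf_le_left : Dz a b (x 1 • b) z ≤ _)
    have c3 := H12.card_mul_relIndex (RK.trans h.kD)
    have c4 := H12.card_mul_relIndex BC
    have c5 := H12.card_mul_relIndex (le_sup_left : A ≤ B)
    have c6 := H12.card_sup_mul_card_inf nrm
    have c7 := inv_I h h' f
    rw [h.cT, h'.cT, s'.cz, cF, he, ← hA] at c6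
    rw [h.idx s, he] at c2
    rw [cR] at c3
    rw [iB] at c5
    have e0 : 0 < e := by
      have := Fintype.one_lt_card (α := F)
      rcases e with _ | e
      · omega
      · omega
    obtain ⟨t, ht⟩ : ∃ t, Fintype.card F = 4 * t + 1 := ⟨Fintype.card F / 4, by omega⟩
    generalize Nat.card ↥(Tz ⊓ Tv) = I at *
    generalize R.relIndex (Dz a b (x 1 • b) z) = o₁ at *
    generalize B.relIndex (centralizer {z}) = N at *
    have key : N * e = 2 * ((2 * t + 1) * (4 * t + 1) * o₁ * I) := by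
      have : 2 * (2 ^ r * (2 ^ r * e)) * (N * e) =
          2 * (2 ^ r * (2 ^ r * e)) * (2 * ((2 * t + 1) * (4 * t + 1) * o₁ * I)) := by
        calc _ = 2 ^ r * e * (2 ^ r * e) * 2 * N := by ring
          _ = Nat.card (centralizer ({z} : Set G)) * I := by rw [← c6, ← c4, ← c5]; ring
          _ = _ := by rw [c1, ← c2, ← c3, ht]; ring
      exact Nat.eq_of_mul_eq_mul_left (by positivity) this
    rintro ⟨N, rfl⟩
    have od : Odd ((2 * t + 1) * (4 * t + 1) * o₁ * I) :=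
      ((Odd.mul ⟨t, rfl⟩ ⟨2 * t, by ring⟩).mul Ro).mul c7
    obtain ⟨w, hw⟩ := od
    rw [hw, mul_assoc] at key
    omega
  have all : ∀ t : G, orderOf t = 2 → IsConj z t := fun t ht => by
    have t2 : t * t = 1 := by rw [← pow_two, ← ht, pow_orderOf_eq_one]
    obtain ⟨g, hg⟩ := into_B (H72.HKS.kit1.par h.c4.toCore.pre).1 slc.1 BC h4 t2
    refine IsConj.trans ?_ (isConj_iff.2 ⟨g, rfl⟩).symm
    have w2 : g * t * g⁻¹ * (g * t * g⁻¹) = 1 := by rw [conj_mul, t2]; simp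
    have w1 : g * t * g⁻¹ ≠ 1 := fun e => by simp [conj_eq_one_iff.1 e] at ht
    generalize g * t * g⁻¹ = w at *
    have zv := slc.2.1 v h'.iv h'.zl.1
    rcases mB w hg with m | m
    · rcases h.c4.noE8 a b z v w h.ne f (Ast m) w2 (mem_C.1 (Az m)) (mem_C.1 (Av m)) with
        e | e | e | e
      · exact absurd e w1
      · rw [e]
      · rw [e]; exact zv
      · rw [e]; exact slc.2.1 _ (fr_iv f) s'.sl3
    · obtain ⟨l, hl, τ, hτ, e⟩ := mA _ m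
      rw [mul_inv_eq_iff_eq_mul] at e
      subst e
      rcases conj_ltn h h' f s hi hl hτ w2 with m | m
      · rw [(h.inv_L m w2).resolve_left w1]
      · exact zv.trans m
  exact fun s t hs ht => (all s hs).symm.trans (all t ht)

end Fin

theorem jobP1d (hAS : JobAS.{u}) : JobP1d.{u} := by
  intro G Ω _ _ _ U a b z v h hab f sz q1 hq sv
  obtain ⟨F, _, _, x, y, D⟩ := zd_of h hab f.1 sz
  obtain ⟨F', _, _, x', y', D'⟩ := zd_of h hab f.2.1 sv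
  have s := hAS G Ω U a b v z h hab (fr_symm f) sv sz
  refine ⟨one D D' f s (hAS G Ω U a b z v h hab f sz sv) hq ?_, D.nf hq s⟩
  rw [← card_F D.rg hab D.ld, (h.tl hab f.1).2, q1]

end H9.HK
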