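import Cfsg.Agent.H7.HKSSpec
import Cfsg.Agent.H9.BpHE
import Cfsg.Agent.H96.PMin
import Cfsg.Agent.S0252

/-! HKS tower, job Ev: root groups of even order. -/

set_option autoImplicit false
set_option linter.unusedSectionVars false
set_option linter.style.haveILetI false

namespace H9.HKSEv

open MulAction Cfsg Subgroup H89.K H89 H7.HKS H98 Equiv
open H29.Holt (HZ)

universe u

variable {G Ω : Type u} [Group G] [Finite G] [MulAction G Ω] {U : Ω → Subgroup G} {a b : Ω} {u z : G}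

theorem mem_core {p k : ℕ} [Fact p.Prime] {W : Subgroup G} (h : Group.IsNilpotent W) (hu : u ∈ W)
    (e : u ^ p ^ k = 1) : u ∈ pCoreOf p W :=
  mem_map_of_mem W.subtype (H2.le_pCore_of_isNilpotent (A := zpowers (⟨u, hu⟩ : W))
    (isPGroup_zpowers (k := k) (Subtype.ext e)) (mem_zpowers _))

theorem stab_le (h : Sp U) (a : Ω) : stabilizer G a ≤ normalizer (U a : Set G) := fun g hg =>
  mem_normalizer_of_cj_le (by
    rintro _ ⟨u, hu, rfl⟩
    have := h.conj g a u hu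
    rwa [mem_stabilizer_iff.1 hg] at this)

theorem reg_of (h : Sp U) (e : ∀ b, b ≠ a → ∀ u ∈ U a, u • b = b → u = 1) : Reg U := fun c b hb u hu f => by
  obtain ⟨g, rfl⟩ := h.t2.trans c a
  exact conj_eq_one_iff.1 (e (g • b) (fun k => hb (smul_left_cancel g k)) _ (h.conj g c u hu) (conj_smul_eq.2 f))

/-- an element commuting with a group transitive on the other points -/
theorem eq_one_of_comm (h : T2 G Ω) (ha : u • a = a) (hb : b ≠ a) (e : u • b = b)
    (tr : ∀ c, c ≠ a → ∃ t : G, t * u = u * t ∧ t • b = c) : u = 1 := h.faith u fun c => by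
  by_cases hc : c = a
  · rw [hc, ha]
  · obtain ⟨t, h1, rfl⟩ := tr c hc
    exact fix_of_comm h1 e

theorem exists_z (h : Sp U) (ev : Even (Nat.card (U a))) :
    ∃ z ∈ U a, z ∈ centralizer (U a : Set G) ∧ HZ Ω z ∧ z • a = a := by
  haveI := h.nil a
  haveI := h.t2.finite
  haveI := h.t2.pretransitive
  obtain ⟨⟨x, hx⟩, o⟩ := exists_prime_orderOf_dvd_card' (G := U a) 2 ev.two_dvd
  rw [orderOf_mk] at o
  have h1 : pCore 2 (U a) ≠ ⊥ := fun e => by
    have := (pCoreOf_eq_bot_iff.2 e).le (mem_core (k := 1) (h.nil a) hx (by rw [pow_one, ← o, pow_orderOf_eq_one]))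
    rw [mem_bot.1 this, orderOf_one] at o
    omega
  haveI := pCore_normal 2 (U a)
  have h2 : pCoreOf 2 (U a) ⊓ centralizer (U a : Set G) ≠ ⊥ := fun e =>
    H2.inf_center_ne_bot_of_isNilpotent _ h1 (eq_bot_iff.2 fun y hy => Subtype.ext (mem_bot.1 (e.le
      ⟨mem_map_of_mem _ hy.1, fun v hv => congrArg Subtype.val (mem_center_iff.1 hy.2 ⟨v, hv⟩)⟩)))
  obtain ⟨S, hS⟩ := exists_isSyl 2 (stabilizer G a)
  have h3 := hS.le.trans (stab_le h a)
  have h4 : IsPGroup 2 ↥(pCoreOf 2 (U a) ⊓ centralizer (U a : Set G)) := (isPGroup_pCoreOf _).to_inf_left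
  obtain ⟨⟨z₀, hz₀⟩, z1⟩ := ne_bot_iff_exists_ne_one.1 (inf_centralizer_ne_bot h4 hS.isPGroup
    (le_normalizer_inf (le_normalizer_pCoreOf h3) (le_normalizer_centralizer h3)) h2)
  obtain ⟨k, hk⟩ := H9.BpHE.ex_inv (isPGroup_iff_forall.1 h4 z₀ hz₀.1) fun e => z1 (Subtype.ext e)
  have hz := pow_mem hz₀ (2 ^ k)
  generalize z₀ ^ 2 ^ k = z at hk hz
  have z2 : z * z = 1 := by rw [← pow_two, ← hk, pow_orderOf_eq_one]
  have z3 : z ≠ 1 := fun e => by rw [e, orderOf_one] at hk; omega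
  have zU := pCoreOf_le _ hz.1.1
  have za := h.fix a z zU
  have h5 : ∀ b, z • b = b → b = a := fun b e => by_contra fun hb => z3 (eq_one_of_comm h.t2 za hb e fun c hc =>
    let ⟨t, ht, f⟩ := h.tr hb hc; ⟨t, hz.1.2 t ht, f⟩)
  have h6 : IsPGroup 2 (zpowers z) := isPGroup_zpowers (k := 1) (by rw [pow_one, pow_two, z2])
  have h7 := h6.card_modEq_card_fixedPoints Ω
  have h8 : fixedPoints (zpowers z) Ω = {a} := Set.eq_singleton_iff_unique_mem.2
    ⟨fun g => (zpowers_le.2 (mem_stabilizer_iff.2 za) : zpowers z ≤ stabilizer G a) g.2,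
      fun b hb => h5 b (hb ⟨z, mem_zpowers z⟩)⟩
  rw [h8, Nat.card_coe_set_eq, Set.ncard_singleton] at h7
  have h9 : IsSyl 2 S ⊤ := H96.isSyl_of_not_dvd hS le_top (by
    rw [relIndex_top_right, index_stabilizer_of_transitive]
    unfold Nat.ModEq at h7
    omega)
  refine ⟨z, zU, hz.1.2, ⟨z3, z2, ⟨S, h9, ?_, hz.2⟩, a, za, h5⟩, za⟩
  exact h9.le_of_le_normalizer' h6 le_top (zpowers_le.2 (centralizer_le_normalizer _ hz.2)) (mem_zpowers z)

/-- the case of a group containing all three-cycles -/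
theorem reg_alt (h : Sp U) (zU : z ∈ U a) (zc : z ∈ centralizer (U a : Set G)) (hz : HZ Ω z)
    (k : H29.Holt.Alt3 G Ω) : Reg U := reg_of h (a := a) fun b hb u hu e => by
  by_contra u1
  obtain ⟨w, hw⟩ := h.t2.exists_move u1
  have ua := h.fix a u hu
  have za := h.fix a z zU
  have h1 : u • z • b = z • b := fix_of_comm (zc u hu).symm e
  have h2 : u • u • w ≠ u • w := fun f => hw (smul_left_cancel u f)
  have n1 : ∀ {c d : Ω}, u • c = c → u • d ≠ d → c ≠ d := fun f g e => g (e ▸ f)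
  have h3 : z • b ≠ b := fun f => hb (hz.eq_of_fix f za)
  have h4 : z • b ≠ a := fun f => hb (smul_left_cancel z (f.trans za.symm))
  obtain ⟨c, c1, -, -, c4⟩ := k (z • b) w (u • w) (n1 h1 hw) (n1 h1 h2) (Ne.symm hw)
  have c5 := c4 a h4.symm (n1 ua hw) (n1 ua h2)
  have c6 := c4 b h3.symm (n1 e hw) (n1 e h2)
  have h5 := conj_mem_of_mem_normalizer (le_normalizer_centralizer (stab_le h a) c5) zc
  have h6 := fix_of_comm (h5 u hu).symm e
  rw [mul_smul, mul_smul, inv_smul_eq_iff.2 c6.symm, c1] at h6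
  exact hw h6

/-- the case of a Bender group -/
theorem reg_pb (h : Sp U) {M : Subgroup G} [M.Normal] (hs : IsSimpleGroup M) (hn : ¬ IsMulCommutative M)
    (ot : ∀ s ∈ M, s ≠ 1 → s * s = 1 → ∃! a : Ω, s • a = a) : Reg U := by
  haveI := h.t2.finite
  haveI := h.t2.faithful
  haveI := h.t2.nontrivial
  let ρ := toPermHom G Ω
  have ρi : Function.Injective ρ := toPerm_injective
  have e := M.equivMapOfInjective ρ ρi
  have M0 : M ≠ ⊥ := (nontrivial_iff_ne_bot M).1 inferInstance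
  have nM : ∀ g : G, ρ g ∈ normalizer (M.map ρ : Set (Perm Ω)) := fun g =>
    map_le_normalizer_map ρ (le_normalizer_of_normal (K := ⊤)) (mem_map_of_mem ρ (mem_top g))
  have pb : H61.HB.PB (M.map ρ) := by
    refine ⟨e.symm.isSimpleGroup, fun c => hn ⟨⟨fun x y => e.injective ?_⟩⟩, fun a b => ?_, exists_pair_ne Ω, ?_, ?_⟩
    · rw [map_mul, map_mul]
      exact c.1.1 _ _
    · obtain ⟨n, hn, f⟩ := h.t2.normal_trans M M0 a b
      exact ⟨ρ n, mem_map_of_mem ρ hn, f⟩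
    · rintro _ ⟨s, hs, rfl⟩ s1 s2
      exact ot s hs (fun f => s1 (f ▸ map_one ρ)) (ρi (by rw [map_mul, s2, map_one]))
    · have h1 : 2 ∣ Nat.card M := by_contra fun f => hn ⟨⟨IsSimpleGroup.comm_iff_isSolvable.2
        (H42.odd_order (Nat.odd_iff.2 (Nat.two_dvd_ne_zero.1 f)))⟩⟩
      obtain ⟨⟨x, hx⟩, o⟩ := exists_prime_orderOf_dvd_card' (G := M) 2 h1
      rw [orderOf_mk] at o
      refine ⟨ρ x, mem_map_of_mem ρ hx, fun f => ?_, by rw [← map_mul, ← pow_two, ← o, pow_orderOf_eq_one, map_one]⟩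
      rw [(map_eq_one_iff ρ ρi).1 f, orderOf_one] at o
      omega
  obtain ⟨T, hT⟩ := exists_isSyl 2 (M.map ρ)
  obtain ⟨a, S⟩ := pb.syl hT
  refine reg_of h (a := a) fun b hb u hu f => by_contra fun u1 => ?_
  have h1 : zpowers u ≤ U a ⊓ stabilizer G b := zpowers_le.2 ⟨hu, f⟩
  obtain ⟨p, hp, h2⟩ := Nat.exists_prime_and_dvd (n := Nat.card (zpowers u))
    (by rw [Ne, card_eq_one, zpowers_eq_bot]; exact u1)
  haveI := Fact.mk hp
  obtain ⟨⟨v, hv⟩, o⟩ := exists_prime_orderOf_dvd_card' (G := zpowers u) p h2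
  rw [orderOf_mk] at o
  obtain ⟨hv, f⟩ := h1 hv
  have v1 : v ≠ 1 := fun f => hp.one_lt.ne' (by rw [← o, f, orderOf_one])
  have vp : v ^ p ^ 1 = 1 := by rw [pow_one, ← o, pow_orderOf_eq_one]
  have va := h.fix a v hv
  have h3 : ∀ d : G, d • a = a → ∃ k, (d * v * d⁻¹ * v⁻¹) ^ p ^ k = 1 := fun d hd =>
    isPGroup_iff_forall.1 (isPGroup_pCoreOf (U a)) _ (mul_mem (conj_mem_of_mem_normalizer
      (le_normalizer_pCoreOf (stab_le h a) hd) (mem_core (h.nil a) hv vp)) (inv_mem (mem_core (h.nil a) hv vp)))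
  by_cases p2 : p = 2
  · subst p2
    refine v1 ((map_eq_one_iff ρ ρi).1 (H9.BpHE.eq_one_of_pb pb (nM v) (by
      rw [← map_mul, ← pow_two, ← o, pow_orderOf_eq_one, map_one]) (x := a) (y := b) va f hb ?_))
    rintro _ ⟨d, -, rfl⟩ hd
    obtain ⟨k, hk⟩ := h3 d hd
    exact ⟨k, by rw [← map_inv, ← map_inv, ← map_mul, ← map_mul, ← map_mul, ← map_pow, hk, map_one]⟩
  refine v1 (eq_one_of_comm h.t2 va hb f fun c hc => ?_)
  obtain ⟨t, ht, e1⟩ := S.tr b c hb hc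
  obtain ⟨d, -, rfl⟩ := hT.le ht
  refine ⟨d, ?_, e1⟩
  obtain ⟨k, hk⟩ := h3 d (S.fix _ ht)
  obtain ⟨j, hj⟩ := isPGroup_iff_forall.1 hT.isPGroup _ (inv_mem ht)
  have h4 : ρ v * (ρ d)⁻¹ * (ρ v)⁻¹ ∈ T := S.mem _ (conj_mem_of_mem_normalizer (nM v) (hT.le (inv_mem ht)))
    ⟨j, by rw [conj_pow, hj, mul_one, mul_inv_cancel]⟩ (by
      have k1 : (ρ v)⁻¹ a = a := Perm.inv_eq_iff_eq.2 va.symm
      rw [Perm.mul_apply, Perm.mul_apply, k1, S.fix _ (inv_mem ht)]
      exact va)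
  obtain ⟨i, hi⟩ := isPGroup_iff_forall.1 hT.isPGroup _ (mul_mem ht h4)
  rw [← map_inv, ← map_inv, ← map_mul, ← map_mul, ← map_mul, ← map_pow, map_eq_one_iff ρ ρi, ← mul_assoc,
    ← mul_assoc] at hi
  have h5 := Nat.eq_one_of_dvd_coprimes (Nat.Coprime.pow k i ((Nat.coprime_primes hp Nat.prime_two).2 p2))
    (orderOf_dvd_of_pow_eq_one hk) (orderOf_dvd_of_pow_eq_one hi)
  rwa [orderOf_eq_one_iff, mul_inv_eq_one, mul_inv_eq_iff_eq_mul] at h5

theorem known (h : Sp U) (na : ¬ Aff G Ω) (zU : z ∈ U a) (zc : z ∈ centralizer (U a : Set G)) (hz : HZ Ω z)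
    [IsSimpleGroup G] : Known G := by
  have za := h.fix a z zU
  have hn : ¬ IsMulCommutative G := fun c => na (h.t2.aff_of_center hz.ne_one fun g => c.1.1 g z)
  obtain ⟨b, hb, -⟩ := h.t2.exists_third a a
  obtain ⟨g, hg⟩ := h.t2.trans a b
  rcases H82.HT.holt hn (stabilizer G a) (fun e => hb (hg.symm.trans (e.ge (mem_top g)))) z za hz.tc
    (fun g hg => hz.fix_of_comm za (mem_centralizer_singleton_iff.1 hg))
    (fun g hg => ⟨g, (hz.conj g).eq_of_fix (H29.Holt.conj_smul_smul za g) hg, rfl⟩) with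
    ⟨⟨F, _, _, n, -, -, e⟩ | ⟨F, _, _, n, -, e⟩ | e, -⟩ | ⟨n, h5, ⟨e⟩, ⟨e'⟩⟩
  · exact .inl ⟨F, _, ‹_›, e⟩
  · exact .inr (.inl ⟨F, _, _, _, e⟩)
  · exact .inr (.inr (.inl e))
  obtain rfl : n = 5 := by
    by_contra h6
    haveI := alternatingGroup.isSimpleGroup (α := Fin (n - 1)) (by simp; omega)
    haveI := e'.isSimpleGroup
    have h1 := (normal_subgroupOf_of_le_normalizer (stab_le h a)).eq_bot_or_eq_top.resolve_left fun f =>
      hz.ne_one (congrArg Subtype.val (mem_bot.1 (f.le (show (⟨z, za⟩ : stabilizer G a) ∈ _ from zU))))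
    have h2 : e' ⟨z, za⟩ ∈ center _ := mem_center_iff.2 fun y => by
      obtain ⟨y, rfl⟩ := e'.surjective y
      rw [← map_mul, ← map_mul]
      exact congrArg e' (Subtype.ext (zc y (h1.ge (mem_top y))))
    rw [alternatingGroup.center_eq_bot (by simp; omega), mem_bot, map_eq_one_iff e' e'.injective] at h2
    exact hz.ne_one (congrArg Subtype.val h2)
  haveI := Fintype.ofFinite (GaloisField 2 2)
  obtain ⟨f⟩ := Cfsg.Agent.S0252.result (F := GaloisField 2 2)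
    (by rw [← Nat.card_eq_fintype_card, GaloisField.card 2 2 two_ne_zero]; rfl)
  exact .inl ⟨_, _, ‹_›, ⟨e.trans f.symm⟩⟩

theorem jobEv : JobEv.{u} := by
  intro G Ω _ _ _ U a h na ev
  obtain ⟨z, zU, zc, hz, za⟩ := exists_z h ev
  refine ⟨?_, fun _ => known h na zU zc hz⟩
  haveI := h.t2.faithful
  haveI := h.t2.nontrivial
  obtain ⟨M, -, hM⟩ := exists_isMinNormal_le (⊤ : Subgroup G) inferInstance
    fun e => hz.ne_one (mem_bot.1 (e.le (mem_top z)))
  obtain ⟨hs, hn⟩ := (h.t2.aff_or_simple hM).resolve_left na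
  haveI := hM.normal
  obtain ⟨S, hS, zS, hc⟩ := hz.syl
  have zX : z ∈ M ⊔ zpowers z := mem_sup_right (mem_zpowers z)
  have h1 := hS.inf_of_le_normalizer (le_top (a := M ⊔ zpowers z)) (le_normalizer_sup le_normalizer_of_normal
    (le_normalizer_of_le_centralizer (le_centralizer_iff.1 (zpowers_le.2 hc))))
  have Z : HZ Ω (⟨z, zX⟩ : ↥(M ⊔ zpowers z)) := ⟨fun e => hz.ne_one (congrArg Subtype.val e), Subtype.ext hz.sq,
    ⟨_, h1.subgroupOf_top, ⟨zS, zX⟩, fun g hg => Subtype.ext (hc g hg.1)⟩, hz.fix⟩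
  haveI : IsPretransitive ↥(M ⊔ zpowers z) Ω := ⟨fun a b =>
    let ⟨g, hg, e⟩ := h.t2.normal_trans M hM.ne_bot a b; ⟨⟨g, mem_sup_left hg⟩, e⟩⟩
  have e := subgroupOfEquivOfLe (le_sup_left : M ≤ M ⊔ zpowers z)
  rcases H29.Holt.ih_of (H82.HT.holtThm _) ↥(M ⊔ zpowers z) Ω _ (M.subgroupOf _) (Nat.lt_succ_self _) Z
    inferInstance e.isSimpleGroup (fun c => hn ⟨⟨fun x y => e.symm.injective (by
      rw [map_mul, map_mul]; exact c.1.1 _ _)⟩⟩) (map_injective (M ⊔ zpowers z).subtype_injective (by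
      rw [Subgroup.map_sup, map_subgroupOf_eq_of_le le_sup_left, MonoidHom.map_zpowers, map_subtype_top]
      rfl)) with k | k
  · exact reg_pb h hs hn fun s hs s1 s2 =>
      k ⟨s, mem_sup_left hs⟩ (fun e => s1 (congrArg Subtype.val e)) (Subtype.ext s2)
  · exact reg_alt h zU zc hz fun a b c h1 h2 h3 => let ⟨x, hx⟩ := k a b c h1 h2 h3; ⟨x, hx⟩

end H9.HKSEv
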