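/- CKS (S2193): chapters A and P, all but two slots. -/
import Cfsg.Agent.H9.CKATop
import Cfsg.Agent.H9.CKE6
import Cfsg.Agent.H75.CKA2
import Cfsg.Agent.H75.CKP0
import Cfsg.Agent.H75.CKT
import Cfsg.Agent.H63.CKCh
import Cfsg.Agent.H94.CkD4
import Cfsg.Agent.H6.CkR1
import Cfsg.Agent.H37.CKF4
import Cfsg.Agent.H56.CkC1
import Cfsg.Agent.H54.CKTD
import Cfsg.Agent.H66.CKC3
import Cfsg.Agent.H32.CKCD

set_option autoImplicit false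

namespace H9.CK

theorem jobA_of_C2 (C2 : JobCD → JobC2) : H32.CK.JobA :=
  jobA_of H75.CKA2.jobA2 H6.CkR1.jobR1 (H56.CK.jobC1 H32.CKD.jobCD) (C2 H32.CKD.jobCD)
    (H66.CKC.jobC3 H32.CKD.jobCD) H63.CKC.jobCCh jobCE6 H94.CK.jobCD4 H37.CK.jobCF4

theorem jobP_of_PL (PL : JobPL) : H32.CK.JobP :=
  jobP_of H75.CKP0.jobP0 PL H6.CkR1.jobR1 H54.CK.jobTD H75.CKT.jobTCh H75.CKT.jobTTw

end H9.CK
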