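import Cfsg.Agent.H57.U2CSpec

/-! Job M1 of the chapter U2F of S3275: counting with the dihedral pairs. -/

set_option autoImplicit false

namespace H9.U2CM1

open Subgroup Cfsg H98 H96 H97 H48.DP H57.DPC H48.DP2 H96.U2I H57.U2C

universe u

theorem pow_le {d k : ℕ} {n : Fin d → ℕ} (h : ∀ i, k ≤ n i) : k ^ d ≤ ∏ i, n i := by
  simpa using Finset.pow_card_le_prod Finset.univ n k fun i _ => h i

theorem lt3 {d : ℕ} (h : 2 ≤ d) : 2 * 2 ^ d < 3 ^ d := by
  induction d, h using Nat.le_induction with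
  | base => norm_num
  | succ n _ ih =>
    rw [pow_succ, pow_succ]
    omega

theorem jobM1 : JobM1.{u} := by
  intro dh pr cn
  have st : ∀ (W : Type u) [AddCommGroup W] [Finite W] (F B : Subgroup (Au W)), Qd F B →
      ∃ (d : ℕ) (a x : Fin d → Au W), Fam F B a x ∧ (∀ i, Pr (a i) (x i)) ∧ Cnt B a x ∧
        2 ^ d ≤ ∏ i, nI (a i) (x i) ∧ ∏ i, nI (a i) (x i) ≤ (fx W B).index := by
    intro W _ _ F B q
    obtain ⟨d, a, x, f⟩ := dh W F B q
    have p : ∀ i, Pr (a i) (x i) := fun i => pr W _ _ q.two (by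
      rw [← pow_two]
      exact pow_eq_one_of_dl (V := W) (fun v => by rw [two_nsmul, q.two])
        fun v => dl_of_fx (q.qd _ (f.aB i) v) (f.aB i)) (f.x3 i) (f.inv i)
    have c := cn W F B d a x q f p
    exact ⟨d, a, x, f, p, c, pow_le fun i => (p i).two,
      c.c1 _ fun h hh i _ => hh _ (f.aB i)⟩
  refine ⟨fun W _ _ F B q => ?_, fun W _ _ F B q h w hw => ?_, fun W _ _ F B q h h4 => ?_⟩
  · obtain ⟨d, a, x, f, -, -, h1, h2⟩ := st W F B q
    exact f.card.le.trans (h1.trans h2)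
  · obtain ⟨d, a, x, f, p, c, h1, h2⟩ := st W F B q
    rw [f.card] at h
    obtain ⟨i, hi⟩ : ∃ i, a i • w ≠ w := by
      by_contra hn
      push Not at hn
      have : B ≤ MulAction.stabilizer (Au W) w := by
        rw [← f.gen]
        exact iSup_le fun i => zpowers_le.2 (hn i)
      exact hw fun b hb => this hb
    have n2 : nI (a i) (x i) = 2 := by
      by_contra hn
      have : ∏ _j : Fin d, 2 < ∏ j, nI (a j) (x j) :=
        Finset.prod_lt_prod (fun _ _ => two_pos) (fun j _ => (p j).two)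
          ⟨i, Finset.mem_univ _, lt_of_le_of_ne (p i).two fun e => hn e.symm⟩
      rw [Finset.prod_const, Finset.card_univ, Fintype.card_fin] at this
      omega
    obtain ⟨w0, t, ht⟩ := (p i).tp n2
    have h3 : ∀ w' : W, dl (a i) w' = 0 ∨ dl (a i) w' = dl (a i) w0 := fun w' => by
      obtain ⟨v, hv, e⟩ := c.c2 (h.trans h1) i w'
      rw [e]
      exact ht v hv
    have h4 : dl (a i) w ≠ 0 := fun e => hi (dl_eq_zero.1 e)
    have h5 := (h3 w).resolve_left h4
    refine ⟨a i, f.aB i, h4, ?_, ?_⟩ <;> rw [h5]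
    · exact h3
    · exact ⟨x i, f.xF i, f.x3 i, t⟩
  · obtain ⟨d, a, x, f, p, -, -, h2⟩ := st W F B q
    rw [f.card] at h h4
    have hd : 2 ≤ d := (Nat.pow_le_pow_iff_right (a := 2) (by norm_num)).1 h4
    obtain ⟨i, n2⟩ : ∃ i, nI (a i) (x i) = 2 := by
      by_contra hn
      push Not at hn
      have := pow_le (k := 3) fun i => Nat.succ_le_of_lt (lt_of_le_of_ne (p i).two (hn i).symm)
      have := lt3 hd
      omega
    obtain ⟨w0, t, -⟩ := (p i).tp n2
    exact ⟨a i, f.aB i, w0, x i, f.xF i, f.x3 i, t⟩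

end H9.U2CM1
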