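import Cfsg.Agent.H63.KgvSpec
import Cfsg.Agent.H28.CharCenter
import Cfsg.Agent.H87.BrDefs

/-! Tower KGV: slot Sa. -/

set_option autoImplicit false

namespace H9.KgvSa

open Cfsg H28 Finset H63.Kgv

universe u

theorem geo {ω : ℂ} {r : ℕ} (h : ω ^ r = 1) (h1 : ω ≠ 1) : ∑ j ∈ range r, ω ^ j = 0 := by
  have := mul_geom_sum ω r
  rw [h, sub_self] at this
  exact (mul_eq_zero.1 this).resolve_left (sub_ne_zero.2 h1)

theorem pow_tr {G : Type u} [Group G] {χ : G → ℂ} {w : G} {c : ℂ} (h : ∀ x, χ (w * x) = c * χ x) (k : ℕ)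
    (x : G) : χ (w ^ k * x) = c ^ k * χ x := by
  induction k with
  | zero => simp
  | succ k ih => rw [pow_succ', mul_assoc, h, ih, pow_succ', mul_assoc]

theorem isCharacter_proj {H : Type u} [Group H] [Finite H] {ξ : H → ℂ} (hξ : IsCharacter H ξ) {a : H}
    (ha : a ∈ Subgroup.center H) {r : ℕ} (hr : r ≠ 0) (har : a ^ r = 1) :
    IsCharacter H fun h => (r : ℂ)⁻¹ * ∑ i ∈ range r, ξ (a ^ i * h) := by
  classical
  have := Fintype.ofFinite H
  choose c hc using fun ψ : IrrCharacter H => mem_charCenter_iff.1 (ψ.2.center_le_charCenter ha)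
  have hr' : (r : ℂ) ≠ 0 := Nat.cast_ne_zero.2 hr
  convert isCharacter_sum_irr (G := H) fun ψ => if (c ψ : ℂ) = 1 then H87.mlt ξ ψ else 0 using 1
  funext h
  have e : ∀ y, ξ y = ∑ ψ : IrrCharacter H, (H87.mlt ξ ψ : ℂ) * (ψ : H → ℂ) y := fun y => by
    conv_lhs => rw [H87.eq_sum_mlt hξ]
    simp only [Finset.sum_apply, Pi.smul_apply, smul_eq_mul]
  simp only [e, Finset.sum_apply, Pi.smul_apply, smul_eq_mul]
  rw [sum_comm, mul_sum]
  refine sum_congr rfl fun ψ _ => ?_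
  simp only [pow_tr (hc ψ)]
  rw [← mul_sum, ← sum_mul]
  split_ifs with h1
  · simp only [h1, one_pow, sum_const, card_range, nsmul_eq_mul, mul_one]
    field_simp
  · have h2 := pow_tr (hc ψ) r 1
    rw [har, one_mul] at h2
    rw [geo (mul_right_cancel₀ ψ.2.apply_one_ne_zero (h2.symm.trans (one_mul _).symm)) h1]
    simp

theorem job : H63.Kgv.SaSt.{u} := by
  intro E _ _ χ q r z a hχ hq hχq hf hr hz hzc har hac hcm
  have := Fact.mk hr
  have hZ : Subgroup.zpowers z ≤ Subgroup.center E := Subgroup.zpowers_le.2 hzc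
  let κ : E →* Subgroup.zpowers z := MonoidHom.mk' (fun y => ⟨y * a * y⁻¹ * a⁻¹, hcm y⟩) fun y y' =>
    Subtype.ext (by
      have h := Subgroup.mem_center_iff.1 (hZ (hcm y'))
      change y * y' * a * (y * y')⁻¹ * a⁻¹ = y * a * y⁻¹ * a⁻¹ * (y' * a * y'⁻¹ * a⁻¹)
      calc y * y' * a * (y * y')⁻¹ * a⁻¹ = y * ((y' * a * y'⁻¹ * a⁻¹) * (a * y⁻¹ * a⁻¹)) := by group
        _ = _ := by rw [← h]; group)
  have hκ : ∀ y, y ∈ κ.ker ↔ y * a * y⁻¹ * a⁻¹ = 1 := fun y => Subtype.ext_iff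
  have hcomm : ∀ y, y ∈ κ.ker → y * a = a * y := fun y hy => by
    have := (hκ y).1 hy
    rwa [mul_inv_eq_one, mul_inv_eq_iff_eq_mul] at this
  have hcard : Nat.card (Subgroup.zpowers z) = r := by rw [Nat.card_zpowers, hz]
  have htop : κ.range = ⊤ := by
    have := Fact.mk (hcard.symm ▸ hr : (Nat.card (Subgroup.zpowers z)).Prime)
    refine κ.range.eq_bot_or_eq_top_of_prime_card.resolve_left fun h => hac ?_
    refine Subgroup.mem_center_iff.2 fun y => hcomm y ?_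
    exact Subgroup.mem_bot.1 (h ▸ (⟨y, rfl⟩ : κ y ∈ κ.range))
  obtain ⟨x, hx⟩ : (⟨z, Subgroup.mem_zpowers z⟩ : Subgroup.zpowers z) ∈ κ.range := htop ▸ Subgroup.mem_top _
  have hz1 : z ≠ 1 := fun e => hr.one_lt.ne (by rw [← hz, e, orderOf_one])
  obtain ⟨c, hc⟩ := mem_charCenter_iff.1 (hχ.center_le_charCenter (inv_mem hzc))
  have h1 := hχ.apply_one_ne_zero
  have hcr : (c : ℂ) ^ r = 1 := by
    have h2 := pow_tr hc r 1
    rw [inv_pow, ← hz, pow_orderOf_eq_one, inv_one, one_mul, hz] at h2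
    exact mul_right_cancel₀ h1 (h2.symm.trans (one_mul _).symm)
  have hcd : ∀ k, (c : ℂ) ^ k = 1 → r ∣ k := fun k hk => by
    have h2 := pow_tr hc k 1
    rw [hk, one_mul, mul_one] at h2
    have h3 := hf _ h2
    rw [inv_pow, inv_eq_one] at h3
    exact hz ▸ orderOf_dvd_of_pow_eq_one h3
  obtain ⟨q, rfl⟩ : ∃ n, q = n + 1 := Nat.exists_eq_succ_of_ne_zero (by
    rintro rfl
    have h2 := orderOf_dvd_natCard z
    rw [(Nat.coprime_zero_left _).1 hq, hz] at h2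
    exact hr.one_lt.ne' (Nat.dvd_one.1 h2))
  have hrq : r ∣ q := hcd q (by
    have h2 := pow_tr hc (q + 1) 1
    have h3 := hc 1
    rw [mul_one] at h2 h3
    rw [hχq, h3, pow_succ] at h2
    exact mul_right_cancel₀ c.ne_zero ((mul_right_cancel₀ h1 h2).symm.trans (one_mul _).symm))
  have haH : a ∈ κ.ker := (hκ a).2 (by group)
  refine ⟨κ.ker, inferInstance, x, fun h => (r : ℂ)⁻¹ * ∑ i ∈ range r, χ (a ^ i * h),
    ⟨hr, ?_, fun h => hz1 ?_, ?_, fun y hy => ?_, fun h => ?_⟩, hrq, fun h => ?_⟩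
  · rw [Subgroup.index_ker, htop, Subgroup.card_top, hcard]
  · exact congrArg Subtype.val (hx.symm.trans h)
  · exact isCharacter_proj (hχ.isCharacter.restrict κ.ker) (a := ⟨a, haH⟩)
      (Subgroup.mem_center_iff.2 fun y => Subtype.ext (hcomm y y.2)) hr.ne_zero (Subtype.ext har)
  · have e : a * y * a⁻¹ * y⁻¹ = (y * a * y⁻¹ * a⁻¹)⁻¹ := by group
    refine hχ.isClassFunction.eq_zero_of_commutator (x := a)
      (hχ.center_le_charCenter (e ▸ inv_mem (hZ (hcm y)))) fun h => hy ((hκ y).2 ?_)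
    have h2 := hf _ (apply_of_mem_charKer h)
    rwa [e, inv_eq_one] at h2
  · have e : ∀ j i : ℕ, χ (a ^ i * (MulAut.conjNormal (x ^ j) h : κ.ker)) =
        ((c : ℂ) ^ i) ^ j * χ (a ^ i * h) := fun j i => by
      have e1 : (x ^ j)⁻¹ * a * (x ^ j)⁻¹⁻¹ * a⁻¹ = z⁻¹ ^ j := by
        have := congrArg Subtype.val (show κ (x ^ j)⁻¹ = (κ x ^ j)⁻¹ by rw [map_inv, map_pow])
        rw [hx] at this
        rw [inv_pow]
        exact this
      have e2 : (x ^ j)⁻¹ * a ^ i * (x ^ j)⁻¹⁻¹ = z⁻¹ ^ (j * i) * a ^ i := by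
        have hc2 : Commute (z⁻¹ ^ j) a := (Subgroup.mem_center_iff.1 (pow_mem (inv_mem hzc) j) a).symm
        rw [← conj_pow, mul_inv_eq_iff_eq_mul.1 e1, hc2.mul_pow, pow_mul]
      rw [← pow_mul, mul_comm i j, ← pow_tr hc, ← mul_assoc, ← e2, MulAut.conjNormal_apply,
        ← hχ.isClassFunction _ (x ^ j)⁻¹]
      congr 1
      group
    simp only [e]
    rw [← mul_sum, sum_comm]
    simp only [← sum_mul]
    rw [sum_eq_single_of_mem 0 (mem_range.2 hr.pos) fun i hi h0 => ?_]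
    · have : (r : ℂ) ≠ 0 := Nat.cast_ne_zero.2 hr.ne_zero
      simp only [pow_zero, one_pow, sum_const, card_range, nsmul_eq_mul, mul_one, one_mul]
      field_simp
    · rw [geo (by rw [← pow_mul, mul_comm, pow_mul, hcr, one_pow]) fun e1 =>
        h0 (Nat.eq_zero_of_dvd_of_lt (hcd i e1) (mem_range.1 hi)), zero_mul]
  · refine congrArg _ (sum_congr rfl fun i _ => ?_)
    have hc2 : Commute (a ^ i) (h : E) := (Commute.symm (hcomm h h.2)).pow_left i
    obtain ⟨m, rfl⟩ := hrq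
    rw [← hχq (a ^ i * h), hc2.mul_pow, ← pow_mul, mul_comm i, pow_mul, pow_succ a, pow_mul, har, one_pow,
      one_mul]
    rfl

end H9.KgvSa
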