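import Cfsg.Agent.H9.YEUY0
import Cfsg.Agent.H64.YEKit2

/-! STD-SP endgame (row S3129), slot UY. -/

set_option autoImplicit false

namespace H9.UY

open H64.YE

universe u

theorem jobUY : JobUY.{u} := by
  intro n F _ _ _ _ _ _ G _ _ e t Y _ _ _ ι τ Gd Go U Φ K₀ h r Z Q c R hZ rd go ob cR ou rf hR hc
  have st : St Φ K₀ := ⟨(MonoidHom.ker_eq_bot_iff Φ).1 (le_bot_iff.1 (hZ ▸ h.ker)), h.nor, h.le,
    h.two2⟩
  obtain ⟨u, hu⟩ := (h.fix c).1 ob.tc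
  exact st.core ou.o2c ou.o2r ou.max hR hc h.syl (go.le cR) go.nr
    (st.ac (MI := MI ι) (H64.SG.is2_of_sq rd.inv.1) ob.inv.1 ⟨1, u, by simp [hu]⟩ hc
      (fun y y' g h1 h2 h3 h4 h5 => (h.fu h1 h2 h3 h4 h5).2)
      (fun y g h1 h2 => (h.root rd rf h1 h2).imp fun _ => And.symm) ou.d1 ou.d2)

end H9.UY
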