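/- STD-SP (S3129), endgame: alternating involutions lie in `O²` of their centraliser (slot O2). -/
import Cfsg.Agent.H81.YLSpec
import Cfsg.Agent.H9.SPGBN
import Cfsg.Agent.H4.SPGBP
import Cfsg.Agent.H67.SAAB

set_option autoImplicit false

namespace H9.SPG

open H64.SG (O2 Cz mem_Cz)
open H67.UA hiding Par
open H67.SP H86.SPG

theorem conj_mem_O2 {G : Type*} [Group G] {x y : G} (g : G) (h : y ∈ O2 (Cz x)) :
    g * y * g⁻¹ ∈ O2 (Cz (g * x * g⁻¹)) := by
  have : O2 (Cz x) ≤ (O2 (Cz (g * x * g⁻¹))).comap (MulAut.conj g).toMonoidHom :=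
    (Subgroup.closure_le _).2 fun a ha => Subgroup.subset_closure ⟨mem_Cz.2 (by
      have := congrArg (fun z => g * z * g⁻¹) (mem_Cz.1 ha.1)
      simpa [mul_assoc] using this), by
      rw [orderOf_injective _ (MulAut.conj g).injective]; exact ha.2⟩
  exact this h

theorem Pc_le_O2 {G : Type*} [Group G] [Finite G] (H : Subgroup G) : Pc H ≤ O2 H :=
  (H67.SA.le_O2_of_perfect (Pc_perf H)).trans
    (Subgroup.closure_mono fun _ h => ⟨Pc_le H h.1, h.2⟩)

theorem jobO2 : H81.YL.JobO2 := by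
  intro n F _ _ _ _ _ p b fc _ _ u hu ha
  have bn := jobBN n F b
  obtain ⟨j, g, hj, rfl⟩ := bn.nf u hu.1 ha
  refine conj_mem_O2 g (Pc_le_O2 _ ?_)
  rcases Nat.lt_trichotomy j 1 with h | rfl | h
  · obtain rfl : j = 0 := by omega
    rw [bn.zero]
    exact one_mem _
  · rw [bn.one]
    exact FC.pc _ (Or.inr (Or.inl ((FR.sr _).2 (IsConj.refl _))))
  · have h1 := (bn.nfa j hj).1
    refine H4.SPGBP.jobBP n F b _ _ h1 (by omega) (by omega) ((FV.mem_Qk _ (by omega) _).2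
      ⟨fun v hv => ?_, fun v _ => (h1.im _).1 ⟨v, rfl⟩⟩)
    rw [(al_spec hj).2, NJ_of_wk (by omega) hv, add_zero]

end H9.SPG
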