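import Cfsg.Agent.H9.A34F
import Cfsg.Agent.H9.A34P
import Cfsg.Agent.H78.Large
import Cfsg.Agent.H51.GoldHub
import Cfsg.Agent.H51.C2C
import Cfsg.Agent.H65.C2G4a
import Cfsg.Agent.H63.C2G4b
import Cfsg.Agent.H30.C2G3
import Cfsg.Agent.H11.C2K

/-! Nonsolvable groups with an involution centraliser `2^(1+4)_-.S₄` are `Aut(PGL₃(4))`. -/

set_option autoImplicit false

namespace H9.A34

open Cfsg Subgroup H14 H98 H1.Gold H86.L34 M

universe u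

variable {F : Type*} [Field F] [Fintype F] {G : Type u} [Group G] [Finite G]

theorem Md.oc {a b : Bool} {ψ : M a b →* G} (h : Md ψ) (c : IsConj (ψ z) (ψ u))
    (hf : ∀ k ∈ oddCore G, k * ψ z = ψ z * k → k = 1) : oddCore G = ⊥ := by
  have inv : ∀ y, IsConj (ψ z) (ψ y) → ∀ k ∈ oddCore G, ψ y * k * (ψ y)⁻¹ = k⁻¹ := fun y c k hk => by
    obtain ⟨g, hg⟩ := isConj_iff.1 c
    refine H78.conj_eq_inv_of_fpf (by rw [← map_mul, h.sq_of c (z_ne a b).2, map_one])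
      (le_normalizer_of_normal (mem_top _)) (fun k hk e => ?_) hk
    refine conj_eq_one_iff.1 (hf (g⁻¹ * k * g⁻¹⁻¹) (Normal.conj_mem inferInstance k hk _) ?_)
    rw [show ψ z = g⁻¹ * ψ y * g⁻¹⁻¹ by rw [← hg]; group, conj_mul, conj_mul, e]
  obtain ⟨-, -, -, -, e1, -, e3, -⟩ := zu0 a b
  refine eq_bot_iff.2 fun k hk => hf k hk (mul_inv_eq_iff_eq_mul.1 ?_).symm
  rw [← e3, map_mul, cc, inv uz (c.trans (e1 ▸ h.conj_m ee u)) k hk, inv u c _ (inv_mem hk), inv_inv]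

theorem Md.main {ψ : M0 →* G} (h : Md ψ) (hF : Fintype.card F = 4) (hO : oddCore G = ⊥)
    (hs : ¬ Group.IsSolvable G) :
    Nonempty (G ≃* MulAut (GL (Fin 3) F ⧸ center (GL (Fin 3) F))) := by
  have : (res 2 (⊤ : Subgroup G)).Normal := res_top (G := G) ▸ pResidual_normal'
  obtain ⟨syl, hi⟩ := h.sylK
  have h0 : HM uu := ⟨by decide, uu_mul, fun e => uu_inj _ _ _ e⟩
  have i := fun x (_ : x ∈ h0.S) => (injective_iff_map_eq_one ψ).1 h.inj x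
  have e1 : (h0.map ψ i).S = T.map ψ := (h0.map_S ψ i).trans (congrArg _ (Subgroup.ext fun x =>
    ⟨fun ⟨a, b, c, e⟩ => e ▸ uu_T.1 a b c, uu_T.2 x⟩))
  have le : (h0.map ψ i).S ≤ res 2 ⊤ := e1 ▸ syl.le
  have h2 := (h0.map ψ i).res le
  have e2 : h2.S = (T.map ψ).subgroupOf (res 2 ⊤) := Subgroup.ext fun x => by
    rw [mem_subgroupOf, ← e1]
    exact ⟨fun ⟨a, b, c, e⟩ => ⟨a, b, c, congrArg Subtype.val e⟩,
      fun ⟨a, b, c, e⟩ => ⟨a, b, c, Subtype.ext e⟩⟩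
  have syl2 : IsSyl 2 h2.S ⊤ := e2 ▸ syl.subgroupOf_top
  have hOK : oddCore (res 2 (⊤ : Subgroup G)) = ⊥ := opp_eq_bot_iff.1 (by
    rw [opp_eq_inf_of_subnormal (Normal.isSubnormal inferInstance), ← oddCore, hO, bot_inf_eq])
  have gc := gc_of_swap h2 H51.asThm syl2 hOK (MulAut.conjNormal (ψ ee)) (by
    rintro _ ⟨_, ⟨a, c, rfl⟩, rfl⟩
    obtain ⟨b, c', e⟩ := uu_e.1 a c
    exact ⟨b, c', Subtype.ext ((congrArg ψ e).symm.trans (H31.S2.map_conj ψ _ _).symm)⟩) (by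
    rintro _ ⟨_, ⟨a, c, rfl⟩, rfl⟩
    obtain ⟨b, c', e⟩ := uu_e.2.1 a c
    exact ⟨b, c', Subtype.ext ((congrArg ψ e).symm.trans (H31.S2.map_conj ψ _ _).symm)⟩) fun hK => by
      have := (IsPGroup.of_card (show Nat.card (G ⧸ res 2 ⊤) = 2 ^ 2 from hi)).isNilpotent
      exact hs ((Group.isSolvable_iff_subgroup_quotient _).2 ⟨hK, inferInstance⟩)
  obtain ⟨⟨e⟩, hX, odd⟩ := gc_psl h2 (H10.C2.k1_of H51.asch H95.C2.jobFus H95.C2.jobLoc
    (H51.C2.jobC H51.asThm H95.C2.jobFus) H11.C2K.jobK H30.G3.jobG3 H65.G4.jobG4a H63.jobG4b)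
    (Nat.card_eq_fintype_card.trans H55.card_F4) hF syl2 hOK gc
  obtain ⟨-, -, -, -, zT, -, r3⟩ := reps
  have TK : ∀ x ∈ T, ψ x ∈ res 2 ⊤ := fun x hx => syl.le (mem_map_of_mem ψ hx)
  refine fin_iso hF hi (eq_bot_iff.2 fun x hx => ?_) e hX odd fun ne => ?_
  · obtain ⟨m, rfl⟩ := (h.ran x).2 (hx _ (TK _ zT)).symm
    have mK := TK m (M.cT.2 m fun y hy => h.inj (by
      rw [map_mul, map_mul]; exact hx _ (TK _ (M.cT.1 y hy))))
    exact congrArg Subtype.val (mem_bot.1 (hX.le (show (⟨ψ m, mK⟩ : res 2 ⊤) ∈ _ from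
      fun y _ => Subtype.ext (hx y y.2))))
  · let f := ((MulEquiv.subgroupCongr ne).trans topEquiv).symm.trans e
    have s3 := syl2.map f.toMonoidHom
    rw [map_top_of_surjective _ f.surjective] at s3
    have rK : ψ r ∈ res 2 ⊤ := mem_res_of_coprime (mem_top _)
      (Nat.Coprime.coprime_dvd_left (orderOf_dvd_of_pow_eq_one (n := 3)
        (by rw [← map_pow, r3, map_one])) (by decide))
    have cm : ∀ m (hm : ψ m ∈ res 2 ⊤), f ⟨ψ m, hm⟩ * f ⟨ψ z, TK _ zT⟩ = f ⟨ψ z, TK _ zT⟩ * f ⟨ψ m, hm⟩ :=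
      fun m hm => by
        rw [← map_mul, ← map_mul]
        exact congrArg f (Subtype.ext ((h.ran _).1 ⟨m, rfl⟩))
    have n1 : ∀ m (hm : ψ m ∈ res 2 ⊤), f ⟨ψ m, hm⟩ = 1 → m = 1 := fun m hm e =>
      h.inj ((congrArg Subtype.val (f.map_eq_one_iff.1 e)).trans (map_one ψ).symm)
    obtain ⟨k, hk⟩ := psl_cen hF s3 (t := f ⟨ψ z, TK _ zT⟩)
      (mem_map_of_mem f.toMonoidHom (e2.ge (mem_map_of_mem ψ zT))) (fun e => (z_ne _ _).1 (n1 _ _ e))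
      (by
        rintro _ ⟨⟨_, hy⟩, hy', rfl⟩
        obtain ⟨m, -, rfl⟩ := e2.le hy'
        exact cm m hy) ⟨f ⟨ψ r, rK⟩, mem_cen1.2 (cm r rK)⟩
    refine absurd (n1 r rK (orderOf_eq_one_iff.1 (Nat.eq_one_of_dvd_coprimes
      ((by decide : Nat.Coprime 2 3).pow_left k)
      (orderOf_dvd_of_pow_eq_one (congrArg Subtype.val hk)) (orderOf_dvd_of_pow_eq_one ?_))))
      (by decide)
    rw [← map_pow, f.map_eq_one_iff]
    exact Subtype.ext ((map_pow ψ r 3).symm.trans (by rw [r3, map_one]; rfl))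

end H9.A34
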