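import Cfsg.Agent.H9.A34R
import Cfsg.Agent.H31.S2Mod
import Cfsg.Agent.H8.TransferEval

/-! Fusion in a group with an involution centraliser `2^(1+4)_-.S₄`. -/

set_option autoImplicit false
set_option linter.unusedSectionVars false

namespace H9.A34

open Cfsg Subgroup H14 H98 H1.Gold H31 H31.S2 M

universe u

variable {G : Type u} [Group G] [Finite G]

theorem rel_card {X Y : Subgroup G} (h : X ≤ Y) : Nat.card X * X.relIndex Y = Nat.card Y := by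
  have := relIndex_mul_relIndex ⊥ X Y bot_le h
  rwa [relIndex_bot_left, relIndex_bot_left] at this

theorem sq_cen {W : Subgroup G} (h : ∀ x ∈ W, x * x = 1) {x : G} (hx : x ∈ W) : W ≤ cen1 x :=
  fun y hy => mem_cen1.2 (by
    rw [← inv_eq_of_mul_eq_one_right (h _ (mul_mem hy hx)), mul_inv_rev,
      inv_eq_of_mul_eq_one_right (h x hx), inv_eq_of_mul_eq_one_right (h y hy)])

theorem sq_cj {W : Subgroup G} (h : ∀ x ∈ W, x * x = 1) (g : G) : ∀ x ∈ cj g W, x * x = 1 := by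
  rintro _ ⟨x, hx, rfl⟩
  rw [← map_mul, h x hx, map_one]

theorem tt {K P J : Subgroup G} (hP : IsSyl 2 P K) (h2 : J.relIndex P = 2) {x : G}
    (hx : x ∈ res 2 K) (x2 : x * x = 1) : ∃ g ∈ K, g * x * g⁻¹ ∈ J := by
  obtain ⟨y, hy, rfl⟩ := hx
  by_contra hn
  obtain ⟨N, hN, i, e⟩ := H8.thompson_transfer (P.subgroupOf K) (J.subgroupOf K)
    (odd_index_of_syl hP.subgroupOf_top) (by rwa [relIndex_subgroupOf hP.le]) y
    (by rw [pow_two]; exact Subtype.ext x2) fun g hg => hn ⟨g, g.2, hg⟩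
  exact e (isPGroup_quotient_iff_res_le.1 (IsPGroup.of_card (show Nat.card (K ⧸ N) = 2 ^ 1 from i)) hy)

namespace Md

section gen

variable {a b : Bool} {ψ : M a b →* G} (h : Md ψ)
include h

theorem card (K : Subgroup (M a b)) : Nat.card (K.map ψ) = Nat.card K := card_map_of_injective h.inj

theorem mem {K : Subgroup (M a b)} {x : M a b} : ψ x ∈ K.map ψ ↔ x ∈ K := mem_map_iff_mem h.inj

theorem ran' : cen1 (ψ z) = ψ.range := Subgroup.ext fun g => mem_cen1.trans (h.ran g).symm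

theorem card_H : Nat.card (cen1 (ψ z)) = 768 := by
  rw [h.ran', MonoidHom.range_eq_map, h.card, card_top, M.card]

theorem sq_map {K : Subgroup (M a b)} (hK : ∀ x ∈ K, x * x = 1) : ∀ x ∈ K.map ψ, x * x = 1 := by
  rintro _ ⟨x, hx, rfl⟩
  rw [← map_mul, hK x hx, map_one]

theorem cenz {P : Subgroup (M a b)} {g : G} (hg : g ∈ nor (P.map ψ)) {w : M a b} (hw : w ∈ P)
    (hc : ∀ y ∈ P, y * w = w * y) :
    ∃ w' ∈ P, ψ w' = g * ψ w * g⁻¹ ∧ ∀ y ∈ P, y * w' = w' * y := by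
  obtain ⟨w', h1, h2⟩ := conj_mem_of_mem_normalizer hg (mem_map_of_mem ψ hw)
  refine ⟨w', h1, h2, fun y hy => h.inj ?_⟩
  obtain ⟨y', h3, h4⟩ := conj_mem_of_mem_normalizer' hg (mem_map_of_mem ψ hy)
  rw [map_mul, map_mul, h2, show ψ y = g * ψ y' * g⁻¹ by rw [h4]; group, conj_mul, conj_mul,
    ← map_mul, hc y' h3, map_mul]

theorem pS : IsPGroup 2 (S.map ψ) := IsPGroup.of_card (n := 8) ((h.card S).trans (card_S a b))

theorem syl : IsSyl 2 (S.map ψ) ⊤ := by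
  have h1 : IsSyl 2 (S.map ψ) (cen1 (ψ z)) := by
    have le : S.map ψ ≤ cen1 (ψ z) := h.ran' ▸ map_le_range ψ S
    have := rel_card le
    rw [h.card, card_S, h.card_H] at this
    exact isSyl_of_not_dvd_relIndex le h.pS (by omega)
  refine isSyl_of_isSyl_normalizer (h1.of_le (le_inf le_top le_normalizer) fun g hg => ?_)
  obtain ⟨w, -, e, c⟩ := h.cenz hg.2 (w := z) (ES a b _) fun y _ => cz a b y
  rcases zS a b w fun j => c _ (vS a b j) with rfl | rfl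
  · exact absurd (h.inj ((conj_eq_one_iff.1 (e.symm.trans (map_one ψ))).trans (map_one ψ).symm))
      (z_ne a b).1
  · exact mem_cen1.2 (mul_inv_eq_iff_eq_mul.1 e.symm)

theorem pullz {g : G} {m : M a b} (e : g * ψ m * g⁻¹ = ψ z) : ∃ α, Pull ψ g (cen1 m) α :=
  exists_pull h.inj (by
    rw [← h.ran', ← e, ← cj_cen1]
    exact cj_mono g ((map_cen1_le ψ m).trans inf_le_right))

theorem conj_of {g : G} {x y : M a b} (e : g * ψ x * g⁻¹ = ψ y) : IsConj (ψ x) (ψ y) :=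
  isConj_iff.2 ⟨g, e⟩

theorem conj_m (g x : M a b) : IsConj (ψ x) (ψ (g * x * g⁻¹)) := h.conj_of (map_conj ψ g x)

theorem sq_of {x y : M a b} (c : IsConj (ψ x) (ψ y)) (e : x * x = 1) : y * y = 1 := h.inj (by
  obtain ⟨g, hg⟩ := isConj_iff.1 c
  rw [map_mul, ← hg, conj_mul, ← map_mul, e]; simp)

theorem ne_of {x y : M a b} (c : IsConj (ψ x) (ψ y)) (e : x ≠ 1) : y ≠ 1 := by
  rintro rfl
  rw [map_one, isConj_one_left] at c
  exact e (h.inj (c.trans (map_one ψ).symm))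

theorem fuseT (hn : ¬ IsIsolatedInvolution (ψ z)) : ∃ y ∈ T, y ≠ z ∧ IsConj (ψ z) (ψ y) := by
  have o : orderOf (ψ z) = 2 := orderOf_eq_prime (by rw [pow_two, ← map_mul, (z_ne a b).2, map_one])
    fun e => (z_ne a b).1 (h.inj (e.trans (map_one ψ).symm))
  simp only [IsIsolatedInvolution, o, true_and, not_forall] at hn
  obtain ⟨g, c, ne⟩ := hn
  obtain ⟨m, hm⟩ := (h.ran _).2 c.symm
  have cm := h.conj_of hm.symm
  have mz : m ≠ z := fun e => ne (by rw [← hm, e])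
  by_cases mT : m ∈ T
  · exact ⟨m, mT, mz, cm⟩
  obtain ⟨x, x1, y, y1, e⟩ := nz a b m ((iv_iff _ _ _).2 (h.sq_of cm (z_ne a b).2)) mT
  have e0 : g⁻¹ * ψ m * g⁻¹⁻¹ = ψ z := by rw [hm]; group
  obtain ⟨α, p⟩ := h.pullz e0
  have z1 : z ∈ cen1 m := mem_cen1.2 (cz a b m).symm
  exact ⟨α z, comm_T (p.comm' (mem_cen1.2 x1) (mem_cen1.2 y1) z1 e) (p.sq z1 (z_ne a b).2),
    fun e' => mz (p.inj (mem_cen1.2 rfl) z1 ((p.of_eq (mem_cen1.2 rfl) e0).trans e'.symm)),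
    h.conj_of (p.eq _ z1)⟩

theorem zu_of {y : M a b} (c : IsConj (ψ z) (ψ y)) (e : y = u ∨ y = uz) : IsConj (ψ z) (ψ u) := by
  rcases e with rfl | rfl
  · exact c
  · exact c.trans ((zu0 a b).2.2.2.2.2.1 ▸ h.conj_m ee uz)

theorem kill (c : IsConj (ψ z) (ψ u)) : a = false ∧ b = false := by
  obtain ⟨z0, u0, f0, zu, -⟩ := zu0 a b
  obtain ⟨g, hg⟩ := isConj_iff.1 c
  have le : S0.map ψ ≤ cen1 (ψ u) := map_le_iff_le_comap.2 fun x hx =>
    mem_cen1.2 (by rw [← map_mul, ((S_le a b x).1 hx).2, map_mul])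
  obtain ⟨P, hP, h1⟩ := exists_isSyl_le (h.pS.to_le (map_mono fun x hx => ((S_le a b x).1 hx).1)) le
  have h2 := hP.card_le (isPGroup_cj g h.pS) (by
    rw [← hg, ← cj_cen1, h.ran']; exact cj_mono g (map_le_range ψ S))
  rw [card_cj, h.card, card_S] at h2
  obtain ⟨k, ⟨k1, k2⟩, k3⟩ := SetLike.exists_of_lt (lt_inf_normalizer hP.isPGroup
    (lt_of_le_of_ne h1 fun e => by rw [← e, h.card, card_S0] at h2; omega))
  have ku := mem_cen1.1 (hP.le k1)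
  obtain ⟨α, p⟩ := exists_pull h.inj (g := k) (D := S0) ((cj_eq_self k2).le.trans (map_le_range ψ _))
  have m0 : ∀ x ∈ S0, α x ∈ S0 := fun x hx =>
    h.mem.1 (p.eq x hx ▸ conj_mem_of_mem_normalizer k2 (mem_map_of_mem ψ hx))
  obtain ⟨w, w0, e, cw⟩ := h.cenz k2 z0 fun y _ => cz a b y
  have az : α z = uz := by
    rw [p.of_eq z0 e.symm]
    rcases zS0 a b w w0 fun y hy => cw y (L0_mem a b y hy) with rfl | rfl | rfl | rfl
    · exact absurd rfl (h.ne_of (h.conj_of e.symm) (z_ne a b).1)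
    · obtain ⟨m, rfl⟩ := (h.ran k).2 (mul_inv_eq_iff_eq_mul.1 e.symm)
      exact absurd (mem_map_of_mem ψ (nS0 a b m (h.inj (by rwa [map_mul, map_mul])) (h.mem.1
        (map_conj ψ m _ ▸ conj_mem_of_mem_normalizer k2 (mem_map_of_mem ψ f0))))) k3
    · exact absurd (p.inj z0 u0 ((p.of_eq z0 e.symm).trans
        (p.of_eq u0 (mul_inv_eq_iff_eq_mul.2 ku)).symm)) zu
    · rfl
  rw [← Bool.or_eq_false_iff, ← Bool.not_eq_true]
  intro hab
  have := sqz a b hab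
  rw [← card_eq_cnt, ← card_eq_cnt] at this
  exact this.not_ge (Nat.card_le_card_of_injective
    (fun x => ⟨α x.1, m0 _ x.2.1, by rw [← p.mul x.2.1 x.2.1, x.2.2, az]⟩)
    fun x y e => Subtype.ext (p.inj x.2.1 y.2.1 (congrArg Subtype.val e)))

end gen

section typeL

variable {a : Bool} {ψ : M a false →* G} (h : Md ψ)
include h

theorem e16G {W : Subgroup G} (h1 : W ≤ ψ.range) (h2 : Nat.card W = 16) (h3 : ∀ x ∈ W, x * x = 1) :
    W = A.map ψ ∨ W = B.map ψ := by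
  have e := map_comap_eq_self h1
  exact (e16 (W := W.comap ψ) (by rw [← h.card, e, h2])
    fun x hx => h.inj (by rw [map_mul, h3 _ hx, map_one])).imp (fun e' => by rw [← e', e])
    fun e' => by rw [← e', e]

theorem e16T {W : Subgroup G} (h1 : W ≤ ψ.range) (h2 : Nat.card W = 16) (h3 : ∀ x ∈ W, x * x = 1) :
    W ≤ T.map ψ := by
  rcases h.e16G h1 h2 h3 with rfl | rfl
  exacts [map_mono fun x hx => (elA a x hx).2.1, map_mono fun x hx => (elB a x hx).2.1]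

theorem zuL (c : IsConj (ψ z) (ψ t2)) : IsConj (ψ z) (ψ u) := by
  obtain ⟨tA, uA, vA, zA, tz⟩ := memA a
  obtain ⟨-, -, -, -, e1, e2, e3, e4, n1, n2, n3⟩ := zu0 a false
  have sA := h.sq_map fun x hx => (elA a x hx).1
  obtain ⟨g, hg, gA⟩ : ∃ g, g * ψ t2 * g⁻¹ = ψ z ∧ cj g (A.map ψ) ≤ A.map ψ := by
    obtain ⟨g, hg⟩ := isConj_iff.1 c.symm
    rcases h.e16G (W := cj g (A.map ψ)) (by
      rw [← h.ran', ← hg]
      exact sq_cen (sq_cj sA g) (conj_mem_cj (mem_map_of_mem ψ tA)))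
      (by rw [card_cj, h.card, card_A]) (sq_cj sA g) with e | e
    · exact ⟨g, hg, e.le⟩
    · refine ⟨ψ ee * g, by rw [cc, hg, map_conj, cz, mul_inv_cancel_right], ?_⟩
      rw [← cj_cj, e, ← map_cj]
      exact map_mono (map_le_iff_le_comap.2 fun x hx => (elB a x hx).2.2)
  obtain ⟨α, p⟩ := exists_pull h.inj (gA.trans (map_le_range ψ _))
  by_contra hn
  have key : ∀ x ∈ A, x ≠ 1 → x = u ∨ x = uz → α x = u ∨ α x = uz := fun x hx x1 xu => by
    have c1 := h.conj_of (p.eq x hx)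
    have m := elA a _ (h.mem.1 (p.eq x hx ▸ gA (conj_mem_cj (mem_map_of_mem ψ hx))))
    rcases cls a _ m.2.1 m.1 with e | e | e | e | ⟨k, e⟩
    · exact absurd e (h.ne_of c1 x1)
    · exact absurd (h.zu_of (e ▸ c1).symm xu) hn
    · exact Or.inl e
    · exact Or.inr e
    · exact absurd (h.zu_of ((c.trans (e ▸ h.conj_m k t2)).trans c1.symm) xu) hn
  refine tz (p.inj tA zA ((p.of_eq tA hg).trans ?_))
  have ne : α u ≠ α uz := fun e => n3 (p.inj uA vA e)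
  rw [← e3, p.mul uA vA]
  rcases key u uA n1 (Or.inl rfl) with k1 | k1 <;> rcases key uz vA n2 (Or.inr rfl) with k2 | k2
  · exact absurd (k1.trans k2.symm) ne
  · rw [k1, k2]
  · rw [k1, k2, e3, e4]
  · exact absurd (k1.trans k2.symm) ne

end typeL

theorem zu {a b : Bool} {ψ : M a b →* G} (h : Md ψ) (hn : ¬ IsIsolatedInvolution (ψ z)) :
    IsConj (ψ z) (ψ u) := by
  obtain ⟨y, yT, yz, c⟩ := h.fuseT hn
  have y1 := h.ne_of c (z_ne a b).1
  have y2 := h.sq_of c (z_ne a b).2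
  cases b
  · rcases cls a y yT y2 with e | e | e | e | ⟨k, rfl⟩
    exacts [absurd e y1, absurd e yz, h.zu_of c (Or.inl e), h.zu_of c (Or.inr e),
      h.zuL (c.trans (h.conj_m k t2).symm)]
  · exact h.zu_of c (((q4 a y yT y2).resolve_left y1).resolve_left yz)

section real

variable {ψ : M0 →* G} (h : Md ψ)
include h

omit h in
theorem ab3 {x y : M0} (hx : x ∈ T) (hy : y ∈ T) (x2 : x * x = 1) (y2 : y * y = 1)
    (c : x * y = y * x) : ∃ W : Subgroup M0, Nat.card W = 16 ∧ (∀ x ∈ W, x * x = 1) ∧ x ∈ W ∧ y ∈ W := by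
  have fA : x ∈ A → y ∈ A → _ := fun h1 h2 =>
    (⟨A, card_A _, fun x hx => (elA _ x hx).1, h1, h2⟩ :
      ∃ W : Subgroup M0, Nat.card W = 16 ∧ (∀ x ∈ W, x * x = 1) ∧ x ∈ W ∧ y ∈ W)
  have fB : x ∈ B → y ∈ B → _ := fun h1 h2 =>
    (⟨B, card_B _, fun x hx => (elB _ x hx).1, h1, h2⟩ :
      ∃ W : Subgroup M0, Nat.card W = 16 ∧ (∀ x ∈ W, x * x = 1) ∧ x ∈ W ∧ y ∈ W)
  rcases ab1 _ x hx x2 with h1 | h1 <;> rcases ab1 _ y hy y2 with h2 | h2
  · exact fA h1 h2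
  · exact (ab2 _ x h1 y h2 c).elim (fB · h2) (fA h1)
  · exact (ab2 _ y h2 x h1 c.symm).elim (fB h1) (fA · h2)
  · exact fB h1 h2

theorem nf {t w : M0} (tS : t ∈ S) (t2 : t * t = 1) (wT : w ∈ T) (c : IsConj (ψ w) (ψ t)) : t ∈ T := by
  by_contra tT
  have w2 := h.sq_of c.symm t2
  obtain ⟨W, W1, W2, W3, -⟩ := ab3 wT wT w2 w2 rfl
  obtain ⟨g, hg⟩ := isConj_iff.1 c
  have s1 := sq_cj (h.sq_map W2) g
  have m1 : ψ t ∈ cj g (W.map ψ) := hg ▸ conj_mem_cj (mem_map_of_mem ψ W3)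
  obtain ⟨P, hP, h1⟩ := exists_isSyl_le (H := cen1 (ψ t)) (h.pS.to_le inf_le_left) inf_le_right
  have p1 : IsPGroup 2 (cj g (W.map ψ)) := IsPGroup.of_card (n := 4) (by rw [card_cj, h.card, W1]; rfl)
  obtain ⟨d, hd, h2⟩ := hP.exists_cj_le p1 (sq_cen s1 m1)
  obtain ⟨k, -, h3⟩ := h.syl.exists_cj_le hP.isPGroup le_top
  obtain ⟨α, p⟩ := exists_pull h.inj (g := k) (D := S ⊓ cen1 t) (((cj_mono k (le_trans
    (le_inf (map_mono inf_le_left) ((map_mono inf_le_right).trans ((map_cen1_le ψ t).trans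
      inf_le_right))) h1)).trans h3).trans (map_le_range ψ _))
  have t1 : t ∈ S ⊓ cen1 t := ⟨tS, mem_cen1.2 rfl⟩
  have z1 : z ∈ S ⊓ cen1 t := ⟨ES _ _ _, mem_cen1.2 (cz _ _ t).symm⟩
  have aT : α t ∈ T := h.mem.1 (p.eq t t1 ▸ h.e16T (W := cj k (cj d (cj g (W.map ψ))))
    (((cj_mono k h2).trans h3).trans (map_le_range ψ _))
    (by rw [card_cj, card_cj, card_cj, h.card, W1]) (sq_cj (sq_cj s1 d) k) (conj_mem_cj (by
      rw [← mul_inv_eq_iff_eq_mul.2 (mem_cen1.1 hd)]; exact conj_mem_cj m1)))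
  obtain ⟨x, x1, y, y1, e⟩ := nz _ _ t ((iv_iff _ _ _).2 t2) tT
  have z2 := p.sq z1 (z_ne _ _).2
  obtain ⟨V, V1, V2, V3, V4⟩ := ab3 (comm_T (p.comm' ⟨ES _ _ x, mem_cen1.2 x1⟩
    ⟨ES _ _ y, mem_cen1.2 y1⟩ z1 e) z2) aT z2 (p.sq t1 t2) (p.comm z1 t1 (cz _ _ t).symm)
  have s2 := sq_cj (h.sq_map V2) k⁻¹
  have mm : ∀ x ∈ S ⊓ cen1 t, α x ∈ V → ψ x ∈ cj k⁻¹ (V.map ψ) := fun x hx e =>
    mem_cj.2 (by rw [inv_inv, p.eq x hx]; exact mem_map_of_mem ψ e)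
  exact tT (h.mem.1 (h.e16T (h.ran' ▸ sq_cen s2 (mm z z1 V3)) (by rw [card_cj, h.card, V1]) s2
    (mm t t1 V4)))

theorem card_cen (t : M0) :
    Nat.card (S.map ψ ⊓ cen1 (ψ t) : Subgroup G) = cnt fun x => x ∈ S ∧ x * t = t * x := by
  rw [← card_eq_cnt, show S.map ψ ⊓ cen1 (ψ t) = (S ⊓ cen1 t).map ψ from le_antisymm (by
    rintro _ ⟨⟨x, hx, rfl⟩, e⟩
    exact ⟨x, ⟨hx, mem_cen1.2 (h.inj (by rw [map_mul, map_mul]; exact mem_cen1.1 e))⟩, rfl⟩)
    (le_inf (map_mono inf_le_left) ((map_mono inf_le_right).trans ((map_cen1_le ψ t).trans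
      inf_le_right))), h.card]
  exact Nat.card_congr (Equiv.subtypeEquivRight fun x => and_congr_right fun _ => mem_cen1)

theorem ne1 {t : M0} (ht : t ∈ S1) (c : IsConj (ψ t) (ψ ee)) : False := by
  obtain ⟨⟨e2, eS, eT⟩, -, -, -, zT, -⟩ := reps
  have tS := (S_le _ _ t).2 ht
  obtain ⟨w, wT, w2, w1, wz, wt⟩ := (f2 t ht (h.sq_of c.symm e2)).resolve_left fun e =>
    eT (h.nf eS e2 e c)
  obtain ⟨g, -, ⟨t₁, t1, e1⟩, -, s1⟩ := exists_ext h.syl (mem_map_of_mem ψ eS)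
  have c1 := h.conj_of e1.symm
  have s2 := s1.cj g⁻¹
  rw [cj_inf g⁻¹ ⊤, cj_top, cj_cen1, show g⁻¹ * (g * ψ ee * g⁻¹) * g⁻¹⁻¹ = ψ ee by group] at s2
  have s3 : IsSyl 2 (S.map ψ ⊓ cen1 (ψ ee)) (⊤ ⊓ cen1 (ψ ee)) :=
    s2.of_card_ge (h.pS.to_le inf_le_left) (inf_le_inf_right _ le_top) (by
      rw [card_cj, ← e1, h.card_cen, h.card_cen, ce]
      exact cS t₁ t1 (h.sq_of c1 e2) fun e => eT (h.nf eS e2 e c1.symm))
  obtain ⟨k, hk⟩ := isConj_iff.1 c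
  obtain ⟨d, -, d1, d2⟩ := exists_conj_ext h.syl s3 (mem_top k) hk
  have le : cj d ((S ⊓ cen1 t).map ψ) ≤ S.map ψ := (cj_mono d (le_inf (map_mono inf_le_left)
    ((map_mono inf_le_right).trans ((map_cen1_le ψ t).trans inf_le_right)))).trans d2
  obtain ⟨α, p⟩ := exists_pull h.inj (le.trans (map_le_range ψ _))
  have m : t ∈ S ⊓ cen1 t := ⟨tS, mem_cen1.2 rfl⟩
  have key : ∀ x ∈ T, x * x = 1 → x ≠ 1 → x * t = t * x → x ∈ S ⊓ cen1 t ∧ α x = z :=
    fun x xT x2 x1 xt => by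
      have hx : x ∈ S ⊓ cen1 t := ⟨(T_le _ _ x xT).1, mem_cen1.2 xt⟩
      have c2 := h.conj_of (p.eq x hx)
      exact ⟨hx, (f3 _ (h.nf (h.mem.1 (p.eq x hx ▸ le (conj_mem_cj (mem_map_of_mem ψ hx))))
        (p.sq hx x2) xT c2) (p.sq hx x2) (p.of_eq m d1 ▸ p.comm hx m xt)).resolve_left
        (h.ne_of c2 x1)⟩
  have k1 := key w wT w2 w1 wt
  have k2 := key z zT (z_ne _ _).2 (z_ne _ _).1 (cz _ _ t).symm
  exact wz (p.inj k1.1 k2.1 (k1.2.trans k2.2.symm))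

omit h in
theorem T_le_res : T ≤ (res 2 ⊤).comap ψ := by
  have : (res 2 (⊤ : Subgroup G)).Normal := res_top (G := G) ▸ pResidual_normal'
  obtain ⟨-, -, -, -, -, e, r3⟩ := reps
  have h1 : r ∈ (res 2 ⊤).comap ψ := mem_res_of_coprime (mem_top _)
    (Nat.Coprime.coprime_dvd_left (orderOf_dvd_of_pow_eq_one (n := 3)
      (by rw [← map_pow, r3, map_one])) (by decide))
  have h2 : ∀ k, k * t2 * k⁻¹ ∈ (res 2 ⊤).comap ψ := fun k => Normal.conj_mem inferInstance _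
    (e ▸ mul_mem (Normal.conj_mem inferInstance _ h1 _) (inv_mem h1)) k
  have h3 : ∀ x ∈ T, x * x = 1 → x ∈ (res 2 ⊤).comap ψ := fun x hx x2 => by
    by_cases n : x = 1 ∨ x = z ∨ x = u ∨ x = uz
    · obtain ⟨k, e⟩ := genU x n
      exact (mul_mem_cancel_left (by simpa using h2 1)).1 (e ▸ h2 k)
    · obtain ⟨k, e⟩ : ∃ k, k * t2 * k⁻¹ = x := by have := cls _ x hx x2; tauto
      exact e ▸ h2 k
  intro x hx
  obtain ⟨y, y1, y2⟩ := genT x hx
  exact (mul_mem_cancel_left (h3 y (elA _ y y1).2.1 (elA _ y y1).1)).1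
    (h3 _ (elB _ _ y2).2.1 (elB _ _ y2).1)

theorem inf_res : S.map ψ ⊓ res 2 ⊤ = T.map ψ := by
  have : (res 2 (⊤ : Subgroup G)).Normal := res_top (G := G) ▸ pResidual_normal'
  obtain ⟨⟨e2, eS, eT⟩, rs, rf, sfe, -⟩ := reps
  have TK := T_le_res (ψ := ψ)
  have ne : ee ∉ (res 2 ⊤).comap ψ := fun hx => by
    obtain ⟨g, -, t, ht, e⟩ := tt h.syl (J := S1.map ψ) (by
      have := rel_card (map_mono (f := ψ) fun x hx => (S_le _ _ x).2 hx)
      rw [h.card, h.card, card_S1, card_S] at this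
      omega) hx (by rw [← map_mul, e2, map_one])
    exact h.ne1 ht (h.conj_of e.symm).symm
  have nx : ∀ x : M0, x * x = 1 ∧ x ∈ S ∧ x ∉ T → x ∈ (res 2 ⊤).comap ψ →
      (∀ y ∈ S, y ∈ (res 2 ⊤).comap ψ → y ∈ T ∨ y * x ∈ T) → False := fun x ⟨x2, xS, xT⟩ hx hy => by
    obtain ⟨g, -, w, hw, e⟩ := tt (h.syl.inf_of_le_normalizer (N := res 2 ⊤) le_top
      le_normalizer_of_normal) (J := T.map ψ) (relIndex_eq_two_iff.2
        ⟨ψ x, ⟨mem_map_of_mem ψ xS, hx⟩, by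
          rintro _ ⟨⟨y, yS, rfl⟩, yK⟩
          rw [← map_mul, h.mem, h.mem]
          rcases hy y yS yK with e | e
          · exact Or.inr ⟨e, fun e' => xT ((mul_mem_cancel_left e).1 e')⟩
          · exact Or.inl ⟨e, fun e' => xT ((mul_mem_cancel_left e').1 e)⟩⟩)
      (x := ψ x) (by rwa [res_res]) (by rw [← map_mul, x2, map_one])
    exact xT (h.nf xS x2 hw (h.conj_of e.symm).symm)
  have up : ∀ {x y : M0}, y ∈ (res 2 ⊤).comap ψ → y * x ∈ T → x ∈ (res 2 ⊤).comap ψ :=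
    fun h1 h2 => (mul_mem_cancel_left h1).1 (TK h2)
  have ns : s ∉ (res 2 ⊤).comap ψ := fun hs => nx s rs hs fun y yS yK => by
    rcases cos y yS with e | e | e | e
    exacts [Or.inl e, absurd (up yK e) ne, Or.inr e, absurd (up (mul_mem hs (up yK e)) sfe) ne]
  have nf' : ff ∉ (res 2 ⊤).comap ψ := fun hs => nx ff rf hs fun y yS yK => by
    rcases cos y yS with e | e | e | e
    exacts [Or.inl e, absurd (up yK e) ne, absurd (up yK e) ns, Or.inr e]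
  refine le_antisymm ?_ (le_inf (map_mono fun x hx => (T_le _ _ x hx).1) (map_le_iff_le_comap.2 TK))
  rintro _ ⟨⟨y, yS, rfl⟩, yK⟩
  rcases cos y yS with e | e | e | e
  exacts [mem_map_of_mem ψ e, absurd (up yK e) ne, absurd (up yK e) ns, absurd (up yK e) nf']

theorem sylK : IsSyl 2 (T.map ψ) (res 2 ⊤) ∧ (res 2 (⊤ : Subgroup G)).index = 4 := by
  have : (res 2 (⊤ : Subgroup G)).Normal := res_top (G := G) ▸ pResidual_normal'
  refine ⟨h.inf_res ▸ h.syl.inf_of_le_normalizer le_top le_normalizer_of_normal, ?_⟩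
  have := rel_card (inf_le_left : S.map ψ ⊓ res 2 ⊤ ≤ _)
  rw [inf_relIndex_left, ← relIndex_sup_right, h.syl.sup_res, relIndex_top_right, h.inf_res, h.card,
    h.card, card_T, card_S] at this
  omega

end real

end Md

end H9.A34
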