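import Cfsg.Agent.H14.CBSpec

/-! Tower CB (S1308): slot Par2. -/

set_option autoImplicit false

namespace H9.CBPar2

open Cfsg Subgroup MulAction H14 H98 H1.Gold H31.S2 H14.GC H14.FE H14.NF H14.CB

universe u

theorem el_comm {G : Type u} [Group G] {Y : Subgroup G} (h : El Y) {a b : G} (ha : a ∈ Y) (hb : b ∈ Y) :
    a * b = b * a := by
  have h1 := inv_eq_of_mul_eq_one_right (h a ha)
  have h2 := inv_eq_of_mul_eq_one_right (h b hb)
  have h3 := inv_eq_of_mul_eq_one_right (h (a * b) (mul_mem ha hb))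
  rw [← h3, mul_inv_rev, h1, h2]

theorem el_le_cen {G : Type u} [Group G] {Y : Subgroup G} (h : El Y) : Y ≤ cen Y := fun a ha =>
  mem_centralizer_iff.2 fun _ hb => el_comm h hb ha

theorem jobPar2 : H14.CB.JPar2.{u} := by
  intro hSame hCard G _ _ Q E hT Q₁ T P S C Qa Ta hPr hLa hle hx h hh
  obtain ⟨x, ⟨hx1, hx2⟩, hx3⟩ := hx
  obtain ⟨hcard, -, -, hnor⟩ := hCard G Q E hT Q₁ T P S hPr.ln hPr.sec
  obtain ⟨hS, -, hQ, -⟩ := hnor h hh.1
  have hCS : C ≤ cen S := hPr.cC.trans (centralizer_le hPr.sec.le)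
  have hSC : S ≤ cen C := le_centralizer_iff.1 hCS
  have hW : S ⊔ C ≤ cen (S ⊔ C) :=
    sup_le (le_centralizer_iff.1 (sup_le (el_le_cen hPr.sec.el) hCS))
      (le_centralizer_iff.1 (sup_le hSC (el_le_cen hPr.el)))
  have hdec : ∀ a ∈ S ⊔ C, ∃ s ∈ S, ∃ c ∈ C, s * c = a := fun a ha => by
    have e := coe_mul_of_right_le_normalizer_left S C (hCS.trans (centralizer_le_normalizer _))
    have : a ∈ ((S ⊔ C : Subgroup G) : Set G) := ha
    rw [e] at this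
    exact this
  have hconj : ∀ a ∈ S ⊔ C, h * a * h⁻¹ ∈ S ⊔ C ∧ h * a * h⁻¹ * a ∈ S := fun a ha => by
    obtain ⟨s, hs, c, hc, rfl⟩ := hdec a ha
    have e1 : c * h = h * c := mem_centralizer_iff.1 hh.2 c hc
    have e2 : c * s = s * c := mem_centralizer_iff.1 (hSC hs) c hc
    have e3 : h * (s * c) * h⁻¹ = h * s * h⁻¹ * c := by
      calc h * (s * c) * h⁻¹ = h * s * h⁻¹ * (h * c) * h⁻¹ := by group
        _ = h * s * h⁻¹ * c := by rw [← e1]; group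
    have hs' : h * s * h⁻¹ ∈ S := conj_mem_of_mem_normalizer hS hs
    refine ⟨e3 ▸ mul_mem (mem_sup_left hs') (mem_sup_right hc), ?_⟩
    have e4 : h * (s * c) * h⁻¹ * (s * c) = h * s * h⁻¹ * s := by
      calc h * (s * c) * h⁻¹ * (s * c) = h * s * h⁻¹ * (c * s) * c := by rw [e3]; group
        _ = h * s * h⁻¹ * s * (c * c) := by rw [e2]; group
        _ = h * s * h⁻¹ * s := by rw [hPr.el c hc, mul_one]
    rw [e4]
    exact mul_mem hs' hs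
  have hEW : E ≤ S ⊔ C := hPr.sec.lE.trans le_sup_left
  have hT'W : cj h Ta ≤ S ⊔ C := by
    rintro _ ⟨a, ha, rfl⟩
    exact (hconj a (hle ha)).1
  obtain ⟨g, hg1, hg2⟩ := hLa.col.p2
  refine hSame G Q E hT Qa Ta P hLa (cj h Qa) (cj h Ta) ⟨h * g, by rw [hg1, cj_cj], by rw [hg2, cj_cj]⟩
    (fun e => hLa.col.ne ?_) ((hT'W.trans hW).trans (centralizer_le (sup_le hEW hle : E ⊔ Ta ≤ S ⊔ C))) ?_
  · have e1 : cj h Q = Q := cj_eq_self_iff.2 hQ
    have e2 : cj h⁻¹ (cj h Qa) = cj h⁻¹ (cj h Q) := by rw [e, e1]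
    rw [cj_cj, cj_cj, inv_mul_cancel, cj_one, cj_one] at e2
    exact e2.symm
  by_contra hne
  push Not at hne
  have hone : ∀ a ∈ Ta, h * a * h⁻¹ ∈ E ⊔ Ta → a = 1 := fun a ha hm => by
    by_contra a1
    refine hne _ (conj_mem_cj ha) (fun e => a1 ?_) hm
    have : a = h⁻¹ * (h * a * h⁻¹) * h := by group
    rw [this, e]; group
  let f : E × Ta → S := fun p =>
    ⟨p.1 * (h * p.2 * h⁻¹ * p.2), mul_mem (hPr.sec.lE p.1.2) (hconj _ (hle p.2.2)).2⟩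
  have hf : Function.Injective f := by
    rintro ⟨⟨r, hr⟩, ⟨a, ha⟩⟩ ⟨⟨r', hr'⟩, ⟨a', ha'⟩⟩ e
    have e0 : r * (h * a * h⁻¹ * a) = r' * (h * a' * h⁻¹ * a') := congrArg Subtype.val e
    have ec : (r'⁻¹ * r) * (h * a * h⁻¹) = (h * a * h⁻¹) * (r'⁻¹ * r) :=
      mem_centralizer_iff.1 (hW (hconj a (hle ha)).1) _ (hEW (mul_mem (inv_mem hr') hr))
    have e1 : h * (a'⁻¹ * a) * h⁻¹ = a' * a⁻¹ * (r'⁻¹ * r)⁻¹ := by
      calc h * (a'⁻¹ * a) * h⁻¹
          = (h * a' * h⁻¹)⁻¹ * ((h * a * h⁻¹) * (r'⁻¹ * r)) * (r'⁻¹ * r)⁻¹ := by group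
        _ = (h * a' * h⁻¹)⁻¹ * r'⁻¹ * (r * (h * a * h⁻¹ * a)) * a⁻¹ * (r'⁻¹ * r)⁻¹ := by rw [← ec]; group
        _ = a' * a⁻¹ * (r'⁻¹ * r)⁻¹ := by rw [e0]; group
    have e2 : a'⁻¹ * a = 1 := hone _ (mul_mem (inv_mem ha') ha) (by
      rw [e1]
      exact mul_mem (mem_sup_right (mul_mem ha' (inv_mem ha)))
        (mem_sup_left (inv_mem (mul_mem (inv_mem hr') hr))))
    obtain rfl : a' = a := inv_mul_eq_one.1 e2
    obtain rfl : r = r' := mul_right_cancel e0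
    rfl
  have hcT : Nat.card Ta = Nat.card E := by rw [hg2]; exact card_cj g E
  have hb : Function.Bijective f :=
    hf.bijective_of_nat_card_le (by rw [Nat.card_prod, hcT]; exact hcard)
  obtain ⟨⟨⟨r, hr⟩, ⟨a, ha⟩⟩, e⟩ := hb.2 ⟨x, hx2⟩
  have e0 : r * (h * a * h⁻¹ * a) = x := congrArg Subtype.val e
  have e1 : h * a * h⁻¹ = r⁻¹ * x * a⁻¹ := by rw [← e0]; group
  obtain rfl : a = 1 := hone a ha (by
    rw [e1]
    exact mul_mem (mul_mem (mem_sup_left (inv_mem hr)) hx1) (mem_sup_right (inv_mem ha)))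
  refine hx3 ?_
  rw [← e0]
  simpa using hr

end H9.CBPar2
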