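import Cfsg.Agent.H96.U2CenSpec

/-! Job OL of the chapter U2F of S3275: the orbit of the centre of a transvection. -/

set_option autoImplicit false

namespace H9.CenOL

open Subgroup Cfsg H98 H48.DP H96.U2I H96.Cen

universe u

theorem key {W : Type u} [AddCommGroup W] (h2 : ∀ w : W, w + w = 0) {W₀ : AddSubgroup W}
    {b b' : Au W} {d d' : W} {k : ℕ} (hk : (b * b') ^ 3 ^ k = 1) (bb : b * b = 1)
    (hd : d ∈ W₀) (hd' : d' ∈ W₀) (d0 : d' ≠ 0) (ne : d ≠ d')
    (t : ∀ p ∈ W₀, b • p = p ∨ b • p = p + d) (t' : ∀ p ∈ W₀, b' • p = p ∨ b' • p = p + d')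
    (e' : b' • d' = d') (mv : ∃ p ∈ W₀, b' • p = p + d') : b • d' = d' + d := by
  refine (t d' hd').resolve_left fun e => ?_
  have bbp : ∀ p : W, b • b • p = p := fun p => by rw [← mul_smul, bb, one_smul]
  have m : ∀ p ∈ W₀, b • p ∈ W₀ := fun p hp => by
    rcases t p hp with h | h <;> rw [h]
    exacts [hp, add_mem hp hd]
  have m' : ∀ p ∈ W₀, b' • p ∈ W₀ := fun p hp => by
    rcases t' p hp with h | h <;> rw [h]
    exacts [hp, add_mem hp hd']
  have h1 : ∀ p ∈ W₀, b • b' • b • p = p ∨ b • b' • b • p = p + d' := fun p hp => by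
    rcases t' _ (m p hp) with h | h <;> rw [h]
    · exact Or.inl (bbp p)
    · exact Or.inr (by rw [smul_add, bbp, e])
  have h3 : ∀ p ∈ W₀, ((b * b') * (b * b')) • p = p ∨ ((b * b') * (b * b')) • p = p + d' := by
    intro p hp
    simp only [mul_smul]
    rcases h1 _ (m' p hp) with h | h <;> rw [h]
    · exact t' p hp
    · rcases t' p hp with h | h <;> rw [h]
      · exact Or.inr rfl
      · exact Or.inl (by rw [add_assoc, h2, add_zero])
  have h4 : ((b * b') * (b * b')) • d' = d' := by simp only [mul_smul, e, e']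
  have h5 : ∀ p ∈ W₀, (b * b') ^ 4 ∈ MulAction.stabilizer (Au W) p := by
    intro p hp
    have : (b * b') ^ 4 = ((b * b') * (b * b')) * ((b * b') * (b * b')) := by
      simp only [pow_succ, pow_zero, one_mul, mul_assoc]
    rw [MulAction.mem_stabilizer_iff, this, mul_smul]
    rcases h3 p hp with h | h
    · rw [h, h]
    · rw [h, smul_add, h, h4, add_assoc, h2, add_zero]
  obtain ⟨n, hn⟩ := exists_pow_eq_self_of_coprime (x := b * b') (n := 4)
    (Nat.Coprime.coprime_dvd_right (orderOf_dvd_of_pow_eq_one hk)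
      (Nat.Coprime.pow_right k (by norm_num)))
  obtain ⟨p, hp, e1⟩ := mv
  have h6 : (b * b') • p = p := by
    have := pow_mem (h5 p hp) n
    rwa [hn] at this
  have h7 : b • p = p + d' := by
    rw [← e1, ← bbp (b' • p), ← mul_smul b b', h6]
  rcases t p hp with h | h <;> rw [h7] at h
  · exact d0 (add_eq_left.1 h)
  · exact ne (add_left_cancel h).symm

theorem jobOL : OL.{u} := by
  intro W _ _ F a W₀ c h2 hF aa aF inv hc c0 ⟨p0, hp0, e0⟩ t
  have ai : a⁻¹ = a := inv_eq_of_mul_eq_one_right aa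
  have ac : a • c = c := by
    have h : a • a • p0 = p0 := by rw [← mul_smul, aa, one_smul]
    rw [e0, smul_add, e0, add_assoc, add_eq_left] at h
    rw [eq_neg_of_add_eq_zero_right h, eq_comm, eq_neg_iff_add_eq_zero, h2]
  have tf : ∀ f ∈ F, ∀ p ∈ W₀, (f * a * f⁻¹) • p = p ∨ (f * a * f⁻¹) • p = p + f • c := by
    intro f hf p hp
    simp only [mul_smul]
    rcases t _ (inv _ (inv_mem hf) p hp) with h | h <;> rw [h]
    · exact Or.inl (smul_inv_smul f p)
    · exact Or.inr (by rw [smul_add, smul_inv_smul])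
  have K : ∀ f ∈ F, ∀ f' ∈ F, f • c ≠ f' • c → (f * a * f⁻¹) • f' • c = f' • c + f • c := by
    intro f hf f' hf' ne
    have hm : f * a * f⁻¹ * (f' * a * f'⁻¹) ∈ F := by
      have := mul_mem (mul_mem hf (conj_mem_of_mem_normalizer aF (mul_mem (inv_mem hf) hf')))
        (inv_mem hf')
      rw [ai] at this
      simpa only [mul_assoc] using this
    obtain ⟨k, hk⟩ := hF ⟨_, hm⟩
    refine key h2 (k := k) (congrArg Subtype.val hk) ?_ (inv f hf c hc) (inv f' hf' c hc)
      (fun e => c0 ((smul_eq_zero_iff_eq f').1 e)) ne (tf f hf) (tf f' hf') ?_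
      ⟨f' • p0, inv f' hf' p0 hp0, ?_⟩
    · calc _ = f * (a * a) * f⁻¹ := by group
        _ = 1 := by rw [aa]; group
    · rw [mul_smul, mul_smul, inv_smul_smul, ac]
    · rw [mul_smul, mul_smul, inv_smul_smul, e0, smul_add]
  have K1 : ∀ f ∈ F, f • c ≠ c → a • f • c = f • c + c := fun f hf ne => by
    simpa using K 1 (one_mem F) f hf (by rw [one_smul]; exact ne.symm)
  refine ⟨K1, ?_⟩
  have hi : (MulAction.stabilizer (Au W) c).relIndex F = (MulAction.orbit F c).ncard := by
    rw [← MulAction.index_stabilizer]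
    rfl
  have three : ∀ x y z : W, ({x, y, z} : Set W).ncard ≤ 3 := fun x y z =>
    (Set.ncard_insert_le _ _).trans (Nat.succ_le_succ ((Set.ncard_insert_le _ _).trans
      (by rw [Set.ncard_singleton])))
  rw [hi]
  by_cases h : ∃ f ∈ F, f • c ≠ c
  · obtain ⟨f, hf, ne⟩ := h
    refine le_trans (Set.ncard_le_ncard ?_) (three c (f • c) (f • c + c))
    rintro _ ⟨⟨g, hg⟩, rfl⟩
    show g • c ∈ _
    by_contra hn
    simp only [Set.mem_insert_iff, Set.mem_singleton_iff, not_or] at hn
    obtain ⟨n1, n2, n3⟩ := hn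
    have e4 : (a * f * a⁻¹) • c = f • c + c := by
      rw [mul_smul, mul_smul, ai, ac, K1 f hf ne]
    have k1 := K _ (conj_mem_of_mem_normalizer aF hf) g hg (by rw [e4]; exact fun e => n3 e.symm)
    have k2 := K f hf g hg fun e => n2 e.symm
    have k3 := K f hf 1 (one_mem F) (by rw [one_smul]; exact ne)
    have k4 := K1 g hg n1
    rw [one_smul] at k3
    have e5 : a * f * a⁻¹ * a * (a * f * a⁻¹)⁻¹ = a * (f * a * f⁻¹) * a := by
      calc _ = a * (f * a * f⁻¹) * a⁻¹ := by group
        _ = _ := by rw [ai]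
    rw [e4, e5, mul_smul, mul_smul, k4, smul_add, k2, k3] at k1
    have e6 : g • c + f • c + (c + f • c) = g • c + c := by
      rw [add_comm c, ← add_assoc, add_assoc (g • c), h2, add_zero]
    rw [e6, smul_add, k4, ac, add_assoc, h2, add_zero, eq_comm, add_eq_left] at k1
    exact ne (by rw [eq_neg_of_add_eq_zero_left k1, eq_comm, eq_neg_iff_add_eq_zero, h2])
  · push Not at h
    refine le_trans (Set.ncard_le_ncard ?_) (three c c c)
    rintro _ ⟨⟨g, hg⟩, rfl⟩
    exact Or.inl (h g hg)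

end H9.CenOL
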