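/- Tower CX (row S5242): the jobs Fwd and Back. -/
import Cfsg.Agent.H24.CxSpec
import Cfsg.Agent.H92.Normal
import Cfsg.Agent.H9.R2Cand

set_option autoImplicit false
set_option linter.unusedSectionVars false

open Subgroup Cfsg H92 H94 H24.Cx

universe u v

namespace H9.CxFB

section
variable {Ω Ω' G : Type*} [Group Ω] [Group Ω'] [Group G] {S A P : Subgroup Ω} {S' : Subgroup Ω'}
  {F : FusionSystem S} {E : FusionSystem S'} {θ : S →* Ω'}

/-- conjugation inside the image of an injective homomorphism is induced by a function -/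
theorem exists_fun {ι : S →* G} {g : G} (h : ∀ x ∈ P, g * ext1 ι x * g⁻¹ ∈ ι.range) :
    ∃ f : Ω → Ω, ∀ x ∈ P, f x ∈ S ∧ ext1 ι (f x) = g * ext1 ι x * g⁻¹ := by
  choose! f hf using fun x (hx : x ∈ P) => show ∃ y : Ω, y ∈ S ∧ ext1 ι y = g * ext1 ι x * g⁻¹ from
    (h x hx).elim fun y hy => ⟨y, y.2, (ext1_coe ι y).trans hy⟩
  exact ⟨f, hf⟩

theorem cen_A (hA : F.IsCentral A) {a s : Ω} (ha : a ∈ A) (hs : s ∈ S) : s * a * s⁻¹ = a :=
  fix_of_central hA (mor_conj F le_rfl hs) (hA.1 ha) ha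

/-- `θ` with values in `S'` -/
def th (hE : F.IsFactorSystem A θ E) : S →* S' := θ.codRestrict S' fun x => hE.2.2.1.le ⟨x, rfl⟩

theorem th_surj (hE : F.IsFactorSystem A θ E) : Function.Surjective (th hE) := fun y =>
  (hE.2.2.1.ge y.2).elim fun x hx => ⟨x, Subtype.ext hx⟩

theorem ext1_th (hE : F.IsFactorSystem A θ E) (ι : S' →* G) {x : Ω} (hx : x ∈ S) :
    ext1 ι (ext1 θ x) = ι (th hE ⟨x, hx⟩) := by
  rw [ext1_of_mem θ hx]; exact ext1_coe ι (th hE ⟨x, hx⟩)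

theorem lift1 (hE : F.IsFactorSystem A θ E) {ι : S' →* G} (re : E.IsRealizedBy ι) (hA : A ≤ P) (hP : P ≤ S)
    {g : G} (h : ∀ x ∈ P, g * ext1 ι (ext1 θ x) * g⁻¹ ∈ ι.range) :
    ∃ f, Mor F P f ∧ ∀ x ∈ P, ext1 ι (ext1 θ (f x)) = g * ext1 ι (ext1 θ x) * g⁻¹ := by
  obtain ⟨k, hk⟩ := exists_fun (P := img P (ext1 θ)) (ι := ι) (g := g) fun y hy => by
    obtain ⟨x, hx, rfl⟩ := ((mulOn_ext1 θ).mono hP).mem_img.1 hy
    exact h x hx
  obtain ⟨f, hf, e⟩ := (fac_mor_iff hE hA hP).1 ((realized_mor_iff re).2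
    ⟨fac_img_le hE hP, fun y hy => (hk y hy).1, g, fun y hy => (hk y hy).2⟩)
  exact ⟨f, hf, fun x hx => by rw [← e x hx, (hk _ (mem_img_of_mem _ hx)).2]⟩

end

theorem jobBack : JobBack.{u, v} := by
  intro ex fc p _ Ω _ S _ F A Ω' _ S' _ θ E hS hF hA hE
  rw [if_pos rfl]
  rintro ⟨G, _, _, ι', re, T, hT⟩
  let κ : S →* G := ι'.comp (th hE)
  have hκ : ∀ x (hx : x ∈ S), ext1 ι' (ext1 θ x) = κ ⟨x, hx⟩ := fun x hx => ext1_th hE ι' hx
  have hr : κ.range = ι'.range := le_antisymm (fun _ ⟨x, e⟩ => ⟨_, e⟩) fun _ ⟨y, e⟩ => by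
    obtain ⟨x, rfl⟩ := th_surj hE y
    exact ⟨x, e⟩
  have hk : κ.ker = A.subgroupOf S := Subgroup.ext fun x => by
    rw [MonoidHom.mem_ker, mem_subgroupOf, ← hE.2.1, MonoidHom.comp_apply, map_eq_one_iff _ re.1,
      Subtype.ext_iff]
    rfl
  obtain ⟨H, _, _, ι, π, hι, hπ, e, hker, hc⟩ := ex p S G (A.subgroupOf S) κ hS
    (fun a ha => mem_center_iff.2 fun s => Subtype.ext (mul_inv_eq_iff_eq_mul.1 (cen_A hA ha s.2))) hk
    (by rw [hr, ← hT]; exact T.not_dvd_index) fun g P hP h => by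
      have hA' : A ≤ P.map S.subtype := fun a ha => ⟨⟨a, hA.1 ha⟩, hP ha, rfl⟩
      obtain ⟨f, hf, k⟩ := lift1 hE re hA' (map_subtype_le P) (g := g) fun _ ⟨x, hx, e⟩ => by
        rw [← e, ← hr]; exact (hκ x x.2).symm ▸ h x hx
      have m : ∀ x ∈ P, (x : Ω) ∈ P.map S.subtype := fun x hx => ⟨x, hx, rfl⟩
      classical
      refine ⟨fun x => if h : f x ∈ S then ⟨f x, h⟩ else 1, fun x hx y hy => ?_, fun x hx => ?_,
        fun a ha => ?_⟩ <;> beta_reduce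
      · rw [dif_pos (hf.mem (m _ (mul_mem hx hy))), dif_pos (hf.mem (m _ hx)), dif_pos (hf.mem (m _ hy))]
        exact Subtype.ext (hf.map_mul (m _ hx) (m _ hy))
      · rw [dif_pos (hf.mem (m _ hx)), ← hκ, k _ (m _ hx), hκ x x.2]
      · rw [dif_pos (hf.mem (m _ (hP ha)))]
        exact Subtype.ext (fix_of_central hA hf (hA' ha) ha)
  have e1 : ∀ x ∈ S, π (ext1 ι x) = ext1 ι' (ext1 θ x) := fun x hx => by rw [ext1_of_mem ι hx, e, hκ x hx]
  refine fc p Ω S F A H ι π.ker hS hF hA ⟨hι, ?_, fun z => ?_, hc, fun g P h1 h2 h => ?_, fun P f h1 hf => ?_⟩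
  · have : ι.range = κ.range.comap π := le_antisymm (fun _ ⟨x, k⟩ => ⟨x, by rw [← k, e]⟩) fun y ⟨x, k⟩ => by
      obtain ⟨a, -, ha⟩ := hker.le (show (ι x)⁻¹ * y ∈ π.ker by
        rw [MonoidHom.mem_ker, map_mul, map_inv, e, k, inv_mul_cancel])
      exact ⟨x * a, by rw [map_mul, ha, mul_inv_cancel_left]⟩
    refine H98.isSyl_top_iff.2 ⟨(hS.of_surjective _ ι.rangeRestrict_surjective).toSylow ?_, rfl⟩
    rw [this, index_comap_of_surjective _ hπ, hr, ← hT]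
    exact T.not_dvd_index
  · rw [hker]
    exact ⟨fun ⟨a, ha, k⟩ => ⟨a, ha, (ext1_coe ι a).trans k⟩,
      fun ⟨a, ha, k⟩ => ⟨⟨a, hA.1 ha⟩, ha, (ext1_of_mem ι _).symm.trans k⟩⟩
  · obtain ⟨f, hf, k⟩ := lift1 hE re h1 h2 (g := π g) fun x hx => by
      obtain ⟨y, hy⟩ := h x hx
      rw [← e1 x (h2 hx), ← map_inv, ← map_mul, ← map_mul, ← hy, e, ← hr]
      exact ⟨y, rfl⟩
    refine ⟨f, hf, fun x hx => ?_⟩
    rw [MonoidHom.mem_ker, map_mul, map_inv, map_mul, map_mul, map_inv, e1 _ (hf.mem hx), e1 _ (h2 hx), k x hx,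
      mul_inv_cancel]
  · obtain ⟨k, hk, e2⟩ := fac_mor hE hf h1 fun a ha => by rwa [fix_of_central hA hf (h1 ha) ha]
    obtain ⟨-, -, g, hg⟩ := (realized_mor_iff re).1 hk
    obtain ⟨g, rfl⟩ := hπ g
    refine ⟨g, fun x hx => ?_⟩
    rw [MonoidHom.mem_ker, map_mul, map_inv, map_mul, map_mul, map_inv, e1 _ (hf.mem hx), e1 _ (hf.le hx),
      ← e2 x hx, hg _ (mem_img_of_mem _ hx), mul_inv_cancel]

theorem jobFwd : JobFwd.{u, v} := by
  intro p _ Ω _ S _ F A Ω' _ S' _ θ E hS hF hA hE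
  rw [if_neg (by simp)]
  rintro ⟨G, _, _, ι, re, T, hT⟩
  let C : Subgroup G := centralizer (((A.subgroupOf S).map ι : Subgroup G) : Set G)
  have hC : ∀ x, ι x ∈ C := fun x => mem_centralizer_iff.2 fun _ ⟨a, ha, e⟩ => by
    rw [← e, ← map_mul, ← map_mul]
    exact congrArg ι (Subtype.ext (mul_inv_eq_iff_eq_mul.1 (cen_A hA ha x.2)).symm)
  let N : Subgroup C := ((A.subgroupOf S).map ι).subgroupOf C
  have : N.Normal := ⟨fun n hn c => by
    rw [show c * n * c⁻¹ = n from Subtype.ext (mul_inv_eq_iff_eq_mul.2 (mem_centralizer_iff.1 c.2 _ hn).symm)]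
    exact hn⟩
  let κ : S →* C ⧸ N := (QuotientGroup.mk' N).comp (ι.codRestrict C hC)
  have hκ : ∀ x, κ x = 1 ↔ (x : Ω) ∈ A := fun x => by
    rw [MonoidHom.comp_apply, QuotientGroup.mk'_apply, QuotientGroup.eq_one_iff]
    exact ⟨fun ⟨a, ha, e⟩ => re.1 e ▸ ha, fun h => ⟨x, h, rfl⟩⟩
  let ι' : S' →* C ⧸ N := (th hE).liftOfSurjective (th_surj hE)
    ⟨κ, fun x hx => (hκ x).2 ((hE.2.1 x).1 (congrArg Subtype.val hx))⟩
  have e0 : ∀ x, ι' (th hE x) = κ x := fun x => MonoidHom.liftOfRightInverse_comp_apply _ _ _ _ x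
  have e1 : ∀ x (hx : x ∈ S), ext1 ι' (ext1 θ x) = κ ⟨x, hx⟩ := fun x hx => (ext1_th hE ι' hx).trans (e0 _)
  have hi : Function.Injective ι' := (injective_iff_map_eq_one _).2 fun y hy => by
    obtain ⟨x, rfl⟩ := th_surj hE y
    exact Subtype.ext ((hE.2.1 x).2 ((hκ x).1 ((e0 x).symm.trans hy)))
  have key : ∀ (c : C) x (hx : x ∈ S) y (hy : y ∈ S), ext1 ι y = c * ext1 ι x * (c : G)⁻¹ →
      ext1 ι' (ext1 θ y) = (c : C ⧸ N) * ext1 ι' (ext1 θ x) * (c : C ⧸ N)⁻¹ := fun c x hx y hy h => by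
    rw [ext1_of_mem ι hx, ext1_of_mem ι hy] at h
    rw [e1 x hx, e1 y hy]
    exact congrArg (QuotientGroup.mk' N) (Subtype.ext h :
      ι.codRestrict C hC ⟨y, hy⟩ = c * ι.codRestrict C hC ⟨x, hx⟩ * c⁻¹)
  refine H9.isRealizable_of (ι := ι') (isRealizedBy_of_mor_iff hi fun P' k hP hk => ⟨fun h => ?_, ?_⟩)
    ((T.subtype (hT.le.trans fun _ ⟨x, e⟩ => e ▸ hC x)).mapSurjective (QuotientGroup.mk'_surjective N)) ?_
  · obtain ⟨f, hf, e⟩ := fac_lift hE h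
    obtain ⟨-, -, g, hg⟩ := (realized_mor_iff re).1 hf
    have hgC : g ∈ C := mem_centralizer_iff.2 fun _ ⟨a, ha, e⟩ => by
      have := hg a (fac_le_pre hE P' ha)
      rw [fix_of_central (x := a) hA hf (fac_le_pre hE P' ha) ha, ext1_coe, e] at this
      exact (mul_inv_eq_iff_eq_mul.1 this.symm).symm
    refine ⟨(⟨g, hgC⟩ : C), fun y hy => ?_⟩
    obtain ⟨x, hx, rfl⟩ := fac_surj hE (hP hy)
    have hx' := mem_preimageAlong.2 ⟨hx, hy⟩
    rw [e x hx']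
    exact key ⟨g, hgC⟩ x hx _ (hf.mem hx') (hg x hx')
  · rintro ⟨c, hc⟩
    obtain ⟨c, rfl⟩ := QuotientGroup.mk_surjective c
    obtain ⟨f, hf⟩ := exists_fun (P := FusionSystem.preimageAlong θ P') (ι := ι) (g := c) fun x hx => by
      obtain ⟨hx, hx'⟩ := mem_preimageAlong.1 hx
      obtain ⟨y, hy, e⟩ := fac_surj hE (hk _ hx')
      have := hc _ hx'
      rw [← e, e1 y hy, e1 x hx] at this
      obtain ⟨a, -, ha⟩ : (ι.codRestrict C hC ⟨y, hy⟩)⁻¹ * (c * ι.codRestrict C hC ⟨x, hx⟩ * c⁻¹) ∈ N :=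
        QuotientGroup.eq.1 this
      exact ⟨⟨y, hy⟩ * a, by rw [map_mul, ha, ext1_of_mem ι hx]; simp⟩
    have hm : Mor F (FusionSystem.preimageAlong θ P') f := (realized_mor_iff re).2
      ⟨preimageAlong_le θ P', fun x hx => (hf x hx).1, c, fun x hx => (hf x hx).2⟩
    obtain ⟨g, hg, e⟩ := fac_mor hE hm (fac_le_pre hE P') fun a ha => by
      rwa [fix_of_central hA hm (fac_le_pre hE P' ha) ha]
    rw [fac_img_pre hE hP] at hg
    refine hg.congr fun y hy => ?_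
    obtain ⟨x, hx, rfl⟩ := fac_surj hE (hP hy)
    have hx' := mem_preimageAlong.2 ⟨hx, hy⟩
    have := (key c x hx _ (hf x hx').1 (hf x hx').2).trans (hc _ hy).symm
    rw [ext1_of_mem ι' (fac_mem hE (hf x hx').1), ext1_of_mem ι' (hk _ hy)] at this
    rw [e x hx']
    exact congrArg Subtype.val (hi this)
  · rw [Sylow.coe_mapSurjective, Sylow.coe_subtype, hT]
    refine le_antisymm (fun _ ⟨c, ⟨x, e⟩, k⟩ => ⟨th hE x, by
      rw [e0, ← k]; exact congrArg (QuotientGroup.mk' N) (Subtype.ext e)⟩) fun _ ⟨y, k⟩ => ?_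
    · obtain ⟨x, rfl⟩ := th_surj hE y
      exact ⟨ι.codRestrict C hC x, ⟨x, rfl⟩, (e0 x).symm.trans k⟩

end H9.CxFB
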