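/- Tower CX (row S5242): the job NC (norm argument). -/
import Cfsg.Agent.H24.CxKit0
import Cfsg.Agent.H40.SnSyl

set_option autoImplicit false
set_option linter.unusedSectionVars false

open Subgroup Cfsg H98 H24.Cx

universe u

namespace H9.CxNC

variable {p : ℕ} [hp : Fact p.Prime] {G : Type u} [Group G] [Finite G]

/-- a subgroup of index `p` over a proper subgroup of a `p`-group -/
theorem exists_max {J K : Subgroup G} (hJ : IsPGroup p J) (h : ¬ J ≤ K) :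
    ∃ M : Subgroup G, J ⊓ K ≤ M ∧ ¬ J ≤ M ∧ ∀ a ∈ J, a ∉ M →
      (∀ j ∈ J, ∃ i < p, (a ^ i)⁻¹ * j ∈ M) ∧ (∀ i < p, ∀ k < p, (a ^ k)⁻¹ * a ^ i ∈ M → i = k) ∧
      ∀ A ≤ J, a ∈ A → (A ⊓ M).relIndex A = p := by
  obtain ⟨M, h1, h2, h3, h4⟩ := H40.Sn.exists_coatom hJ (S := K.subgroupOf J) fun e =>
    h (subgroupOf_eq_top.1 e)
  have m : ∀ x (hx : x ∈ J), x ∈ M.map J.subtype ↔ (⟨x, hx⟩ : J) ∈ M := fun x hx =>
    mem_map_iff_mem (f := J.subtype) (x := ⟨x, hx⟩) J.subtype_injective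
  refine ⟨M.map J.subtype, fun x hx => (m x hx.1).2 (h1 hx.2), fun k => h2.1 (top_le_iff.1 fun x _ =>
    (m x x.2).1 (k x.2)), fun a ha hM => ?_⟩
  have hc : Nat.card (J ⧸ M) = p := h4
  have h0 : ((⟨a, ha⟩ : J) : J ⧸ M) ≠ 1 := fun e => hM ((m a ha).2 ((QuotientGroup.eq_one_iff _).1 e))
  have ho : orderOf ((⟨a, ha⟩ : J) : J ⧸ M) = p :=
    orderOf_eq_prime (by rw [← hc]; exact pow_card_eq_one') h0
  refine ⟨fun j hj => ?_, fun i hi k hk e => ?_, fun A hA haA => ?_⟩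
  · have := mem_zpowers_of_prime_card hc h0 (g' := ((⟨j, hj⟩ : J) : J ⧸ M))
    rw [← mem_powers_iff_mem_zpowers] at this
    obtain ⟨n, hn⟩ := this
    refine ⟨n % p, Nat.mod_lt _ hp.out.pos, (m _ (mul_mem (inv_mem (pow_mem ha _)) hj)).2 ?_⟩
    have e : ((⟨a, ha⟩ ^ (n % p) : J) : J ⧸ M) = ((⟨j, hj⟩ : J) : J ⧸ M) := by
      rw [QuotientGroup.mk_pow, ← hn, ← ho, pow_mod_orderOf]
    exact QuotientGroup.eq.1 e
  · have e' : ((⟨a, ha⟩ ^ k : J) : J ⧸ M) = ((⟨a, ha⟩ ^ i : J) : J ⧸ M) :=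
      QuotientGroup.eq.2 ((m _ (mul_mem (inv_mem (pow_mem ha _)) (pow_mem ha _))).1 e)
    rw [QuotientGroup.mk_pow, QuotientGroup.mk_pow] at e'
    exact (pow_injOn_Iio_orderOf (by rwa [ho]) (by rwa [ho]) e').symm
  · have e : (A ⊓ M.map J.subtype).relIndex A = M.relIndex (A.subgroupOf J) := by
      rw [inf_relIndex_left, ← relIndex_subgroupOf hA, ← comap_subtype,
        comap_map_eq_self_of_injective J.subtype_injective]
    rw [e]
    refine ((Nat.dvd_prime hp.out).1 (h4 ▸ relIndex_dvd_index_of_normal M _)).resolve_left fun k => ?_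
    exact hM ((m a ha).2 (relIndex_eq_one.1 k haA))

variable {W : Type u} [AddCommGroup W] [DistribMulAction G W] {D : AddSubgroup W}
  {C : Subgroup G → Prop} {Y S Γ : Subgroup G}

/-- the sum over an invariant set without fixed points vanishes -/
theorem sum_zero {Ω : Type u} [MulAction G Ω] (φ : Ω → W) (hφ : ∀ (g : G) ω, φ (g • ω) = g • φ ω)
    (hJ : IsPGroup p (JJ C Y S)) (hC : ∀ A, C A → NP p D A) (T : Finset Ω) :
    (∀ ω ∈ T, φ ω ∈ D ∧ p • φ ω = 0 ∧ (∀ y ∈ Y, y • ω = ω) ∧ (∀ j ∈ JJ C Y S, j • ω ∈ T) ∧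
      ∃ j ∈ JJ C Y S, j • ω ≠ ω) → ∑ ω ∈ T, φ ω = 0 := by
  classical
  induction T using Finset.strongInduction with | H T ih =>
  intro h
  rcases T.eq_empty_or_nonempty with rfl | ⟨ω, hω⟩
  · simp
  obtain ⟨-, -, hY, hT, j0, hj0, hne⟩ := h ω hω
  let O := T.filter fun q => ∃ j ∈ JJ C Y S, j • ω = q
  have hO : O ⊆ T := Finset.filter_subset _ _
  rw [← Finset.sum_sdiff hO, ih _ (Finset.sdiff_ssubset hO ⟨ω, Finset.mem_filter.2 ⟨hω, 1, one_mem _, one_smul _ _⟩⟩)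
    fun q hq => ?_, zero_add]
  swap
  · obtain ⟨q1, q2⟩ := Finset.mem_sdiff.1 hq
    obtain ⟨a1, a2, a3, a4, a5⟩ := h q q1
    refine ⟨a1, a2, a3, fun j hj => Finset.mem_sdiff.2 ⟨a4 j hj, fun k => q2 ?_⟩, a5⟩
    obtain ⟨-, j', hj', e⟩ := Finset.mem_filter.1 k
    exact Finset.mem_filter.2 ⟨q1, j⁻¹ * j', mul_mem (inv_mem hj) hj', by rw [mul_smul, e, inv_smul_smul]⟩
  obtain ⟨M, m1, m2, m3⟩ := exists_max hJ (K := MulAction.stabilizer G ω) fun k => hne (k hj0)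
  obtain ⟨A, hA, hAS, hAM⟩ : ∃ A, C A ∧ A ≤ S ∧ ¬ A ≤ M := by
    by_contra! k
    exact m2 (JJ_le_iff.2 ⟨fun y hy => m1 ⟨le_JJ C Y S hy, hY y hy⟩, k⟩)
  obtain ⟨a, ha, haM⟩ := SetLike.not_le_iff_exists.1 hAM
  have hAJ := le_JJ' hA hAS Y
  obtain ⟨n1, n2, n3⟩ := m3 a (hAJ ha) haM
  let O1 := T.filter fun q => ∃ j ∈ JJ C Y S ⊓ M, j • ω = q
  have key := hC A hA _ inf_le_left (n3 A hAJ ha) (∑ q ∈ O1, φ q) (mem_Fix.2 ⟨sum_mem fun q hq =>
    (h q (Finset.mem_filter.1 hq).1).1, fun b hb => ?_⟩)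
    (by rw [Finset.smul_sum]; exact Finset.sum_eq_zero fun q hq => (h q (Finset.mem_filter.1 hq).1).2.1) a ha
  swap
  · have cl : ∀ b ∈ A ⊓ M, ∀ q ∈ O1, b • q ∈ O1 := fun b hb q hq => by
      obtain ⟨q1, j, hj, e⟩ := Finset.mem_filter.1 hq
      exact Finset.mem_filter.2 ⟨(h q q1).2.2.2.1 b (hAJ hb.1), b * j, mul_mem ⟨hAJ hb.1, hb.2⟩ hj,
        by rw [mul_smul, e]⟩
    rw [Finset.smul_sum]
    exact Finset.sum_bij' (fun q _ => b • q) (fun q _ => b⁻¹ • q) (cl b hb) (cl _ (inv_mem hb))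
      (fun q _ => inv_smul_smul b q) (fun q _ => smul_inv_smul b q) fun q _ => (hφ b q).symm
  rw [← key]
  simp only [Finset.smul_sum]
  rw [← Finset.sum_product']
  symm
  refine Finset.sum_bij (fun x _ => a ^ x.1 • x.2) (fun x hx => ?_) (fun x hx y hy e => ?_) (fun q hq => ?_)
    fun x _ => (hφ _ _).symm
  · obtain ⟨q1, j, hj, e⟩ := Finset.mem_filter.1 (Finset.mem_product.1 hx).2
    exact Finset.mem_filter.2 ⟨(h _ q1).2.2.2.1 _ (pow_mem (hAJ ha) _), a ^ x.1 * j,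
      mul_mem (pow_mem (hAJ ha) _) hj.1, by rw [mul_smul, e]⟩
  · obtain ⟨x1, x2⟩ := Finset.mem_product.1 hx
    obtain ⟨y1, y2⟩ := Finset.mem_product.1 hy
    obtain ⟨-, j, hj, ej⟩ := Finset.mem_filter.1 x2
    obtain ⟨-, k, hk, ek⟩ := Finset.mem_filter.1 y2
    have pa := fun n : ℕ => pow_mem (hAJ ha) n
    have h1 : k⁻¹ * ((a ^ y.1)⁻¹ * a ^ x.1) * j ∈ M := m1 (mem_inf.2 ⟨mul_mem (mul_mem
      (inv_mem (mem_inf.1 hk).1) (mul_mem (inv_mem (pa _)) (pa _))) (mem_inf.1 hj).1, by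
        rw [MulAction.mem_stabilizer_iff, mul_smul, mul_smul, mul_smul, ej, e, inv_smul_smul,
          ← ek, inv_smul_smul]⟩)
    have h2 := n2 _ (Finset.mem_range.1 x1) _ (Finset.mem_range.1 y1)
      ((M.mul_mem_cancel_left (inv_mem (mem_inf.1 hk).2)).1 ((M.mul_mem_cancel_right (mem_inf.1 hj).2).1 h1))
    exact Prod.ext h2 (by rw [h2] at e; exact MulAction.injective _ e)
  · obtain ⟨q1, j, hj, e⟩ := Finset.mem_filter.1 hq
    obtain ⟨i, hi, k⟩ := n1 j hj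
    have hj' := mul_mem (inv_mem (pow_mem (hAJ ha) i)) hj
    exact ⟨(i, ((a ^ i)⁻¹ * j) • ω), Finset.mem_product.2 ⟨Finset.mem_range.2 hi, Finset.mem_filter.2
      ⟨hT _ hj', _, ⟨hj', k⟩, rfl⟩⟩, by rw [mul_smul, smul_inv_smul, e]⟩

open Classical in
/-- the cosets of `H` inside `Γ` -/
noncomputable def cos (Γ H : Subgroup G) : Finset (G ⧸ H) :=
  (Fintype.ofFinite (G ⧸ H)).elems.filter fun q => q.out ∈ Γ

/-- the relative trace -/
noncomputable def tr (Γ H : Subgroup G) (w : W) : W := ∑ q ∈ cos Γ H, q.out • w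

variable {H : Subgroup G}

theorem mem_cos (h : H ≤ Γ) {g : G} : (g : G ⧸ H) ∈ cos Γ H ↔ g ∈ Γ := by
  obtain ⟨k, hk⟩ := QuotientGroup.mk_out_eq_mul H g
  simp only [cos, Finset.mem_filter, Fintype.complete, true_and, hk]
  exact Γ.mul_mem_cancel_right (h k.2)

theorem out_smul {w : W} (hw : ∀ k ∈ H, k • w = w) (g : G) : (g : G ⧸ H).out • w = g • w := by
  obtain ⟨k, hk⟩ := QuotientGroup.mk_out_eq_mul H g
  rw [hk, mul_smul, hw k k.2]

theorem out_smul' {w : W} (hw : ∀ k ∈ H, k • w = w) (g : G) (q : G ⧸ H) : (g • q).out • w = g • q.out • w := by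
  induction q using QuotientGroup.induction_on with | H x =>
  rw [MulAction.Quotient.smul_mk, out_smul hw, out_smul hw, smul_eq_mul, mul_smul]

theorem smul_cos (h : H ≤ Γ) {g : G} (hg : g ∈ Γ) {q : G ⧸ H} (hq : q ∈ cos Γ H) : g • q ∈ cos Γ H := by
  induction q using QuotientGroup.induction_on with | H x =>
  rw [MulAction.Quotient.smul_mk, mem_cos h]
  exact mul_mem hg ((mem_cos h).1 hq)

theorem tr_fix (h : H ≤ Γ) {w : W} (hw : ∀ k ∈ H, k • w = w) {g : G} (hg : g ∈ Γ) :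
    g • tr Γ H w = tr Γ H w := by
  rw [tr, Finset.smul_sum]
  exact Finset.sum_bij' (fun q _ => g • q) (fun q _ => g⁻¹ • q) (fun _ => smul_cos h hg)
    (fun _ => smul_cos h (inv_mem hg)) (fun q _ => inv_smul_smul g q) (fun q _ => smul_inv_smul g q)
    fun q _ => (out_smul' hw g q).symm

theorem out_mem (h : H ≤ Γ) {q : G ⧸ H} (hq : q ∈ cos Γ H) : q.out ∈ Γ := (mem_cos h).1 (by simpa using hq)

theorem card_cos (h : H ≤ Γ) : (cos Γ H).card = H.relIndex Γ := by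
  have e : H.subgroupOf Γ = MulAction.stabilizer Γ ((1 : G) : G ⧸ H) := Subgroup.ext fun g => by
    show (g : G) ∈ H ↔ (((g : G) * 1 : G) : G ⧸ H) = ((1 : G) : G ⧸ H)
    rw [eq_comm, QuotientGroup.eq]
    simp
  rw [relIndex, e, MulAction.index_stabilizer, ← Set.ncard_coe_finset]
  congr 1
  ext q
  induction q using QuotientGroup.induction_on with | H x =>
  rw [Finset.mem_coe, mem_cos h]
  refine ⟨fun hx => ⟨⟨x, hx⟩, congrArg QuotientGroup.mk (mul_one x)⟩, fun ⟨g, hg⟩ => (mem_cos h).1 ?_⟩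
  rw [← hg]
  exact smul_cos h g.2 ((mem_cos h).2 (one_mem _))

theorem tr_const (h : H ≤ Γ) {w : W} (hw : ∀ g ∈ Γ, g • w = w) : tr Γ H w = H.relIndex Γ • w := by
  rw [tr, Finset.sum_congr rfl fun q hq => hw _ (out_mem h hq), Finset.sum_const, card_cos h]

theorem tr_nsmul (n : ℕ) (w : W) : tr Γ H (n • w) = n • tr Γ H w := by
  simp only [tr, Finset.smul_sum, smul_comm n]

theorem tr_sub (v w : W) : tr Γ H (v - w) = tr Γ H v - tr Γ H w := by
  simp only [tr, smul_sub, Finset.sum_sub_distrib]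

theorem Y_le (hY : Pair p Γ Y) (hS : IsSyl p S Γ) : Y ≤ S :=
  hS.le_of_le_normalizer hY.isP hY.le (hS.le.trans hY.nor)

theorem S_le (hY : Pair p Γ Y) (hI : Inv Γ C) (hS : IsSyl p S Γ) :
    S ≤ Γ ⊓ normalizer (JJ C Y S : Set G) := fun s hs =>
  ⟨hS.le hs, cj_eq_self_iff.1 (by rw [← JJ_cj hY hI (hS.le hs), cj_eq_self_of_mem hs])⟩

theorem step1 (hY : Pair p Γ Y) (hD : Mod p Γ D) (hI : Inv Γ C) (hC : ∀ A, C A → NP p D A) (hS : IsSyl p S Γ)
    {v : W} (hv : v ∈ Fix D (Γ ⊓ normalizer (JJ C Y S : Set G))) (h0 : p • v = 0) {g : G} (hg : g ∈ Γ) :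
    g • v = v := by
  classical
  set H := Γ ⊓ normalizer (JJ C Y S : Set G)
  have hH : H ≤ Γ := inf_le_left
  have hJS : JJ C Y S ≤ S := JJ_le (Y_le hY hS)
  have hSH : S ≤ H := S_le hY hI hS
  have h1 : ((1 : G) : G ⧸ H) ∈ cos Γ H := (mem_cos hH).2 (one_mem _)
  have fx : ∀ x j : G, j • (x : G ⧸ H) = x ↔ x⁻¹ * j * x ∈ H := fun x j => by
    rw [MulAction.Quotient.smul_mk, eq_comm, QuotientGroup.eq, smul_eq_mul, mul_assoc]
  have key : ∀ x ∈ Γ, (∀ j ∈ JJ C Y S, j • (x : G ⧸ H) = x) → x ∈ H := fun x hx h => by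
    obtain ⟨k, hk, e⟩ := (hS.of_le hSH hH).exists_cj_le (isPGroup_cj x⁻¹ (hS.isPGroup.to_le hJS))
      fun y hy => by simpa [mul_assoc] using (fx x _).1 (h _ (mem_cj.1 hy))
    rw [cj_cj] at e
    have hkx := mul_mem (hH hk) (inv_mem hx)
    have : k * x⁻¹ ∈ H := ⟨hkx, mem_normalizer_of_cj_le (by
      rw [← JJ_JJ (Y_le hY hS), ← JJ_cj hY hI hkx, JJ_JJ (Y_le hY hS)]
      exact JJ_mono e)⟩
    exact inv_mem_iff.1 ((H.mul_mem_cancel_left hk).1 this)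
  have e : tr Γ H v = v := by
    rw [tr, ← Finset.add_sum_erase _ _ h1, out_smul hv.2, one_smul,
      sum_zero (D := D) (fun q : G ⧸ H => q.out • v) (out_smul' hv.2) (hS.isPGroup.to_le hJS) hC _ fun q hq => ?_,
      add_zero]
    obtain ⟨q1, q2⟩ := Finset.mem_erase.1 hq
    refine ⟨hD.inv _ (out_mem hH q2) v hv.1, by rw [smul_comm, h0, smul_zero], fun y hy => ?_, fun j hj =>
      Finset.mem_erase.2 ⟨fun k => q1 ?_, smul_cos hH (hS.le (hJS hj)) q2⟩, ?_⟩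
    · induction q using QuotientGroup.induction_on with | H x =>
      exact (fx x y).2 (hSH (Y_le hY hS ((mem_normalizer_iff''.1 (hY.nor ((mem_cos hH).1 q2)) y).1 hy)))
    · rw [← inv_smul_smul j q, k, fx]
      simpa using hSH (hJS hj)
    · by_contra! k
      induction q using QuotientGroup.induction_on with | H x =>
      exact q1 (QuotientGroup.eq.2 (by simpa using key x ((mem_cos hH).1 q2) k))
  rw [← e]
  exact tr_fix hH hv.2 hg

theorem cop_zero {k : ℕ} (hk : ¬ p ∣ k) {w : W} {e : ℕ} (h : p ^ e • w = 0) (h' : k • w = 0) : w = 0 := by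
  have := Nat.dvd_gcd (addOrderOf_dvd_of_nsmul_eq_zero h) (addOrderOf_dvd_of_nsmul_eq_zero h')
  rw [Nat.Coprime.pow_left e ((Nat.Prime.coprime_iff_not_dvd hp.out).2 hk)] at this
  exact AddMonoid.addOrderOf_eq_one_iff.1 (Nat.dvd_one.1 this)

theorem step2 (hY : Pair p Γ Y) (hD : Mod p Γ D) (hI : Inv Γ C) (hC : ∀ A, C A → NP p D A) (hS : IsSyl p S Γ)
    {v : W} (hv : v ∈ Fix D (Γ ⊓ normalizer (JJ C Y S : Set G))) {g : G} (hg : g ∈ Γ) : g • v = v := by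
  set H := Γ ⊓ normalizer (JJ C Y S : Set G)
  have hH : H ≤ Γ := inf_le_left
  obtain ⟨e, he⟩ := hD.exp
  have hk : ¬ p ∣ H.relIndex Γ := fun k =>
    hS.not_dvd_relIndex (k.trans (relIndex_dvd_of_le_left Γ (S_le hY hI hS)))
  have k : ∀ n, ∀ u ∈ Fix D H, tr Γ H u = 0 → p ^ n • u = 0 → u = 0 := fun n => by
    induction n with
    | zero => intro u _ _ h; simpa using h
    | succ n ih =>
      intro u hu h1 h2
      have := ih (p • u) (nsmul_mem hu p) (by rw [tr_nsmul, h1, smul_zero]) (by rwa [smul_smul, ← pow_succ])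
      rw [tr_const hH fun g hg => step1 hY hD hI hC hS hu this hg] at h1
      exact cop_zero hk (he u hu.1) h1
  have hT : tr Γ H v ∈ D := sum_mem fun q hq => hD.inv _ (out_mem hH hq) v hv.1
  have hu : H.relIndex Γ • v - tr Γ H v ∈ Fix D H :=
    sub_mem (nsmul_mem hv _) ⟨hT, fun g hg => tr_fix hH hv.2 (hH hg)⟩
  have h0 := k e _ hu (by
    rw [tr_sub, tr_nsmul, tr_const hH fun g hg => tr_fix hH hv.2 hg, sub_self]) (he _ hu.1)
  refine sub_eq_zero.1 (cop_zero hk (he _ (sub_mem (hD.inv g hg v hv.1) hv.1)) ?_)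
  rw [smul_sub, smul_comm, sub_eq_zero.1 h0, tr_fix hH hv.2 hg, sub_self]

theorem jobNC : JobNC.{u} := by
  intro p _ G X W _ _ _ _ _ Γ Y S D C Q F hX hY hD hI hC hS hQ hJ hF
  obtain ⟨x0, h0⟩ := hX.exists_on hS.isPGroup
  have hJS : JJ C Y S ≤ S := JJ_le (Y_le hY hS)
  have hY0 := h0.mono (Y_le hY hS)
  have two : ∀ {P : Subgroup G} {x y : X}, On P [x] → On P [y] → On P [x, y] := fun a b => on_cons.2 ⟨a, b⟩
  have hc : ∀ g ∈ Γ, g • F x0 = F x0 := fun g hg => step2 hY hD hI hC hS ⟨hF.mem x0 hY0, fun k hk => by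
    have o := two hY0 (hY0.sm hY hk.1)
    rw [← hF.eqv k hk.1 x0 hY0]
    refine (hF.cst _ _ o (hQ.mono _ _ ((⟨Y_le hY hS, hS.le, hS.isPGroup⟩ : Rel p Γ Y S).JJ C)
      (hX.rel hY o (by simp)) ((le_st (hJS.trans hS.le)).2 (two (h0.mono hJS) ?_)) hJ)).symm
    have := (h0.mono hJS).cj k
    rwa [cj_eq_self hk.2] at this⟩ hg
  refine ⟨F x0, ⟨hF.mem x0 hY0, hc⟩, fun x hx hq => ?_⟩
  have r := hX.rel hY hx (by simp)
  obtain ⟨g, hg, e⟩ := hS.exists_le_cj r.isP r.le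
  have o := two hx (hY0.sm hY hg)
  rw [hF.cst _ _ o (hQ.mono _ _ r (hX.rel hY o (by simp))
    ((le_st r.le).2 (two (on_st Γ [x]) ((h0.cj g).mono e))) hq), hF.eqv g hg x0 hY0, hc g hg]

end H9.CxNC
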