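/- A model of the wreath product of the dihedral group of order `8` by a group of order `2`. -/
import Cfsg.Agent.Base
import Mathlib.GroupTheory.Sylow
import Mathlib.GroupTheory.Perm.Fin
import Mathlib.Algebra.Group.MinimalAxioms
import Mathlib.GroupTheory.GroupAction.SubMulAction
import Mathlib.Algebra.Group.Action.Pointwise.Finset

set_option autoImplicit false
set_option maxRecDepth 100000
set_option synthInstance.maxSize 4096

namespace H9.DW8

open Subgroup
open scoped Pointwise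

def dm (x y : ℕ) : ℕ := (0x5397760af2e4c1de5298bbcd67443b3e21a9f50d1fac688 >>> (3 * (8 * x + y))) % 8
def mulN (m n : ℕ) : ℕ := dm (m % 8) ((n >>> (3 * (m / 64))) % 8) +
  8 * dm (m / 8 % 8) ((n >>> (3 - 3 * (m / 64))) % 8) + 64 * ((m / 64 + n / 64) % 2)
def iT : ℕ := 0xffdf7e79f5efc7fddb7669d5af46fbd76e59b56ec5f9d36649952e44f3c74e19346cc1f5cb562954ad42f7cf5e3974edc3f1c34609142c407ef9ebc72e9db86ed9ab462c99b05eb96ac52a95a84e992a442891a01e3868c12285882e58a9422489903e78e9c3268d980e182840208180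
def aT : ℕ := 0x5397760a9774c197729897744397721a9770d1977688977053f2e60af2e4c1f2e298f2e443f2e21af2e0d1f2e688f2e053de560ade54c1de5298de5443de521ade50d1de5688de5053bbc60abbc4c1bbc298bbc443bbc21abbc0d1bbc688bbc053d6760ad674c1d67298d67443d6721ad670d1d67688d67053b3e60ab3e4c1b3e298b3e443b3e21ab3e0d1b3e688b3e0539f560a9f54c19f52989f54439f521a9f50d19f56889f5053fac60afac4c1fac298fac443fac21afac0d1fac688fac97705397760a9774c197729897744397721a9770d1977688f2e053f2e60af2e4c1f2e298f2e443f2e21af2e0d1f2e688de5053de560ade54c1de5298de5443de521ade50d1de5688bbc053bbc60abbc4c1bbc298bbc443bbc21abbc0d1bbc688d67053d6760ad674c1d67298d67443d6721ad670d1d67688b3e053b3e60ab3e4c1b3e298b3e443b3e21ab3e0d1b3e6889f50539f560a9f54c19f52989f54439f521a9f50d19f5688fac053fac60afac4c1fac298fac443fac21afac0d1fac688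

/-- the group -/
def M : Type := Fin 128

instance : DecidableEq M := inferInstanceAs (DecidableEq (Fin 128))
instance : Fintype M := inferInstanceAs (Fintype (Fin 128))
def mk (n : ℕ) : M := ⟨n % 128, Nat.mod_lt _ (by decide)⟩
instance : Mul M := ⟨fun m n => mk (mulN m.1 n.1)⟩
instance : One M := ⟨mk 0⟩
instance : Inv M := ⟨fun m => mk (iT >>> (7 * m.1))⟩

def act (m : M) (k : Fin 8) : Fin 8 := ⟨(aT >>> (3 * (8 * m.1 + k.1))) % 8, Nat.mod_lt _ (by decide)⟩

theorem act_mul : ∀ (m n : M) k, act (m * n) k = act m (act n k) := by decide +kernel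
theorem act_inj : ∀ m n : M, (∀ k, act m k = act n k) → m = n := by decide +kernel

instance : Group M := Group.ofLeftAxioms
  (fun a b c => act_inj _ _ fun k => by simp only [act_mul]) (by decide +kernel) (by decide +kernel)

/-- the action on eight points -/
def pm : M →* Equiv.Perm (Fin 8) := MonoidHom.toHomPerm
  ⟨⟨act, funext (by decide +kernel)⟩, fun m n => funext (act_mul m n)⟩

theorem pm_inj : Function.Injective pm := fun m n h =>
  act_inj m n fun k => DFunLike.congr_fun h k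

theorem card_M : Nat.card M = 128 := Nat.card_fin 128

theorem syl {K : Subgroup (Equiv.Perm (Fin 8))} (h : Nat.card K = 128) :
    ∃ T : Sylow 2 (Equiv.Perm (Fin 8)), (T : Subgroup (Equiv.Perm (Fin 8))) = K := by
  have : Fact (Nat.Prime 2) := ⟨Nat.prime_two⟩
  refine ⟨Sylow.ofCard K ?_, rfl⟩
  have hc : Nat.card (Equiv.Perm (Fin 8)) = 2 ^ 7 * 315 := by
    rw [Nat.card_perm, Nat.card_fin]; rfl
  rw [h, hc, Nat.factorization_mul (by norm_num) (by norm_num), Nat.prime_two.factorization_pow,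
    Finsupp.add_apply, Finsupp.single_eq_same, Nat.factorization_eq_zero_of_not_dvd (by norm_num)]
  norm_num

theorem iso (T : Sylow 2 (Equiv.Perm (Fin 8))) : Nonempty (T ≃* M) := by
  have : Fact (Nat.Prime 2) := ⟨Nat.prime_two⟩
  obtain ⟨T', h⟩ := syl (K := pm.range) ((Nat.card_congr (MonoidHom.ofInjective pm_inj).toEquiv).symm.trans card_M)
  exact ⟨((Sylow.equiv T T').trans (MulEquiv.subgroupCongr h)).trans (MonoidHom.ofInjective pm_inj).symm⟩

/-- the subgroup with the bit mask `n` -/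
def sg (n : ℕ) (h : n.testBit 0 ∧ (∀ x y : M, n.testBit x.1 → n.testBit y.1 → n.testBit (x * y).1) ∧
    ∀ x : M, n.testBit x.1 → n.testBit x⁻¹.1) : Subgroup M where
  carrier := {x | n.testBit x.1}
  one_mem' := h.1
  mul_mem' := h.2.1 _ _
  inv_mem' := h.2.2 _

instance (n : ℕ) (h) (x : M) : Decidable (x ∈ sg n h) := inferInstanceAs (Decidable (n.testBit x.1))

abbrev J : Subgroup M := sg 0xffffffffffffffff (by decide +kernel)
abbrev Z0 : Subgroup M := sg 0x50005 (by decide +kernel)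
abbrev V1 : Subgroup M := sg 0x55005500550055 (by decide +kernel)
abbrev V2 : Subgroup M := sg 0xa500a50000a500a5 (by decide +kernel)
abbrev Q : Subgroup M := sg 0xa050a0500a050a05a050a0500a050a05 (by decide +kernel)

instance nZ : Z0.Normal := ⟨by decide +kernel⟩
instance nV1 : V1.Normal := ⟨by decide +kernel⟩

theorem card_J : Nat.card J = 64 := by rw [Nat.card_eq_fintype_card]; decide +kernel
theorem card_Z0 : Nat.card Z0 = 4 := by rw [Nat.card_eq_fintype_card]; decide +kernel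
theorem card_V1 : Nat.card V1 = 16 := by rw [Nat.card_eq_fintype_card]; decide +kernel
theorem card_V2 : Nat.card V2 = 16 := by rw [Nat.card_eq_fintype_card]; decide +kernel

abbrev a : M := mk 4
abbrev b : M := mk 5
abbrev t : M := mk 64
abbrev z : M := mk 18

theorem nf0 : ∀ A : M, A * A = 1 → ∀ B : M, B * B = 1 → A * B * (A * B) * (A * B * (A * B)) = 1 →
    A * B * (A * B) ≠ 1 → ∀ T : M, T * T = 1 → A * (T * A * T⁻¹) = T * A * T⁻¹ * A →
    A * (T * B * T⁻¹) = T * B * T⁻¹ * A → B * (T * B * T⁻¹) = T * B * T⁻¹ * B →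
    A * B * (A * B) * (T * (A * B * (A * B)) * T⁻¹) ≠ 1 →
    (T ∈ Q ∧ A * B * (A * B) ∈ Z0 ∧ A * (T * A * T⁻¹) ∈ Q ∧ B * (T * B * T⁻¹) ∈ Q) ∧
    ((∃ p ∈ [1, t], p * A * p⁻¹ * a⁻¹ ∈ Z0 ∧ p * B * p⁻¹ * b⁻¹ ∈ Z0 ∧
      p * (T * A * T⁻¹) * p⁻¹ * (t * a * t⁻¹)⁻¹ ∈ Z0 ∧ p * (T * B * T⁻¹) * p⁻¹ * (t * b * t⁻¹)⁻¹ ∈ Z0) ∨
    A ∉ V1 ∧ B ∈ V1 ∧ B ∉ V2 ∧ A ∈ V2) := by decide +kernel

end H9.DW8
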