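import Cfsg.Agent.H39.E6BN1
import Cfsg.Agent.H21.F22V
import Cfsg.Agent.H33.E6Rig

/-! `JobC` of `H46.E6BSpec` (blueprint `E6B.md`): weak closure of `3⁶`. -/

set_option autoImplicit false
set_option linter.unusedSectionVars false
set_option maxRecDepth 100000
set_option synthInstance.maxSize 2048

open Cfsg Subgroup H98 H42.L3 H7.PS H39.F22 H39.E6 H39.E6B
open H78.F22 hiding jty jtf jnQ jfr QO QiO zO tO memS sylz sylc SO SJ zreal L
open H46.E6B (HV1 HJ4 E1 NJ1 bt bt_P bt_Q Q_bt bt_inv bt_diag idxQ idxT idx_le r9 V3 Jb Big BG)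
open H21.F22 (L om om2 Im fus)
open H56.L3 (Ce Nz)
open H28.PS (SL3 Zt)
open H84.PS (V2)
open scoped Matrix

namespace H9.E6C

universe u

theorem sl_k : ∀ (T : SL3) (X C v : V2), T.1 *ᵥ C = C → T.1 *ᵥ X + T.1 *ᵥ C = X →
    om2 X C ≠ 0 → om2 (T.1 *ᵥ v + -v) C = 0 ∧
      om2 v (T.1 *ᵥ v + -v) = -om2 X C * (om2 v C * om2 v C) := by decide +kernel

theorem sl_12 : ∀ A : SL3, A ^ 12 = 1 := by decide +kernel

theorem sl_syl : ∀ A T : SL3, T ^ 4 ≠ 1 → T ^ 3 = 1 → A ^ 3 = 1 → (A * T) ^ 3 = 1 →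
    (A * T⁻¹) ^ 3 = 1 → ∀ v : V2, T.1 *ᵥ v = v → A.1 *ᵥ v = v := by decide +kernel

theorem sl_par : ∀ A : SL3, chi A ≠ 0 → ∀ v w : V2, A.1 *ᵥ v = v → A.1 *ᵥ w = w → om2 v w = 0 := by
  decide +kernel

theorem sl_cj : ∀ Y T : SL3, Y ^ 3 = 1 → T ^ 3 = 1 → chi Y = chi T →
    ∃ A : SL3, A ^ 4 = 1 ∧ A * Y * A⁻¹ = T := by decide +kernel

theorem sl_eq : ∀ Y T : SL3, Y ^ 3 = 1 → T ^ 3 = 1 → chi Y = chi T → ∀ v : V2, v ≠ 0 →
    Y.1 *ᵥ v = v → T.1 *ᵥ v = v → Y = T := by decide +kernel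

theorem cls : ∀ a k : V3, (∀ i, a i ≠ 0) → k 0 * k 0 + k 1 * k 1 + k 2 * k 2 = 0 →
    a 0 * k 0 + a 1 * k 1 + a 2 * k 2 = 0 → k = 0 ∨ k = a ∨ k = -a := by decide +kernel

theorem pick : ∀ a k l : V3, l ≠ 0 → (k = 0 ∨ k = a ∨ k = -a) →
    (l + k = 0 ∨ l + k = a ∨ l + k = -a) →
    (l + l + k = 0 ∨ l + l + k = a ∨ l + l + k = -a) → k = a ∨ l + k = a ∨ l + l + k = a := by
  decide +kernel

theorem allne : ∀ a : V3, a ≠ 0 → a 0 * a 0 + a 1 * a 1 + a 2 * a 2 = 0 → ∀ i, a i ≠ 0 := by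
  decide +kernel

theorem diag : ∀ a b : V3, (∀ i, a i = a 0) → (∀ i, b i = b 0 ∧ b i ≠ 0) →
    a = 0 ∨ a = b ∨ -a = b := by decide +kernel

theorem sl3 {A : SL3} {k : ℕ} (e : A ^ 3 ^ k = 1) : A ^ 3 = 1 := by
  have h1 : orderOf A ∣ 4 * 3 := orderOf_dvd_of_pow_eq_one (sl_12 A)
  have h2 : (orderOf A).Coprime 4 :=
    (Nat.Coprime.pow_left k (by norm_num : Nat.Coprime 3 4)).coprime_dvd_left
      (orderOf_dvd_of_pow_eq_one e)
  exact orderOf_dvd_iff_pow_eq_one.1 (h2.dvd_of_dvd_mul_left h1)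

variable {G : Type*} [Group G] [Finite G] {D : D3 G} {a d g k q t u v y π : G} {i : Fin 3}
  {c r x : Fin 3 → G} {ε : ZMod 3} {J S T X : Subgroup G}

theorem card_split (T X : Subgroup G) : Nat.card T = Nat.card ↥(T ⊓ X) * X.relIndex T := by
  rw [← H12.card_mul_relIndex (inf_le_left : T ⊓ X ≤ T), inf_comm, inf_relIndex_right]

/-- the class of an element of `Q` modulo `A` -/
noncomputable def kp (D : D3 G) (c : Fin 3 → G) (q : G) : V3 := fun i => om2 (L D q i) (D.l i (c i))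

section H

variable (h : H3 D)
include h

theorem abQ (hX : X ≤ D.QQ) (ab : X ≤ cn X) : Nat.card X ≤ 81 := by
  have h1 := H21.F22.iso h hX
  have h2 := card_le_of_le (le_inf hX ab)
  nlinarith

theorem cycQ (hv : v ∈ Ce D.z) (n : v ∉ D.B) (v3 : v ^ 3 = 1) (hX : X ≤ D.QQ) (e : X ≤ Ce v) :
    Nat.card X ≤ 27 := by
  have h1 := idx_le (T := X) (X := zpowers D.z) (Γ := Multiplicative V2)
    (MonoidHom.mk' (fun t : X => .ofAdd (L D t 0)) fun a b =>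
      congrArg Multiplicative.ofAdd (congrFun (H21.F22.L_mul h (hX a.2) (hX b.2)) 0))
    (fun t => ⟨fun e1 => H21.F22.cycz h hv n v3 (Ce_symm (e t.2)) (H21.F22.cn_of_L h (hX t.2) e1),
      fun e1 => congrFun (H21.F22.L_z h e1) 0⟩) (fun _ => True) fun _ => trivial
  rw [show Nat.card {x : Multiplicative V2 // True} = 9 by simp] at h1
  have h2 := card_le_of_le (inf_le_right : X ⊓ zpowers D.z ≤ _)
  rw [Nat.card_zpowers, h.ord] at h2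
  rw [card_split X (zpowers D.z)]
  nlinarith

theorem kp_mul (hq : q ∈ D.QQ) (hu : u ∈ D.QQ) : kp D c (q * u) = kp D c q + kp D c u := by
  funext i
  simp only [kp, H21.F22.L_mul h hq hu, om2, Pi.add_apply]; ring

theorem kp_inv (hq : q ∈ D.QQ) : kp D c q⁻¹ = -kp D c q := by
  funext i
  simp only [kp, H21.F22.L_inv h hq, om2, Pi.neg_apply]; ring

variable (H : HJ4 D t c r x π k ε J)
include H

theorem kp_conj (hq : q ∈ D.QQ) (i : Fin 3) : q * c i * q⁻¹ = zp D.z (kp D c q i) * c i :=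
  H21.F22.conj1 h hq (H.cQ i)

theorem kp_zero (hq : q ∈ D.QQ) (e : kp D c q = 0) : q ∈ JJ D c :=
  mem_JJ.2 ⟨Bz (QB h hq), fun i => mem_Ce'.2 (by
    rw [kp_conj h H hq, e, Pi.zero_apply, zp_zero, one_mul])⟩

theorem tJJ : t ∈ JJ D c := J_JJ H (tJ h H)

theorem tfix (i : Fin 3) : (D.m i t).1 *ᵥ D.l i (c i) = D.l i (c i) :=
  H84.PS.fix_of_comm (co h i) (BN H.tB i) (H.cQ i) (H.tc i).symm

theorem kp_cube (hq : q ∈ D.QQ) (e : (q * t) ^ 3 = 1) :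
    kp D c q 0 * kp D c q 0 + kp D c q 1 * kp D c q 1 + kp D c q 2 * kp D c q 2 = 0 := by
  have hc := H21.F22.cjQ h (Bz H.tB) hq
  have hu := mul_mem hc (inv_mem hq)
  have key : ∀ i, om2 (L D (t * q * t⁻¹ * q⁻¹) i) (D.l i (c i)) = 0 ∧
      om2 (L D q i) (L D (t * q * t⁻¹ * q⁻¹) i) = -ε * (kp D c q i * kp D c q i) := fun i => by
    have C := co h i
    have tN := BN H.tB i
    have h1 : ε = om2 (D.l i (x i)) (D.l i (c i)) :=
      zp_inj h.ord (mul_right_cancel ((zp_comm (C.le_Ce (H.cQ i)) ε).symm.trans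
        ((H.xc i).symm.trans (C.conj_eq (H.xQ i) (H.cQ i)))))
    have h2 : x i = t * c i * t⁻¹ * zp D.z (-ε) * (t * x i * t⁻¹) := by
      rw [← zp_conj tN.1, conj_mul]
      calc _ = x i * t * (x i)⁻¹ * x i * t⁻¹ := by group
        _ = _ := by rw [H.xt, H.tc]; simp only [zp]; rw [← H.tc]; group
    have h3 := congrArg (D.l i) h2
    rw [C.l_mul _ (mul_mem (C.conj_mem tN (H.cQ i)) (C.zp_mem _)) _ (C.conj_mem tN (H.xQ i)),
      C.l_mul _ (C.conj_mem tN (H.cQ i)) _ (C.zp_mem _), C.l_zp, add_zero, C.act _ tN _ (H.cQ i),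
      C.act _ tN _ (H.xQ i), add_comm] at h3
    rw [H21.F22.L_mul h hc (inv_mem hq), H21.F22.L_inv h hq, Pi.add_apply, Pi.neg_apply,
      H21.F22.act h H.tB hq, h1]
    exact sl_k _ _ _ _ (tfix h H i) h3.symm
      (h1 ▸ by rcases H.eps with e | e <;> rw [e] <;> decide)
  have uJ := kp_zero h H hu (funext fun i => (key i).1)
  have zc := fun y (e : y ∈ D.QQ) n => zp_comm (Bz (QB h e)) n
  have h1 := zp_eq_one h.ord (nu_one (u := t * q * t⁻¹ * q⁻¹) (by group)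
    (by rw [H.Jab uJ t (tJJ h H), mul_inv_cancel_right]) (H21.F22.conjQ h hq hu)
    (zc _ hq _).symm (zc _ hu _).symm e H.t3 (cubeQ h hq) (cubeQ h hu)
    (cube_of_mem h.ord (zp_mem _)))
  rw [om, (key 0).2, (key 1).2, (key 2).2, ← mul_add, ← mul_add] at h1
  exact (mul_eq_zero.1 h1).resolve_left (by rcases H.eps with e | e <;> rw [e] <;> decide)

theorem L_cc1 (α : V3) (i : Fin 3) : L D (cc c α) i = α i • D.l i (c i) := by
  have := L_cc' h (τ := 1) (c := c) (α := α) (u := 1) H.cQ (one_mem _) i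
  rwa [one_mul] at this

theorem cardA : Nat.card ↥(JJ D c ⊓ D.QQ) ≤ 81 :=
  abQ h inf_le_right ((inf_le_left.trans H.Jab).trans (centralizer_anti inf_le_left))

theorem cardJJ (w : HV1 D) : Nat.card (JJ D c) ≤ 729 := by
  have h1 := idxQ h (T := JJ D c) (fun _ => JJB h H) H.J3 (fun u => u 0 + u 1 + u 2 = 0)
    fun g hg => w.sum g (JJB h H hg)
  rw [show Nat.card {u : V3 // u 0 + u 1 + u 2 = 0} = 9 by
    rw [Nat.card_eq_fintype_card]; decide +kernel] at h1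
  have h2 := cardA h H
  rw [card_split _ D.QQ]
  nlinarith

/-- uniqueness of `3⁶` in a `3`-subgroup of `C(z)` -/
theorem uniq6 (w : HV1 D) (hS : S ≤ Ce D.z) (S3 : IsPGroup 3 S) (tS : t ∈ S) (hT : T ≤ S)
    (ab : T ≤ cn T) (T3 : ∀ a ∈ T, a ^ 3 = 1) (cT : Nat.card T = 729) : T = JJ D c := by
  have ab' : T ⊓ D.QQ ≤ cn (T ⊓ D.QQ) := (inf_le_left.trans ab).trans (centralizer_anti inf_le_left)
  have c1 := abQ h inf_le_right ab'
  have c2 := card_split T D.QQ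
  have TB : T ≤ D.B := by
    by_contra n
    have c3 := r9 h (hT.trans hS) T3 (fun a ha b hb => by
      rw [ab hb a ha]; simp) n
    obtain ⟨v, hv, n⟩ := SetLike.not_le_iff_exists.1 n
    have c4 := cycQ h (hS (hT hv)) n (T3 v hv) (inf_le_right : T ⊓ D.QQ ≤ _)
      fun a ha => mem_Ce.2 (ab hv a ha.1)
    nlinarith
  obtain ⟨u, hu, e⟩ : ∃ u ∈ T, bt D u = 1 := by
    by_contra n
    push Not at n
    have c3 := idxQ h TB T3 (fun u => u 0 + u 1 + u 2 = 0 ∧ u ≠ 1)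
      fun g hg => ⟨w.sum g (TB hg), n g hg⟩
    rw [show Nat.card {u : V3 // u 0 + u 1 + u 2 = 0 ∧ u ≠ 1} = 8 by
      rw [Nat.card_eq_fintype_card]; decide +kernel] at c3
    nlinarith
  have m3' : ∀ s ∈ S, s ∈ D.B → ∀ i, D.m i s ^ 3 = 1 := fun s hs hB i => by
    obtain ⟨n, hn⟩ := isPGroup_iff_forall.1 S3 s hs
    exact sl3 (k := n) (by rw [← m_pow h hB, hn, (co h i).m_one])
  have uf : ∀ i, (D.m i u).1 *ᵥ D.l i (c i) = D.l i (c i) := fun i =>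
    sl_syl _ _ (H.tm i) (m3 h H.tB H.t3 i) (m3' u (hT hu) (TB hu) i)
      (by rw [← m_mul h (TB hu) H.tB]; exact m3' _ (mul_mem (hT hu) tS) (mul_mem (TB hu) H.tB) i)
      (by
        rw [← m_inv h H.tB, ← m_mul h (TB hu) (inv_mem H.tB)]
        exact m3' _ (mul_mem (hT hu) (inv_mem tS)) (mul_mem (TB hu) (inv_mem H.tB)) i)
      _ (tfix h H i)
  have le1 : T ⊓ D.QQ ≤ JJ D c ⊓ D.QQ := fun y hy => ⟨kp_zero h H hy.2 (funext fun i =>
    sl_par (D.m i u) (by rw [show chi (D.m i u) = bt D u i from rfl, e]; exact one_ne_zero) _ _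
      (H21.F22.fixL h (TB hu) hy.2 (mem_Ce.2 (ab hy.1 u hu)) i) (uf i)), hy.2⟩
  have c3 := idxQ h TB T3 (fun u => u 0 + u 1 + u 2 = 0) fun g hg => w.sum g (TB hg)
  rw [show Nat.card {u : V3 // u 0 + u 1 + u 2 = 0} = 9 by
    rw [Nat.card_eq_fintype_card]; decide +kernel] at c3
  have e1 := eq_of_le_of_card_ge le1 ((cardA h H).trans (by nlinarith))
  have le2 : T ≤ JJ D c := fun y hy => mem_JJ.2 ⟨hS (hT hy), fun i => mem_Ce.2
    (ab hy _ (e1.ge ⟨cJ h H.cQ i, Qle i (H.cQ i)⟩).1).symm⟩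
  exact eq_of_le_of_card_ge le2 (cT ▸ cardJJ h H w)

theorem J3g : IsPGroup 3 (JJ D c) := isPGroup_iff_forall.2 fun y hy => ⟨1, H.J3 y hy⟩

theorem syl : ∃ S, IsSyl 3 S ⊤ ∧ S ≤ Ce D.z ∧ JJ D c ≤ S := by
  have JC : JJ D c ≤ Ce D.z := fun _ e => (mem_JJ.1 e).1
  obtain ⟨S, hS, le⟩ := exists_isSyl_le (p := 3) (Q := JJ D c ⊔ D.QQ) (H := Ce D.z)
    ((J3g h H).to_sup_of_normal_right' (H21.F22.pQ h le_rfl) (JC.trans (HQ h)))
    (sup_le JC fun _ e => Bz (QB h e))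
  have nT : nr S ≤ Nz D.z := fun g hg => mem_Nz.2 (h.cen (centralizer_anti (le_sup_right.trans le)
    ((cj_eq_self hg ▸ (cj_centralizer g S).le (conj_mem_cj fun y k => mem_Ce.1 (hS.le k)) :
      _ ∈ cn S))))
  exact ⟨S, isSyl_of_isSyl_normalizer ⟨le_inf le_top le_normalizer, hS.isPGroup,
    fun U hU k1 k2 => hS.eq_of_le hU k1 fun x hx =>
      let ⟨_, e⟩ := isPGroup_iff_forall.1 hU x hx; H33.E6.Ce_of_three h.ord (nT (k2 hx).2) e⟩, hS.le,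
    le_sup_left.trans le⟩

end H

theorem ctl {J S : Subgroup G} (ab : J ≤ cn J) (J3 : ∀ a ∈ J, a ^ 3 = 1) (hS : IsSyl 3 S ⊤)
    (un : ∀ T ≤ S, T ≤ cn T → (∀ a ∈ T, a ^ 3 = 1) → Nat.card T = Nat.card J → T = J)
    (ha : a ∈ J) (hg : g * a * g⁻¹ ∈ J) : ∃ n ∈ nr J, n * a * n⁻¹ = g * a * g⁻¹ := by
  have p3 : ∀ s, IsPGroup 3 (cj s J) := fun s =>
    (isPGroup_iff_forall.2 fun y hy => ⟨1, J3 y hy⟩ : IsPGroup 3 J).map _
  have un' : ∀ s, cj s J ≤ S → cj s J = J := fun s e => un _ e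
    (by rw [show cn (cj s J) = cj s (cn J) from (cj_centralizer s J).symm]; exact cj_mono s ab)
    (fun y hy => by
      have := J3 _ (mem_cj.1 hy)
      rwa [show s⁻¹ * y * s = s⁻¹ * y * s⁻¹⁻¹ by rw [inv_inv], conj_pow, conj_eq_one_iff] at this)
    (card_cj s J)
  obtain ⟨P, hP, JP⟩ := exists_isSyl_le (p := 3) (cj_one J ▸ p3 1 : IsPGroup 3 J)
    (fun y hy => mem_Ce.2 (ab ha y hy) : J ≤ Ce a)
  obtain ⟨k, hk, e⟩ := hP.exists_cj_le (p3 g⁻¹) fun y hy => by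
    have := ab hg _ (mem_cj.1 hy)
    rw [mem_Ce]
    calc y * a = g⁻¹ * (g⁻¹⁻¹ * y * g⁻¹ * (g * a * g⁻¹)) * g := by group
      _ = _ := by rw [this]; group
  obtain ⟨s, -, e'⟩ := hS.exists_cj_le hP.isPGroup le_top
  have e1 := un' s ((cj_mono s JP).trans e')
  have e2 := un' (s * (k * g⁻¹)) (by rw [← cj_cj, ← cj_cj]; exact (cj_mono s e).trans e')
  have n1 : k * g⁻¹ ∈ nr J := by
    simpa using mul_mem (inv_mem (cj_eq_self_iff.1 e1)) (cj_eq_self_iff.1 e2)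
  refine ⟨_, inv_mem n1, ?_⟩
  calc _ = g * (k⁻¹ * a * k⁻¹⁻¹) * g⁻¹ := by group
    _ = _ := by rw [mem_Ce'.1 (inv_mem hk)]

section E

variable {E : Dat G} (e : E1 E)
include e

theorem ordQ (hy : y ∈ E.D.QQ) : ∃ g : G, g * y * g⁻¹ ∈ E.J := by
  obtain ⟨q, hq, rfl⟩ := (memQ e.h3).1 hy
  choose p hp hJ using fun i => N.mvJ e (hq i)
  have m : ∀ i, p i * q i * (p i)⁻¹ ∈ E.Q i := fun i =>
    (co e.h3 i).conj_mem (BN (N.RB e (hp i)) i) (hq i)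
  have cm : ∀ i j, j ≠ i → ∀ a ∈ E.Q j, p i * a * (p i)⁻¹ = a := fun i j n a ha => by
    rw [← N.Rc e (hp i) n a ha, mul_inv_cancel_right]
  refine ⟨p 0 * (p 1 * p 2), ?_⟩
  have s : ∀ g a b c : G, g * (a * b * c) * g⁻¹ = g * a * g⁻¹ * (g * b * g⁻¹) * (g * c * g⁻¹) :=
    fun g a b c => by group
  rw [show p 0 * (p 1 * p 2) * (q 0 * q 1 * q 2) * (p 0 * (p 1 * p 2))⁻¹ =
    p 0 * (p 1 * (p 2 * (q 0 * q 1 * q 2) * (p 2)⁻¹) * (p 1)⁻¹) * (p 0)⁻¹ by group,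
    s (p 2), cm 2 0 (by decide) _ (hq 0), cm 2 1 (by decide) _ (hq 1),
    s (p 1), cm 1 0 (by decide) _ (hq 0), cm 1 2 (by decide) _ (m 2),
    s (p 0), cm 0 1 (by decide) _ (m 1), cm 0 2 (by decide) _ (m 2)]
  exact mul_mem (mul_mem (hJ 0) (hJ 1)) (hJ 2)

theorem ordT (hq : q ∈ E.D.QQ) (q3 : (q * E.t) ^ 3 = 1) : ∃ g : G, g * (q * E.t) * g⁻¹ ∈ E.J := by
  have h := e.h3
  have H := e.hj
  by_cases k0 : kp E.D E.c q = 0
  · exact ⟨1, by simpa using mul_mem (AJ h H (kp_zero h H hq k0) hq) (tJ h H)⟩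
  set a := kp E.D E.c q with ha
  have a0 := allne a k0 (kp_cube h H hq q3)
  have cQ : cc E.c a ∈ E.D.QQ := cc_mem fun i => Qle i (H.cQ i)
  have cJ' : cc E.c a ∈ JJ E.D E.c := cc_mem (cJ h H.cQ)
  obtain ⟨g, s, s0, yQ, yJ, yL⟩ : ∃ (g : G) (s : ZMod 3), s ≠ 0 ∧ g * E.z * g⁻¹ ∈ E.D.QQ ∧
      g * E.z * g⁻¹ ∈ JJ E.D E.c ∧ ∀ i, L E.D (g * E.z * g⁻¹) i = (s * a i) • E.D.l i (E.c i) := by
    obtain ⟨g, e1 | e1⟩ := (jfr h H).zt a a0
    · exact ⟨g, 1, one_ne_zero, e1 ▸ cQ, e1 ▸ cJ', fun i => by rw [e1, L_cc1 h H, one_mul]⟩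
    · exact ⟨g, -1, by decide, e1 ▸ inv_mem cQ, e1 ▸ inv_mem cJ', fun i => by
        rw [e1, H21.F22.L_inv h cQ, Pi.neg_apply, L_cc1 h H, neg_one_mul, neg_smul]⟩
  have cne := fun i => H84.PS.lne (co h i) (H.cQ i) (H.cz i)
  have ycn : ∀ i, g * E.z * g⁻¹ ∉ cn (E.Q i) := fun i m =>
    smul_ne_zero (mul_ne_zero s0 (a0 i)) (cne i) ((yL i).symm.trans (H21.F22.L_cn h m))
  obtain ⟨c1, c2, w, hw, wQ⟩ := e.hv.pair g yQ fun m => ycn 0 (z_cn h m 0)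
  have h' := H3.dc h g
  rw [show H46.cj g E.D.QQ = (dc E.D g).QQ from dc_QQ.symm] at c1 c2 hw
  have wQ0 : cj w (E.Q 0) = E.Q 1 := wQ 0
  have com : ∀ a ∈ (dc E.D g).QQ, ∀ b ∈ (dc E.D g).QQ,
      a * b * a⁻¹ * b⁻¹ ∈ zpowers (g * E.z * g⁻¹) := fun a ha b hb => comQ h' ha hb
  have wB : w ∉ E.D.B := fun m => absurd (H21.F22.Q_inj h
    ((cj_eq_self (BN m 0).2).symm.trans wQ0)) (by decide)
  obtain ⟨d, hd, dB, dt⟩ : ∃ d ∈ (dc E.D g).QQ, d ∈ E.D.B ∧ bt E.D d = bt E.D E.t := by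
    by_contra n
    push Not at n
    have c3 := idxT h (T := (dc E.D g).QQ ⊓ Ce E.z) inf_le_right (fun a ha => cubeQ h' ha.1)
      (fun u => u = 0) fun d hd dB => by
        rcases diag _ _ (bt_diag h hw.2 (cubeQ h' hw.1) wB dB
          (zpowers_le.2 yQ (com w hw.1 d hd.1))) (bt_t h H) with e1 | e1 | e1
        · exact e1
        · exact absurd e1 (n d hd.1 dB)
        · exact absurd ((bt_inv h dB).trans e1) (n _ (inv_mem hd.1) (inv_mem dB))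
    rw [show Nat.card {u : V3 // u = 0} = 1 by simp] at c3
    have c4 := card_split ((dc E.D g).QQ ⊓ Ce E.z) E.D.QQ
    have c5 := card_le_of_le (show (dc E.D g).QQ ⊓ Ce E.z ⊓ E.D.QQ ≤ E.D.QQ ⊓ (dc E.D g).QQ from
      fun y hy => ⟨hy.2, hy.1.1⟩)
    nlinarith
  have fy : ∀ f ∈ (dc E.D g).QQ, f ∈ Ce (g * E.z * g⁻¹) := fun f hf => Bz (QB h' hf)
  have uQ : d * E.t⁻¹ ∈ E.D.QQ := h.ker _ (mul_mem dB (inv_mem H.tB)) fun i => by
    have f1 := H21.F22.fixL h dB yQ (fy d hd) i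
    rw [yL, Matrix.mulVec_smul] at f1
    rw [m_mul h dB (inv_mem H.tB), m_inv h H.tB, sl_eq _ _ (m3 h dB (cubeQ h' hd) i)
      (m3 h H.tB H.t3 i) (congrFun dt i) _ (cne i)
      (smul_right_injective _ (mul_ne_zero s0 (a0 i)) f1) (tfix h H i), mul_inv_cancel]
  obtain ⟨f, hf, f0⟩ : ∃ f ∈ E.D.QQ ⊓ (dc E.D g).QQ, kp E.D E.c f ≠ 0 := by
    by_contra n
    push Not at n
    have e1 := eq_of_le_of_card_ge (show E.D.QQ ⊓ (dc E.D g).QQ ≤ JJ E.D E.c ⊓ E.D.QQ from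
      fun f hf => ⟨kp_zero h H hf.1 (n f hf), hf.1⟩) (c1 ▸ cardA h H)
    have c0 := (e1.ge ⟨cJ h H.cQ 0, Qle 0 (H.cQ 0)⟩).2
    have m1 : w * E.c 0 * w⁻¹ ∈ E.Q 1 := wQ0 ▸ conj_mem_cj (H.cQ 0)
    by_cases e2 : w * E.c 0 * w⁻¹ * (E.c 0)⁻¹ = 1
    · rw [mul_inv_eq_one] at e2
      exact H.cz 0 (infQ h (by decide) (H.cQ 0) (e2 ▸ m1))
    · exact ycn 2 (H21.F22.of_ne_one h'.ord (com w hw.1 _ c0) e2
        (mul_mem (h.QQ 1 2 (by decide) m1) (inv_mem (h.QQ 0 2 (by decide) (H.cQ 0)))))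
  have cl : ∀ u ∈ E.D.QQ, u * E.t ∈ (dc E.D g).QQ →
      kp E.D E.c u = 0 ∨ kp E.D E.c u = a ∨ kp E.D E.c u = -a := fun u hu hu' => by
    refine cls a _ a0 (kp_cube h H hu (cubeQ h' hu')) ?_
    have t1 : E.t ∈ Ce (g * E.z * g⁻¹) := mem_Ce.2 (H.Jab yJ _ (tJJ h H))
    have u1 : u ∈ Ce (g * E.z * g⁻¹) := by simpa using mul_mem (fy _ hu') (inv_mem t1)
    have := (H21.F22.comm_iff h hu yQ).1 u1
    rw [om, yL, yL, yL] at this
    refine (mul_eq_zero.1 (Eq.trans ?_ this)).resolve_left s0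
    simp only [kp, om2, Pi.smul_apply, smul_eq_mul]; ring
  have fin : ∀ u ∈ E.D.QQ, u * E.t ∈ (dc E.D g).QQ → kp E.D E.c u = a →
      ∃ g : G, g * (q * E.t) * g⁻¹ ∈ E.J := fun u hu hu' ku => by
    have eQ := mul_mem hu (inv_mem hq)
    have eJ := kp_zero h H eQ (by rw [kp_mul h hu (inv_mem hq), kp_inv h hq, ku, add_neg_cancel])
    have yB := mul_mem (QB h hq) H.tB
    have my : ∀ i, E.D.m i (q * E.t) = E.D.m i E.t := fun i => by
      rw [m_mul h (QB h hq) H.tB, mQ h hq, one_mul]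
    obtain ⟨s, hs⟩ := isConj_iff.1 (fus h yB ((co h 0).le_Ce (H.cQ 0)) (s := a 0) (by
      rw [← kp_conj h H hq 0, mul_assoc q, H.tc]; group) (a0 0) eQ fun i => by
        rw [my]
        exact (H21.F22.sl_im _ (m3 h H.tB H.t3 i) (fun e => H.tm i (by rw [e, one_pow])) _
          (H21.F22.fixL h H.tB eQ (mem_Ce.2 (H.Jab eJ _ (tJJ h H))) i)).1)
    rw [show u * q⁻¹ * (q * E.t) = u * E.t by group] at hs
    obtain ⟨g', hg'⟩ := ordQ e (mem_cj.1 (dc_QQ.le hu'))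
    exact ⟨g' * g⁻¹ * s, by
      rw [← hs] at hg'
      simpa only [mul_assoc, mul_inv_rev, inv_inv] using hg'⟩
  have d0 : d * E.t⁻¹ * E.t ∈ (dc E.D g).QQ := by simpa using hd
  have d1 : f * (d * E.t⁻¹) * E.t ∈ (dc E.D g).QQ := by simpa [mul_assoc] using mul_mem hf.2 hd
  have d2 : f * f * (d * E.t⁻¹) * E.t ∈ (dc E.D g).QQ := by
    simpa [mul_assoc] using mul_mem hf.2 (mul_mem hf.2 hd)
  have k1 := kp_mul (c := E.c) h hf.1 uQ
  have k2 := kp_mul (c := E.c) h (mul_mem hf.1 hf.1) uQ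
  rw [kp_mul h hf.1 hf.1] at k2
  rcases pick a _ _ f0 (cl _ uQ d0) (k1 ▸ cl _ (mul_mem hf.1 uQ) d1)
    (k2 ▸ cl _ (mul_mem (mul_mem hf.1 hf.1) uQ) d2) with e1 | e1 | e1
  · exact fin _ uQ d0 e1
  · exact fin _ (mul_mem hf.1 uQ) d1 (k1.trans e1)
  · exact fin _ (mul_mem (mul_mem hf.1 hf.1) uQ) d2 (k2.trans e1)

theorem ordB (hy : y ∈ E.D.B) (y3 : y ^ 3 = 1) (b : bt E.D y = bt E.D E.t) :
    ∃ g : G, g * y * g⁻¹ ∈ E.J := by
  have h := e.h3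
  have H := e.hj
  choose A A4 hA using fun i => sl_cj _ _ (m3 h hy y3 i) (m3 h H.tB H.t3 i) (congrFun b i)
  obtain ⟨p, hp, e1⟩ := e.full A A4
  have pB := mul_mem (mul_mem hp.1 hy) (inv_mem hp.1)
  have uQ : p * y * p⁻¹ * E.t⁻¹ ∈ E.D.QQ := h.ker _ (mul_mem pB (inv_mem H.tB)) fun i => by
    rw [m_mul h pB (inv_mem H.tB), m_inv h H.tB, m_conj h hp.1 hy, e1, hA, mul_inv_cancel]
  obtain ⟨g, hg⟩ := ordT e uQ (by rw [inv_mul_cancel_right, conj_pow, y3]; simp)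
  exact ⟨g * p, by simpa only [mul_assoc, mul_inv_rev, inv_mul_cancel_left] using hg⟩

theorem ord (hy : y ∈ E.D.B) (y3 : y ^ 3 = 1) (b : ∀ i, bt E.D y i = bt E.D y 0) :
    ∃ g : G, g * y * g⁻¹ ∈ E.J := by
  rcases diag _ _ b (bt_t e.h3 e.hj) with e1 | e1 | e1
  · exact ordQ e (Q_bt e.h3 hy y3 e1)
  · exact ordB e hy y3 e1
  · obtain ⟨g, hg⟩ := ordB e (inv_mem hy) (by rw [inv_pow, y3, inv_one]) ((bt_inv e.h3 hy).trans e1)
    exact ⟨g, by simpa only [mul_inv_rev, inv_inv, mul_assoc] using inv_mem hg⟩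

theorem card6 (n : NJ1 E) (b : Big E) : Nat.card (Jb E) = 729 := by
  have c1 : Nat.card E.J = 243 := by
    have inj : Function.Injective E.φ := fun u v e1 => by
      have := n.add (u - v) v
      rw [sub_add_cancel, e1] at this
      exact sub_eq_zero.1 (n.inj _ (by simpa using this.symm))
    rw [← Nat.card_congr (Equiv.ofBijective (fun v => (⟨E.φ v, (n.memJ _).2 ⟨v, rfl⟩⟩ : E.J))
      ⟨fun u v e1 => inj (congrArg Subtype.val e1), fun g =>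
        let ⟨v, hv⟩ := (n.memJ _).1 g.2; ⟨v, Subtype.ext hv⟩⟩)]
    simp
  obtain ⟨x, hx, nx⟩ := b
  obtain ⟨k, hk⟩ := IsPGroup.iff_card.1 (J3g e.h3 e.hj)
  have c2 := cardJJ e.h3 e.hj e.hv
  have c3 : 243 < Nat.card (JJ E.D E.c) := by
    by_contra n
    exact nx ((eq_of_le_of_card_ge (J_JJ e.hj) (by omega)).ge hx)
  change Nat.card (JJ E.D E.c) = 729
  rw [hk] at c2 c3 ⊢
  have k1 : 5 < k := (Nat.pow_lt_pow_iff_right (by norm_num : 1 < 3)).1 c3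
  have k2 : k ≤ 6 := (Nat.pow_le_pow_iff_right (by norm_num : 1 < 3)).1 c2
  rw [show k = 6 by omega]; norm_num

end E

theorem jobC : H46.E6B.JobC.{u} := fun G _ _ E e n _ b => by
  obtain ⟨S, hS, SC, JS⟩ := syl e.h3 e.hj
  have c := card6 e n b
  have un := fun T (hT : T ≤ S) =>
    uniq6 e.h3 e.hj e.hv SC hS.isPGroup (JS (tJJ e.h3 e.hj)) hT
  exact ⟨c, ⟨S, hS, SC, JS, un⟩, fun a ha g hg => ctl e.hj.Jab e.hj.J3 hS
    (fun T hT ab T3 cT => un T hT ab T3 (cT.trans c)) ha hg, fun y hy y3 b => ord e hy y3 b⟩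

end H9.E6C
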