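import Cfsg.Agent.H9.E7A

/-! Tower E7MAX (row S5934), abstract layer: step DIST of `blueprints/E7MAX.md`. -/

set_option autoImplicit false
set_option linter.unusedSectionVars false

namespace H9.E7

open Subgroup Module

variable {G : Type*} [Group G] {V : Type*} [AddCommGroup V] [Module (ZMod 2) V]
  {ρ : G →* Module.End (ZMod 2) V} {z y : G} {Q M N Y Y' : Subgroup G} {v : V} {a b c g k : G}

theorem rho_inj (ρ : G →* Module.End (ZMod 2) V) (g : G) : Function.Injective (ρ g) :=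
  Function.LeftInverse.injective (g := ρ g⁻¹) fun u => by
    rw [← Module.End.mul_apply, ← map_mul, inv_mul_cancel, map_one]; rfl

theorem finrank_map (U : Submodule (ZMod 2) V) (g : G) :
    finrank (ZMod 2) (U.map (ρ g)) = finrank (ZMod 2) U :=
  (Submodule.equivMapOfInjective _ (rho_inj ρ g) U).finrank_eq.symm

theorem cj_le_iff : cj g Y ≤ M ↔ Y ≤ cj g⁻¹ M :=
  ⟨fun h a ha => mem_cj.2 (by simpa using h ⟨a, ha, rfl⟩), fun h a ha => by
    simpa [mul_assoc] using mem_cj.1 (h (mem_cj.1 ha))⟩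

theorem cj_ne_top (hM : M ≠ ⊤) (g : G) : cj g M ≠ ⊤ := fun e => hM (top_unique fun a _ => by
  simpa [mul_assoc] using mem_cj.1 (e ▸ mem_top (g * a * g⁻¹) : g * a * g⁻¹ ∈ cj g M))

theorem card_cj (g : G) (A : Subgroup G) : Nat.card (cj g A) = Nat.card A :=
  (Nat.card_congr (A.equivMapOfInjective _ (MulAut.conj g).injective).toEquiv).symm

theorem ncard_cj (g : G) (A : Subgroup G) :
    {a | a ∈ cj g A ∧ IsConj z a}.ncard = {a | a ∈ A ∧ IsConj z a}.ncard := by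
  rw [← Set.ncard_image_of_injective {a | a ∈ A ∧ IsConj z a} (MulAut.conj g).injective]
  congr 1
  ext a
  constructor
  · rintro ⟨⟨b, hb, rfl⟩, h⟩
    exact ⟨b, ⟨hb, h.trans (isConj_iff.2 ⟨g, rfl⟩).symm⟩, rfl⟩
  · rintro ⟨b, ⟨hb, h⟩, rfl⟩
    exact ⟨⟨b, hb, rfl⟩, isC g h⟩

theorem Inv.cj {U : Submodule (ZMod 2) V} (h : Inv ρ (cj g Y) U) : Inv ρ Y (U.map (ρ g⁻¹)) := by
  rintro a ha _ ⟨u, hu, rfl⟩
  refine ⟨_, h _ ⟨a, ha, rfl⟩ u hu, ?_⟩
  simp only [← Module.End.mul_apply, ← map_mul]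
  congr 2; simp [mul_assoc]

theorem Inv.mono {U : Submodule (ZMod 2) V} (h : Inv ρ M U) (hY : Y ≤ M) : Inv ρ Y U :=
  fun a ha => h a (hY ha)

namespace Geo

variable (h : Geo ρ z y Q v) (s : Se z y Q Y M)
include h s

/-- DIST, first step: the two root elements are conjugate in `M`. -/
theorem dist [FiniteDimensional (ZMod 2) V] (hz : z ∈ Y') (hg : cj g Y' ≤ M)
    (hsf : finrank (ZMod 2) (Fix ρ (cls Y z)) < finrank (ZMod 2) (Orb ρ v Y')) :
    ∃ k, Commute k z ∧ cj k Y' ≤ M := by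
  by_cases hb : g * z * g⁻¹ ∈ cls M z
  · obtain ⟨m, hm, e⟩ := hb
    refine ⟨m⁻¹ * g, ?_, fun a ha => ?_⟩
    · change m⁻¹ * g * z = z * (m⁻¹ * g)
      calc m⁻¹ * g * z = m⁻¹ * (g * z * g⁻¹) * g := by group
        _ = _ := by rw [e]; group
    · have := mul_mem (mul_mem (inv_mem hm) (hg ⟨_, mem_cj.1 ha, rfl⟩)) hm
      convert this using 1
      simp [mul_assoc]
  refine (hsf.not_ge ?_).elim
  rw [← finrank_map (ρ := ρ) _ g]
  refine Submodule.finrank_mono (Submodule.map_le_iff_le_comap.2 (Submodule.span_le.2 ?_))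
  rintro _ ⟨u, hu, rfl⟩
  refine mem_Fix.2 fun a ha => ?_
  have um : g * u * g⁻¹ ∈ M := hg ⟨u, hu, rfl⟩
  have e : g * u * z * (g * u)⁻¹ = g * u * g⁻¹ * (g * z * g⁻¹) * (g * u * g⁻¹)⁻¹ := by group
  rw [← Module.End.mul_apply (ρ g), ← map_mul]
  refine h.e_fix (h.a1 s (cls_mono s.le ha) (isC _ (IsConj.refl z)) ?_ fun h1 => hb ?_)
  · rw [e]; exact mul_mem (mul_mem um (hg ⟨z, hz, rfl⟩)) (inv_mem um)
  · have := cls_conj h1 (inv_mem um)
    convert this using 1; group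

/-- DIST, second step: the intersections with `Q` are conjugate. -/
theorem same (t : Ty z y Q Y') (hM : M ≠ ⊤) (hk : Commute k z) (hg : cj k Y' ≤ M) :
    cj k (Y' ⊓ Q) = Y ⊓ Q := by
  rw [← s.inf, ← (t.se (cj_le_iff.1 hg) (cj_ne_top hM _)).inf]
  ext a
  rw [mem_cj, mem_inf, mem_inf, mem_cj]
  refine and_congr (by simp [mul_assoc]) ⟨fun h1 => ?_, fun h1 => ?_⟩
  · simpa [mul_assoc] using h.nq k hk _ h1
  · simpa using h.nq k⁻¹ hk.inv_left _ h1

/-- DIST, third step: the component. -/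
theorem comp (r : Rt z (Y ⊓ Q)) (t : Ty z y Q Y') (hk : Commute k z) (hg : cj k Y' ≤ M)
    (ha : a ∈ cls Y' z) : k * a * k⁻¹ ∈ cls Y z := by
  let R : G → G → Prop := fun a b => a ∈ M ∧ b ∈ M ∧ IsConj z a ∧ IsConj z b ∧ ¬ Commute a b
  have h1 : ∀ a b, Relation.EqvGen R a b → (a ∈ cls Y z ↔ b ∈ cls Y z) := fun a b hab => by
    induction hab with
    | rel a b h2 => exact ⟨fun h3 => by_contra fun h4 => h2.2.2.2.2 (h.a3 s r h3 h2.2.2.2.1 h2.2.1 h4),
        fun h3 => by_contra fun h4 => h2.2.2.2.2 (h.a3 s r h3 h2.2.2.1 h2.1 h4).symm⟩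
    | refl => rfl
    | symm _ _ _ ih => exact ih.symm
    | trans _ _ _ _ _ ih ih' => exact ih.trans ih'
  have h2 : ∀ m ∈ M, ∀ a b, Relation.EqvGen R a b →
      Relation.EqvGen R (m * a * m⁻¹) (m * b * m⁻¹) := fun m hm a b hab => by
    induction hab with
    | rel a b h2 => exact .rel _ _ ⟨mul_mem (mul_mem hm h2.1) (inv_mem hm),
        mul_mem (mul_mem hm h2.2.1) (inv_mem hm), isC m h2.2.2.1, isC m h2.2.2.2.1,
        fun h3 => h2.2.2.2.2 (by simpa [mul_assoc] using h3.conj m⁻¹)⟩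
    | refl => exact .refl _
    | symm _ _ _ ih => exact ih.symm
    | trans _ _ _ _ _ ih ih' => exact ih.trans _ _ _ ih'
  let N : Subgroup G :=
    { carrier := {m | m ∈ M ∧ Relation.EqvGen R z (m * z * m⁻¹)}
      one_mem' := ⟨one_mem _, by simpa using .refl _⟩
      mul_mem' := fun {a b} ha hb => ⟨mul_mem ha.1 hb.1, ha.2.trans _ _ _ (by
        have := h2 a ha.1 _ _ hb.2
        convert this using 1; group)⟩
      inv_mem' := fun {a} ha => ⟨inv_mem ha.1, by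
        have := (h2 a⁻¹ (inv_mem ha.1) _ _ ha.2).symm
        convert this using 1; group⟩ }
  obtain ⟨S, hS, hs⟩ := t.gen
  have h3 : Y' ≤ N.comap (MulAut.conj k).toMonoidHom := hS.trans ((closure_le _).2 fun u hu => by
    have um : k * u * k⁻¹ ∈ M := hg ⟨u, (hs u hu).1, rfl⟩
    refine ⟨um, ?_⟩
    change Relation.EqvGen R z (k * u * k⁻¹ * z * (k * u * k⁻¹)⁻¹)
    by_cases hc : Commute (k * u * k⁻¹) z
    · rw [hc.eq, mul_inv_cancel_right]; exact .refl _
    have h4 : Relation.EqvGen R z (k * u * k⁻¹) := .rel _ _ ⟨s.top.hz, um, IsConj.refl z,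
      isC k ((hs u hu).2.resolve_left fun h5 => hc ((hk.mul_left h5).mul_left hk.inv_left)),
      fun h5 => hc h5.symm⟩
    refine h4.trans _ _ _ (.symm _ _ ?_)
    have := h2 _ um _ _ h4
    rwa [mul_inv_cancel_right] at this)
  obtain ⟨u, hu, rfl⟩ := ha
  have h4 := (h1 _ _ (h3 hu).2).1 cls_self
  convert h4 using 1
  change _ = k * u * k⁻¹ * z * (k * u * k⁻¹)⁻¹
  rw [mul_assoc (k * u) k⁻¹ z, hk.inv_left.eq]; group

end Geo

end H9.E7
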