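import Cfsg.Agent.H16.HN3K
import Cfsg.Agent.H3.HnK
import Cfsg.Agent.H12.Basic
import Cfsg.Agent.H9.PBasic
import Mathlib.GroupTheory.SpecificGroups.Alternating.Simple
import Mathlib.GroupTheory.FixedPointFree

/-! `HN3L.md` §16, first part: the subgroup `A₈` of `A₁₂` and the abstract data on `C(t)`. -/

set_option autoImplicit false
open Cfsg Subgroup H98 H42.L3 Equiv H16.HN3
open scoped commutatorElement

namespace H9.HN3K

attribute [local instance high] List.decidableBAll List.decidableBEx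

/-- `H ∪ H x` -/
theorem ext2 {X : Type*} [Group X] {H : Subgroup X} {x : X} (hn : ∀ g ∈ H, x⁻¹ * g * x ∈ H)
    (h2 : x * x ∈ H) : ∃ L : Subgroup X, (∀ g, g ∈ L ↔ g ∈ H ∨ g * x ∈ H) ∧
      (x ∉ H → Nat.card L = Nat.card H * 2) := by
  have hn' : ∀ g ∈ H, x * g * x⁻¹ ∈ H := fun g hg => by
    have := hn _ (mul_mem (mul_mem h2 hg) (inv_mem h2))
    convert this using 1; group
  let L : Subgroup X :=
    { carrier := {g | g ∈ H ∨ g * x ∈ H}
      one_mem' := Or.inl (one_mem _)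
      mul_mem' := by
        rintro a b (ha | ha) (hb | hb)
        · exact Or.inl (mul_mem ha hb)
        · exact Or.inr (by rw [mul_assoc]; exact mul_mem ha hb)
        · exact Or.inr (by convert mul_mem ha (hn _ hb) using 1; group)
        · exact Or.inl (by convert mul_mem (mul_mem ha (hn _ hb)) (inv_mem h2) using 1; group)
      inv_mem' := by
        rintro a (ha | ha)
        · exact Or.inl (inv_mem ha)
        · exact Or.inr (by convert mul_mem (hn' _ (inv_mem ha)) h2 using 1; group) }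
  refine ⟨L, fun _ => Iff.rfl, fun hx => ?_⟩
  have hle : H ≤ L := fun g hg => Or.inl hg
  rw [← H12.card_mul_relIndex hle, relIndex_eq_two_iff_exists_notMem_and.2
    ⟨x, Or.inr h2, hx, fun b hb => Or.symm hb⟩]

def S8 : Finset (Fin 12) := Finset.univ.filter fun i => ¬ i.val < 4

/-- the elements fixing `0, 1, 2, 3` -/
def B8 : Subgroup A := (alternatingGroup.ofSubtype S8).range

theorem mem_B8 {a : A} : a ∈ B8 ↔ ∀ x : Fin 12, x.val < 4 → a.1 x = x := by
  rw [B8, alternatingGroup.mem_range_ofSubtype_iff]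
  refine ⟨fun h x hx => by_contra fun e => ?_, fun h x hx => ?_⟩
  · have := h (Perm.mem_support.2 e)
    simp [S8] at this
    omega
  · simp only [S8, Finset.mem_filter, Finset.mem_univ, true_and]
    exact fun e => Perm.mem_support.1 hx (h x e)

theorem card_S8 : Nat.card S8 = 8 := by
  rw [Nat.card_eq_finsetCard]; decide

noncomputable def eqv8 : alternatingGroup S8 ≃* B8 :=
  MonoidHom.ofInjective alternatingGroup.ofSubtype_injective

theorem simple_B8 : IsSimpleGroup B8 :=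
  have := alternatingGroup.isSimpleGroup (α := S8) (by rw [card_S8]; decide)
  eqv8.symm.isSimpleGroup

theorem card_B8 : Nat.card B8 = 20160 := by
  have : Nontrivial S8 := Finite.one_lt_card_iff_nontrivial.1 (by rw [card_S8]; decide)
  rw [← Nat.card_congr eqv8.toEquiv, nat_card_alternatingGroup, card_S8]
  decide

theorem comm_B8 {a w : A} (ha : a ∈ B8) (hw : ∀ i : Fin 12, ¬ i.val < 4 → w.1 i = i) :
    a * w = w * a := Subtype.ext (H16.HNH.comm_of_fix (mem_B8.1 ha) hw)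

abbrev C : Subgroup A := H56.L3.Ce t

def el (a : A) (h : a * t = t * a := by decide +kernel) : C := ⟨a, mem_Ce.2 h⟩

theorem B8_le : B8 ≤ C := fun _ ha => mem_Ce.2 (comm_B8 ha (by decide +kernel))

def b8 (a : A) (h : ∀ x : Fin 12, x.val < 4 → a.1 x = x := by decide +kernel) : B8 :=
  ⟨a, mem_B8.2 h⟩

def r0 : A := mk (swap 0 1 * swap 4 5)

theorem r0_conj {a : A} (ha : a ∈ B8) : r0⁻¹ * a * r0 ∈ B8 := mem_B8.2 fun x hx => by
  have h : ∀ x : Fin 12, x.val < 4 → (r0.1 x).val < 4 := by decide +kernel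
  show r0.1⁻¹ (a.1 (r0.1 x)) = x
  rw [mem_B8.1 ha _ (h x hx)]
  simp

theorem r0_ne {a : A} (ha : a ∈ B8) : ∀ w ∈ lV, r0 * w ≠ a := fun w hw e => by
  have h := mem_B8.1 (e ▸ ha)
  clear e
  revert w
  decide +kernel

theorem t_not : t ∉ B8 := fun h => absurd (mem_B8.1 h) (by decide +kernel)

theorem sq_mem {a : A} (h1 : Commute a t) (h2 : Commute a c) : a * a ∈ B8 := by
  obtain ⟨w, hw, h⟩ := H3.Hn.fixV h1 h2
  have hb := mem_B8.2 h
  have k : Commute a w ∧ w * w = 1 := by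
    simp only [lV, List.mem_cons, List.not_mem_nil, or_false] at hw
    rcases hw with rfl | rfl | rfl | rfl
    exacts [⟨Commute.one_right _, one_mul _⟩, ⟨h1, by decide +kernel⟩, ⟨h2, by decide +kernel⟩,
      ⟨h1.mul_right h2, by decide +kernel⟩]
  have : w * a * (w * a) = a * a := by
    rw [mul_assoc, ← mul_assoc a, k.1.eq, ← mul_assoc, ← mul_assoc, k.2, one_mul]
  exact this ▸ mul_mem hb hb

open H32.HS (U ei gq gr u2 ea ez)

/-- the image of `A₈` -/
def jb {K X : Type*} [Group K] [Group X] (π : K →* X) (ρ : C →* K) : B8 →* X :=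
  π.comp (ρ.comp (inclusion B8_le))

/-- The data on `K = C(t)` and `X = K / ⟨t⟩`. -/
structure Dt {K X : Type*} [Group K] [Group X] (π : K →* X) (ρ : C →* K) (φ : U →* X) (κ : X) :
    Prop extends Sy φ κ where
  sur : Function.Surjective π
  ker : ∀ g, π g = 1 ↔ g = 1 ∨ g = ρ (el t)
  rinj : Function.Injective ρ
  cen : ∀ g, Commute g (ρ (el t))
  b2 : ∀ g, Commute g (ρ (el c)) → g ∈ ρ.range
  span : ∀ g, Commute g (ρ (el s)) → Commute g (ρ (el x1)) → Commute g (ρ (el x2)) →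
    ∃ u ∈ H32.HS.A, π g = φ u ∨ π g = φ u * κ
  syl : IsSyl 2 (φ.range ⊔ zpowers κ) ⊤
  nf : ∀ g : X, g * κ * g⁻¹ ∉ H32.HS.V.map φ
  hk : κ = π (ρ (el c))
  gz : φ ez = π (ρ (el s))
  gy : φ u2 = π (ρ (el c'))
  ga : φ ea = π (ρ (el r'))
  per : ∀ a ∈ [ei, gq, gr], ∃ u, φ a = ⁅π (ρ (el th)), φ u⁆
  nV : ∀ g ∈ nr (H32.HS.V.map φ), ∃ u b, g = φ u * jb π ρ b ∨ g = φ u * κ * jb π ρ b
  fus : ∃ g : X, g * κ * g⁻¹ = π (ρ (el r0))

namespace Dt

variable {K X : Type*} [Group K] [Group X] {π : K →* X} {ρ : C →* K} {φ : U →* X} {κ : X}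
  (h : Dt π ρ φ κ)
include h

theorem tt : ρ (el t) * ρ (el t) = 1 := by
  rw [← map_mul, ← map_one ρ]
  exact congrArg ρ (Subtype.ext (by decide +kernel))

theorem t1 : ρ (el t) ≠ 1 := by
  rw [← map_one ρ]
  exact h.rinj.ne fun e => absurd (congrArg Subtype.val e) (by decide +kernel)

theorem eq1 {a : C} (e : π (ρ a) = 1) : a.1 = 1 ∨ a.1 = t := by
  rcases (h.ker _).1 e with e | e
  · exact Or.inl (congrArg Subtype.val (h.rinj (e.trans (map_one ρ).symm)))
  · exact Or.inr (congrArg Subtype.val (h.rinj e))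

theorem eq2 {a b : C} (e : π (ρ a) = π (ρ b)) : a.1 = b.1 ∨ a.1 = b.1 * t := by
  have := h.eq1 (a := b⁻¹ * a) (by rw [map_mul, map_mul, map_inv, map_inv, e, inv_mul_cancel])
  simpa only [Subgroup.coe_mul, Subgroup.coe_inv, inv_mul_eq_iff_eq_mul, mul_one] using this

theorem eq3 {a b : C} (e : a.1 = b.1 ∨ a.1 = b.1 * t) : π (ρ a) = π (ρ b) := by
  rcases e with e | e
  · rw [Subtype.ext e]
  · rw [show a = b * el t from Subtype.ext e, map_mul, map_mul, (h.ker _).2 (Or.inr rfl), mul_one]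

theorem jinj : Function.Injective (jb π ρ) := (injective_iff_map_eq_one _).2 fun a e => by
  rcases h.eq1 (a := inclusion B8_le a) e with e | e
  · exact Subtype.ext e
  · exact absurd (e ▸ a.2) t_not

theorem jk (a : B8) : Commute (jb π ρ a) κ := by
  rw [h.hk]
  exact ((show Commute (inclusion B8_le a) (el c) from
    Subtype.ext (comm_B8 a.2 (by decide +kernel))).map ρ).map π

theorem kinv : κ⁻¹ = κ := inv_eq_of_mul_eq_one_right h.kk

/-- a subgroup normalised by `Ā₈` -/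
theorem j_le {N : Subgroup X} (hn : ∀ a, ∀ x ∈ N, jb π ρ a * x * (jb π ρ a)⁻¹ ∈ N) {b : B8}
    (h1 : b ≠ 1) (hb : jb π ρ b ∈ N) (a : B8) : jb π ρ a ∈ N := by
  have := simple_B8
  have k : (N.comap (jb π ρ)).Normal := ⟨fun x hx g => by
    simpa only [mem_comap, map_mul, map_inv] using hn g _ hx⟩
  rcases k.eq_bot_or_eq_top with e | e
  · exact absurd (mem_bot.1 (e ▸ hb : b ∈ ⊥)) h1
  · exact (e.ge (mem_top a) :)

theorem card_k [Finite X] : 256 ∣ Nat.card (H56.L3.Ce κ) := by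
  obtain ⟨L1, m1, c1⟩ := ext2 (H := (jb π ρ).range) (x := κ) (by
    rintro _ ⟨a, rfl⟩
    rw [mul_assoc, (h.jk a).eq, inv_mul_cancel_left]
    exact ⟨a, rfl⟩) (h.kk ▸ one_mem _)
  have rk : Commute (π (ρ (el r0))) κ := by
    rw [h.hk, Commute, SemiconjBy, ← map_mul, ← map_mul, ← map_mul, ← map_mul]
    exact h.eq3 (Or.inr (by decide +kernel))
  have cj : ∀ g ∈ (jb π ρ).range, (π (ρ (el r0)))⁻¹ * g * π (ρ (el r0)) ∈ (jb π ρ).range := by
    rintro _ ⟨a, rfl⟩
    refine ⟨⟨_, r0_conj a.2⟩, ?_⟩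
    simp only [jb, MonoidHom.comp_apply, ← map_inv, ← map_mul]
    rfl
  obtain ⟨L2, m2, c2⟩ := ext2 (H := L1) (x := π (ρ (el r0))) (fun g hg => (m1 _).2 (by
    rcases (m1 _).1 hg with e | e
    · exact Or.inl (cj _ e)
    · refine Or.inr ?_
      have := cj _ e
      rwa [mul_assoc, mul_assoc, ← rk.eq, ← mul_assoc, ← mul_assoc] at this)) (by
    rw [← map_mul, ← map_mul, show el r0 * el r0 = 1 from Subtype.ext (by decide +kernel), map_one,
      map_one]
    exact one_mem _)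
  have l1 : L1 ≤ H56.L3.Ce κ := fun g hg => mem_Ce.2 (by
    rcases (m1 _).1 hg with ⟨a, rfl⟩ | ⟨a, e⟩
    · exact (h.jk a).eq
    · have := (e ▸ h.jk a).mul_left (Commute.refl κ).inv_left
      rw [mul_inv_cancel_right] at this
      exact this.eq)
  have l2 : L2 ≤ H56.L3.Ce κ := fun g hg => by
    rcases (m2 _).1 hg with e | e
    · exact l1 e
    · simpa using mul_mem (l1 e) (inv_mem (mem_Ce.2 rk.eq))
  refine Dvd.dvd.trans ?_ (card_dvd_of_le l2)
  rw [c2, c1, ← Nat.card_congr (MonoidHom.ofInjective h.jinj).toEquiv, card_B8]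
  · decide
  · rintro ⟨a, e⟩
    rw [h.hk] at e
    have k : ∀ w ∈ [c, c * t], ¬ ∀ x : Fin 12, x.val < 4 → w.1 x = x := by decide +kernel
    rcases h.eq2 e with e | e
    · exact k c (by simp) (mem_B8.1 ((show a.1 = c from e) ▸ a.2))
    · exact k (c * t) (by simp) (mem_B8.1 ((show a.1 = c * t from e) ▸ a.2))
  · intro e
    rcases (m1 _).1 e with ⟨a, e⟩ | ⟨a, e⟩
    · rcases h.eq2 e with e | e
      · exact r0_ne a.2 1 (by simp [lV]) ((mul_one _).trans e.symm)
      · exact r0_ne a.2 t (by simp [lV]) e.symm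
    · rw [h.hk, ← map_mul, ← map_mul] at e
      rcases h.eq2 e with e | e
      · exact r0_ne a.2 c (by simp [lV]) e.symm
      · exact r0_ne a.2 (t * c) (by simp [lV]) (Eq.trans (by decide +kernel) e.symm)

theorem kphi (u : U) : κ⁻¹ * φ u * κ ∈ φ.range := by
  rw [← inv_inv κ, inv_inv κ⁻¹, h.kinv]
  induction u using H32.HS.induction with
  | h1 => simp
  | hm g hg u ih =>
    have : κ * φ g * κ⁻¹ ∈ φ.range := by
      rcases List.mem_append.1 (show g ∈ [ei, gq, gr] ++ [u2, ea] from hg) with e | e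
      · rw [h.kA g e]; exact inv_mem ⟨g, rfl⟩
      · rw [(h.kD g e).eq, mul_inv_cancel_right]; exact ⟨g, rfl⟩
    convert mul_mem this ih using 1
    rw [map_mul]; group

theorem memT {g : X} (hg : g ∈ φ.range ⊔ zpowers κ) : g ∈ φ.range ∨ g * κ ∈ φ.range := by
  obtain ⟨L, m, -⟩ := ext2 (H := φ.range) (x := κ) (by rintro _ ⟨u, rfl⟩; exact h.kphi u)
    (h.kk ▸ one_mem _)
  exact (m g).1 (sup_le (fun x hx => (m x).2 (Or.inl hx))
    (zpowers_le.2 ((m κ).2 (Or.inr (h.kk ▸ one_mem _)))) hg)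

/-- elements of odd order lift to elements of odd order -/
theorem lift {x : X} {m : ℕ} (hm : Odd m) (hx : x ^ m = 1) :
    ∃ y, π y = x ∧ y ^ m = 1 ∧ ∀ g, Commute x (π g) → Commute y g := by
  obtain ⟨y, rfl⟩ := h.sur x
  obtain ⟨k, rfl⟩ := hm
  have h1 : (y ^ (2 * k + 1 + 1)) ^ (2 * k + 1) = 1 := by
    rw [← pow_mul, mul_comm, pow_mul, show 2 * k + 1 + 1 = 2 * (k + 1) by ring, pow_mul]
    rcases (h.ker _).1 ((map_pow π y _).trans hx) with e | e <;> rw [e]
    · simp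
    · rw [pow_two, h.tt, one_pow]
  have h2 : π (y ^ (2 * k + 1 + 1)) = π y := by rw [map_pow, pow_succ, hx, one_mul]
  refine ⟨_, h2, h1, fun g hg => ?_⟩
  rw [← h2] at hg
  generalize y ^ (2 * k + 1 + 1) = v at h1 hg
  rcases (h.ker (g * v * g⁻¹ * v⁻¹)).1 (by
    rw [map_mul, map_mul, map_mul, map_inv, map_inv, ← hg.eq]; group) with e | e
  · exact (commutatorElement_eq_one_iff_commute.1 e).symm
  · rw [mul_inv_eq_iff_eq_mul] at e
    have := congrArg (· ^ (2 * k + 1)) e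
    simp only [conj_pow, (h.cen v).symm.mul_pow, h1] at this
    rw [pow_succ, pow_mul, pow_two, h.tt] at this
    exact absurd (by simpa using this.symm) h.t1

/-- there is no normal subgroup of odd order -/
theorem odd_bot [Finite X] {O : Subgroup X} [hO : O.Normal] {m : ℕ} (hm : Odd m)
    (ho : ∀ x ∈ O, x ^ m = 1) : O = ⊥ := by
  have two : ∀ {x : X} {k : ℕ}, x ∈ O → x ^ 2 ^ k = 1 → x = 1 := fun hx e =>
    (pow_eq_one_iff_of_coprime (Nat.Coprime.pow_right _ (Nat.coprime_two_right.2 hm))).1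
      ⟨ho _ hx, e⟩
  have s1 : b8 s ≠ 1 := fun e => absurd (congrArg Subtype.val e) (by decide +kernel)
  have f : MonoidHom.FixedPointFree (MulAut.conjNormal κ : MulAut O) := fun x e => by
    obtain ⟨y, e1, e2, e3⟩ := h.lift hm (ho _ x.2)
    have k : Commute x.1 κ := (mul_inv_eq_iff_eq_mul.1 (congrArg Subtype.val e)).symm
    obtain ⟨a, rfl⟩ := h.b2 y (e3 _ (h.hk ▸ k))
    have a1 : Commute a (el c) := h.rinj (by
      rw [map_mul, map_mul]; exact (e3 _ (h.hk ▸ k)).eq)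
    have a2 : a.1 ∈ B8 := by
      obtain ⟨k, rfl⟩ := hm
      have a3 : a ^ (2 * k + 1) = 1 := h.rinj (by rw [map_pow, e2, map_one])
      have := pow_mem (sq_mem (mem_Ce.1 a.2) (congrArg Subtype.val a1.eq)) (k + 1)
      rwa [← pow_two, ← pow_mul, show 2 * (k + 1) = 2 * k + 1 + 1 by ring, pow_succ,
        show a.1 ^ (2 * k + 1) = 1 from congrArg Subtype.val a3, one_mul] at this
    have a4 : jb π ρ ⟨a.1, a2⟩ = x := e1
    by_contra n
    refine s1 (h.jinj ((two (k := 1) (h.j_le (fun a x hx => hO.conj_mem x hx _) (b := ⟨a.1, a2⟩)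
      (fun z => n (Subtype.ext (by rw [← a4, z, map_one]; rfl))) (a4 ▸ x.2) _) ?_).trans
      (map_one _).symm))
    rw [← map_pow, show b8 s ^ 2 ^ 1 = 1 from Subtype.ext (by decide +kernel), map_one]
  have i : ∀ x ∈ O, κ * x * κ⁻¹ = x⁻¹ := fun x hx => congrArg Subtype.val (congrFun
    (f.coe_eq_inv_of_involutive fun y => Subtype.ext (by
      show κ * (κ * y * κ⁻¹) * κ⁻¹ = y
      rw [← mul_assoc, ← mul_assoc, h.kk, mul_assoc, h.kinv, h.kk, one_mul, mul_one])) ⟨x, hx⟩)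
  have cs : jb π ρ (b8 s) ∈ cn O := fun x hx => by
    have e : jb π ρ (b8 s) = φ ei * κ * (φ ei)⁻¹ * κ⁻¹ := by
      rw [mul_assoc, mul_assoc, ← mul_assoc κ, ← conj_inv, h.kA _ (by simp), inv_inv, ← map_mul]
      exact h.gz.symm.trans (congrArg φ (by decide +kernel))
    have a1 := i _ (hO.conj_mem' _ (inv_mem hx) (φ ei))
    have a2 := i _ hx
    rw [e, eq_comm, ← mul_inv_eq_iff_eq_mul]
    calc _ = φ ei * (κ * ((φ ei)⁻¹ * (κ⁻¹ * x * κ⁻¹⁻¹) * φ ei) * κ⁻¹) * (φ ei)⁻¹ := by group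
      _ = x := by rw [show κ⁻¹ * x * κ⁻¹⁻¹ = x⁻¹ by rw [h.kinv, a2], a1]; group
  have ca := h.j_le (N := cn O) (fun a x hx => (normal_centralizer (H := O)).conj_mem x hx _) s1 cs
  refine eq_bot_iff.2 fun x hx => mem_bot.2 ?_
  obtain ⟨y, rfl, -, e3⟩ := h.lift hm (ho _ hx)
  obtain ⟨u, -, e⟩ := h.span y (e3 _ (ca (b8 s) _ hx)) (e3 _ (ca (b8 x1) _ hx))
    (e3 _ (ca (b8 x2) _ hx))
  obtain ⟨k, hk⟩ := isPGroup_iff_forall.1 h.syl.isPGroup (π y) (by
    rcases e with e | e <;> rw [e]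
    · exact mem_sup_left ⟨u, rfl⟩
    · exact mul_mem_sup ⟨u, rfl⟩ (mem_zpowers _))
  exact two hx hk

end Dt

end H9.HN3K
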