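import Cfsg.Agent.H54.O8Kit2

/-! Job O8-F: the normal form is a homomorphism. -/

set_option autoImplicit false
set_option linter.unusedSectionVars false
set_option linter.unusedSimpArgs false

namespace H9.O8

open H12.BN H59.BN H63.Oc H54.Par H54.O8 Subgroup

variable {G : Type} [Group G] [Finite G] {x : MP 8 G} {K : Type} [Field K] [Finite K] [CharP K 2]
  {T : TF K}

variable (T) in
/-- `ℤ[√2]` acts on the units -/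
def pw (a : Kˣ) (z : ℤ√2) : Kˣ := a ^ z.re * Units.map (T.σ : K →* K) a ^ z.im

theorem sig_sig (a : Kˣ) : Units.map (T.σ : K →* K) (Units.map (T.σ : K →* K) a) = a ^ (2 : ℤ) :=
  Units.ext (by simp [T.sq, zpow_ofNat])

theorem pw_mul (a b : Kˣ) (z : ℤ√2) : pw T (a * b) z = pw T a z * pw T b z := by
  simp only [pw, map_mul, mul_zpow]; exact mul_mul_mul_comm ..

theorem pw_sub (a : Kˣ) (z w : ℤ√2) : pw T a (z - w) = pw T a z / pw T a w := by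
  simp only [pw, Zsqrtd.re_sub, Zsqrtd.im_sub, zpow_sub, div_eq_mul_inv, mul_inv]
  exact mul_mul_mul_comm ..

theorem pw_pw (a : Kˣ) (z w : ℤ√2) : pw T (pw T a z) w = pw T a (z * w) := by
  simp only [pw, map_mul, map_zpow, sig_sig, mul_zpow, ← zpow_mul, Zsqrtd.re_mul, Zsqrtd.im_mul,
    zpow_add, mul_assoc (2 : ℤ), mul_comm z.im w.re]
  ac_rfl

theorem pw_one (z : ℤ√2) : pw T 1 z = 1 := by simp [pw]

theorem pw_inj {a : Kˣ} {z : ℤ√2} {r : ℕ} (h : (z.re ^ 2 - 2 * z.im ^ 2).natAbs = 2 ^ r)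
    (e : pw T a z = 1) : a = 1 :=
  Units.ext (eq_one_of_pw (T := T) a.ne_zero r h (by simpa [pw] using congrArg Units.val e))

/-- exponents of `a` -/
def ea (k : ℕ) : ℤ√2 := [⟨1, 0⟩, ⟨1, 0⟩, ⟨1, 1⟩, ⟨1, 1⟩, ⟨0, 1⟩, ⟨2, 1⟩, ⟨1, 1⟩, ⟨1, 0⟩, ⟨1, 1⟩,
  ⟨1, 0⟩, ⟨0, 0⟩, ⟨0, 0⟩].getD k 0
/-- exponents of `b` -/
def eb (k : ℕ) : ℤ√2 := [⟨0, 0⟩, ⟨1, 0⟩, ⟨1, 1⟩, ⟨2, 1⟩, ⟨1, 1⟩, ⟨3, 2⟩, ⟨2, 2⟩, ⟨1, 1⟩, ⟨3, 2⟩,
  ⟨2, 1⟩, ⟨1, 0⟩, ⟨1, 1⟩].getD k 0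

theorem det_ok : ∀ k < 12, ∀ i < 12, bn i < bn k → ∃ r < 4,
    ((ea k * eb i - ea i * eb k).re ^ 2 - 2 * (ea k * eb i - ea i * eb k).im ^ 2).natAbs = 2 ^ r := by
  decide +kernel

theorem dg_gn {k : ℕ} (hk : k < 12) (a b : Kˣ) (t : K) :
    dg T a b (gn T k t) = gn T k ((pw T a (ea k) * pw T b (eb k) : Kˣ) * t) := by
  interval_cases k <;> ext <;> simp [dg, gn, pw, ea, eb, zpow_ofNat]

theorem chi_surj {k i : ℕ} (hk : k < 12) (hi : i < 12) (h : bn i < bn k) (t u : Kˣ) :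
    ∃ a b : Kˣ, pw T a (ea k) * pw T b (eb k) = t ∧ pw T a (ea i) * pw T b (eb i) = u := by
  obtain ⟨r, -, hr⟩ := det_ok k hk i hi h
  let f : Kˣ × Kˣ →* Kˣ × Kˣ := MonoidHom.mk'
    (fun p => (pw T p.1 (ea k) * pw T p.2 (eb k), pw T p.1 (ea i) * pw T p.2 (eb i)))
    fun p q => Prod.ext (by simp only [Prod.fst_mul, Prod.snd_mul, pw_mul]; exact mul_mul_mul_comm ..)
      (by simp only [Prod.fst_mul, Prod.snd_mul, pw_mul]; exact mul_mul_mul_comm ..)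
  have inj : Function.Injective f := (injective_iff_map_eq_one f).2 fun p e => by
    have e1 : pw T p.1 (ea k) * pw T p.2 (eb k) = 1 := congrArg Prod.fst e
    have e2 : pw T p.1 (ea i) * pw T p.2 (eb i) = 1 := congrArg Prod.snd e
    have a1 := congrArg (pw T · (eb i)) e1
    have a2 := congrArg (pw T · (eb k)) e2
    have b1 := congrArg (pw T · (ea i)) e1
    have b2 := congrArg (pw T · (ea k)) e2
    simp only [pw_mul, pw_pw, pw_one] at a1 a2 b1 b2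
    rw [mul_comm (eb i), ← a1] at a2
    rw [mul_comm (ea i), ← b1, mul_comm (eb i), mul_comm (eb k)] at b2
    exact Prod.ext (pw_inj hr (by rw [pw_sub, mul_right_cancel a2, div_self']))
      (pw_inj hr (by rw [pw_sub, mul_left_cancel b2, div_self']))
  obtain ⟨p, hp⟩ := Finite.surjective_of_injective inj (t, u)
  exact ⟨p.1, p.2, congrArg Prod.fst hp, congrArg Prod.snd hp⟩

variable (Y : Y8 x T)

theorem zz : Y.X 1 0 = 1 ∧ Y.X 2 0 = 1 ∧ Y.X 3 0 = 1 ∧ Y.X 4 0 = 1 ∧ Y.X 5 0 = 1 ∧ Y.X 6 0 = 1 ∧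
    Y.X 7 0 = 1 ∧ Y.X 8 0 = 1 :=
  ⟨Y.zero 1, Y.zero 2, Y.zero 3, Y.zero 4, Y.zero 5, Y.zero 6, Y.zero 7, Y.zero 8⟩

theorem fm_one : Y.fm 1 = 1 := by simp [Y8.fm, zz Y, Y.y_zero]

theorem hf (j : ℕ) (hj : j < 8) (c : Co T) (b a : K) :
    Y.fm (lo j c * blk T (j + 1) b a) = Y.fm (lo j c) * Y.fm (blk T (j + 1) b a) := by
  interval_cases j <;> simp [Y8.fm, lo, blk, zz Y, Y.y_zero]

variable {Y} (h : Y.Tab)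
include h

theorem hp (k : ℕ) (hk : k < 12) (i : ℕ) (hi : i < 12) (e : bn i < bn k) (t u : K) :
    Y.fm (gn T k t * gn T i u) = Y.fm (gn T k t) * Y.fm (gn T i u) := by
  by_cases ht : t = 0
  · rw [ht, gn_zero, fm_one, one_mul, one_mul]
  by_cases hu : u = 0
  · rw [hu, gn_zero, fm_one, mul_one, mul_one]
  obtain ⟨a, b, e1, e2⟩ := chi_surj (T := T) hk hi e (Units.mk0 t ht) (Units.mk0 u hu)
  obtain ⟨g, -, hg⟩ := Y.tor_ex a b a.ne_zero b.ne_zero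
  have := congrArg (fun z => g⁻¹ * z * g) (h k hk i hi e)
  simp only [cj_mul, Y.fm_tor a.ne_zero b.ne_zero hg, dg_mul, dg_gn hk, dg_gn hi, e1, e2] at this
  simpa using this

theorem r81 (t : K) : (Y.X 1 t)⁻¹ * Y.X 8 1 * Y.X 1 t = Y.X 2 (t * T.σ t) * Y.X 3 (t * T.σ t) *
    Y.y 4 (T.σ t) * (Y.X 4 (t ^ 2 * T.σ t) * Y.X 5 (t * T.σ t)) * Y.y 6 t * (Y.X 7 t * Y.X 8 1) := by
  have h1 := hp h 11 (by decide) 0 (by decide) (by decide) 1 t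
  simp [Y8.fm, gn, zz Y, Y.y_zero] at h1
  rw [mul_assoc, ← h1]; group

theorem r71 (t u : K) : ∃ d ∈ II x.U 2 5, (Y.X 1 u)⁻¹ * Y.X 7 t * Y.X 1 u = d * Y.X 7 t := by
  have h1 := hp h 9 (by decide) 0 (by decide) (by decide) t u
  simp [Y8.fm, gn, zz Y, Y.y_zero] at h1
  exact ⟨Y.X 3 (t * T.σ u) * Y.X 5 (T.σ t * u), mul_mem (toI (Y.mU 3 _)) (toI (Y.mU 5 _)),
    by rw [mul_assoc (Y.X 1 u)⁻¹, ← h1]; group⟩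

theorem r72 (t u : K) : Y.X 7 t * Y.X 2 u = Y.X 2 u * Y.X 4 (t * u) * Y.X 7 t := by
  have h1 := hp h 9 (by decide) 2 (by decide) (by decide) t u
  simp [Y8.fm, gn, zz Y, Y.y_zero] at h1
  exact h1.symm

theorem r74 (t u : K) : Y.X 7 t * Y.y 4 u = Y.y 4 u * Y.X 6 (t * u) * Y.X 7 t := by
  have h1 := hp h 9 (by decide) 4 (by decide) (by decide) t u
  simp [Y8.fm, gn, zz Y, Y.y_zero] at h1
  exact h1.symm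

theorem r52 (t : K) : Y.X 5 1 * Y.y 2 t = Y.y 2 t * Y.X 4 t * Y.X 5 1 := by
  have h1 := hp h 6 (by decide) 1 (by decide) (by decide) 1 t
  simp [Y8.fm, gn, zz Y, Y.y_zero] at h1
  exact h1.symm

theorem y6_mul (C : C8 x) (t s : K) : Y.y 6 t * Y.y 6 s = Y.y 6 (t + s) * Y.X 6 (t * T.σ s) := by
  have m0 : ∀ t, Y.X 2 (t * T.σ t) * Y.X 3 (t * T.σ t) * Y.y 4 (T.σ t) *
      (Y.X 4 (t ^ 2 * T.σ t) * Y.X 5 (t * T.σ t)) ∈ II x.U 2 5 := fun t =>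
    mul_mem (mul_mem (mul_mem (toI (Y.mU 2 _)) (toI (Y.mU 3 _))) (toI (Y.mY 4 _)))
      (mul_mem (toI (Y.mU 4 _)) (toI (Y.mU 5 _)))
  obtain ⟨d1, m1, e1⟩ := cj_lo (Y.mU 1 s) (Y.mY 6 t) 2 5
  obtain ⟨d2, m2, e2⟩ := r71 h t s
  have m3 := nor (toI (Y.mU 1 s) : _ ∈ II x.U 1 1) (m0 t)
  have c73 : Y.X 7 t * Y.X 3 (s * T.σ s) = Y.X 3 (s * T.σ s) * Y.X 7 t :=
    C.c4 7 3 (by omega) (by omega) _ (Y.mU 7 t) _ (Y.mU 3 _)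
  have c75 : Y.X 7 t * (Y.X 4 (s ^ 2 * T.σ s) * Y.X 5 (s * T.σ s)) =
      Y.X 4 (s ^ 2 * T.σ s) * Y.X 5 (s * T.σ s) * Y.X 7 t := by
    rw [← mul_assoc, V.cm (Y.mV 4 _) (Y.mU 7 t), mul_assoc,
      C.c2 7 5 (by omega) (by omega) _ (Y.mU 7 t) _ (Y.mU 5 _), mul_assoc]
  have c65 := V.cmI (Y.mV 6 (t * T.σ s)) (mul_mem (toI (Y.mU 4 (s ^ 2 * T.σ s)))
    (toI (Y.mU 5 (s * T.σ s))) : _ ∈ II x.U 4 5)
  have m4 : Y.X 2 (s * T.σ s) * Y.X 4 (t * (s * T.σ s)) * Y.X 3 (s * T.σ s) * Y.y 4 (T.σ s) *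
      (Y.X 4 (s ^ 2 * T.σ s) * Y.X 5 (s * T.σ s)) ∈ II x.U 2 5 :=
    mul_mem (mul_mem (mul_mem (mul_mem (toI (Y.mU 2 _)) (toI (Y.mU 4 _))) (toI (Y.mU 3 _)))
      (toI (Y.mY 4 _))) (mul_mem (toI (Y.mU 4 _)) (toI (Y.mU 5 _)))
  have e4 : Y.X 7 t * (Y.X 2 (s * T.σ s) * Y.X 3 (s * T.σ s) * Y.y 4 (T.σ s) *
      (Y.X 4 (s ^ 2 * T.σ s) * Y.X 5 (s * T.σ s))) =
      Y.X 2 (s * T.σ s) * Y.X 4 (t * (s * T.σ s)) * Y.X 3 (s * T.σ s) * Y.y 4 (T.σ s) *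
      (Y.X 4 (s ^ 2 * T.σ s) * Y.X 5 (s * T.σ s)) * Y.X 6 (t * T.σ s) * Y.X 7 t := by
    generalize Y.X 4 (s ^ 2 * T.σ s) * Y.X 5 (s * T.σ s) = w at c75 c65
    rw [← mul_assoc, ← mul_assoc, ← mul_assoc, r72 h, mul_assoc _ (Y.X 7 t), c73, ← mul_assoc,
      mul_assoc _ (Y.X 7 t), r74 h, ← mul_assoc, ← mul_assoc, mul_assoc _ (Y.X 7 t), c75,
      ← mul_assoc, mul_assoc _ (Y.X 6 _), ← c65, ← mul_assoc]
  have c76 := adj (Y.mU 7 t) (Y.mY 6 s)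
  have m5 := nor (toI (inv_mem (Y.mY 6 t)) : _ ∈ II x.U 6 6) (mul_mem m2 m4)
  have e := r81 h (t + s)
  rw [Y.add 1, cj_mul', r81 h t, cj_mul, cj_mul, cj_mul (Y.X 1 s) (Y.X 7 t), e1, e2, r81 h s] at e
  have m6 := m0 (t + s)
  generalize Y.X 2 ((t + s) * T.σ (t + s)) * Y.X 3 ((t + s) * T.σ (t + s)) * Y.y 4 (T.σ (t + s)) *
      (Y.X 4 ((t + s) ^ 2 * T.σ (t + s)) * Y.X 5 ((t + s) * T.σ (t + s))) = d6 at e m6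
  generalize (Y.X 1 s)⁻¹ * (Y.X 2 (t * T.σ t) * Y.X 3 (t * T.σ t) * Y.y 4 (T.σ t) *
      (Y.X 4 (t ^ 2 * T.σ t) * Y.X 5 (t * T.σ t))) * Y.X 1 s = d3 at e m3
  generalize Y.X 2 (s * T.σ s) * Y.X 3 (s * T.σ s) * Y.y 4 (T.σ s) *
      (Y.X 4 (s ^ 2 * T.σ s) * Y.X 5 (s * T.σ s)) = d0 at e e4
  generalize Y.X 2 (s * T.σ s) * Y.X 4 (t * (s * T.σ s)) * Y.X 3 (s * T.σ s) * Y.y 4 (T.σ s) *
      (Y.X 4 (s ^ 2 * T.σ s) * Y.X 5 (s * T.σ s)) = d4 at e4 m5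
  have e' : d3 * d1 * ((Y.y 6 t)⁻¹⁻¹ * (d2 * d4) * (Y.y 6 t)⁻¹) *
      (Y.y 6 t * Y.X 6 (t * T.σ s) * Y.y 6 s) * (Y.X 7 t * (Y.X 7 s * Y.X 8 1)) =
      d6 * Y.y 6 (t + s) * (Y.X 7 (t + s) * Y.X 8 1) := by
    rw [← e]
    calc _ = d3 * (d1 * Y.y 6 t) * (d2 * (d4 * Y.X 6 (t * T.σ s) * (Y.y 6 s * Y.X 7 t)) *
          (Y.X 7 s * Y.X 8 1)) := by group
      _ = d3 * (d1 * Y.y 6 t) * (d2 * (d4 * Y.X 6 (t * T.σ s) * Y.X 7 t) * Y.y 6 s *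
          (Y.X 7 s * Y.X 8 1)) := by rw [← c76]; group
      _ = _ := by rw [← e4]; group
  have m7 := mul_mem (mul_mem m3 m1) m5
  have m8 := mul_mem (mul_mem (Y.mY 6 t) (Y.mU 6 (t * T.σ s))) (Y.mY 6 s)
  have u1 := (un (i := 2) (k := 6) (l := 7) (j := 8) (mul_mem (mono m7) (toI m8))
    (mul_mem (mono m6) (toI (Y.mY 6 _)))
    (mul_mem (toI (Y.mU 7 _)) (mul_mem (toI (Y.mU 7 _)) (toI (Y.mU 8 _))))
    (mul_mem (toI (Y.mU 7 _)) (toI (Y.mU 8 _))) e').1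
  have u2 := (un (l := 6) (j := 6) m7 m6 (toI m8) (toI (Y.mY 6 _)) u1).2
  rw [← u2, mul_assoc (Y.y 6 t), ← V.cm (Y.mV 6 _) (Y.mY 6 s), ← mul_assoc, mul_assoc, Y.sq 6,
    mul_one]

theorem y_mul (C : C8 x) (t s : K) :
    Y.y 2 t * Y.y 2 s = Y.y 2 (t + s) * Y.X 2 (t * T.σ s) ∧
    Y.y 4 t * Y.y 4 s = Y.y 4 (t + s) * Y.X 4 (t * T.σ s) ∧
    Y.y 6 t * Y.y 6 s = Y.y 6 (t + s) * Y.X 6 (t * T.σ s) ∧
    Y.y 8 t * Y.y 8 s = Y.y 8 (t + s) * Y.X 8 (t * T.σ s) := by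
  have h6 := y6_mul h C t s
  have h2 := congrArg (fun g => Y.N8⁻¹ * g * Y.N8) h6
  have h4 := congrArg (fun g => Y.N1⁻¹ * g * Y.N1) h6
  simp only [cj_mul, Y.y62, Y.y64, Y.c8 6 2, Y.c1 6 4] at h2 h4
  have h8 := congrArg (fun g => Y.N1⁻¹ * g * Y.N1) h2
  simp only [cj_mul, Y.y28, Y.c1 2 8] at h8
  exact ⟨h2, h4, h6, h8⟩

omit h in
theorem blk_ev (k : ℤ) {b a b' a' : K} (e : Y.y k b * Y.y k b' = Y.y k (b + b') * Y.X k (b * T.σ b'))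
    (hk : 0 ≤ k ∧ k ≤ 8 ∧ k % 2 = 0 := by omega) : Y.y k (b + b') * Y.X k (a + a' + b * T.σ b') =
      Y.y k b * Y.X k a * (Y.y k b' * Y.X k a') := by
  rw [← mul_assoc, mul_assoc (Y.y k b), ← V.cm (Y.mV k a) (Y.mY k b'), ← mul_assoc, e, mul_assoc,
    mul_assoc, ← Y.add k, ← Y.add k, add_comm (b * _)]

theorem hd (C : C8 x) (j : ℕ) (hj : j < 8) (b a b' a' : K) :
    Y.fm (blk T (j + 1) b a * blk T (j + 1) b' a') =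
      Y.fm (blk T (j + 1) b a) * Y.fm (blk T (j + 1) b' a') := by
  obtain ⟨h2, h4, h6, h8⟩ := y_mul h C b b'
  interval_cases j <;> simp [Y8.fm, blk, zz Y, Y.y_zero]
  exacts [Y.add 1 _ _, blk_ev 2 h2, Y.add 3 _ _, blk_ev 4 h4, Y.add 5 _ _, blk_ev 6 h6, Y.add 7 _ _,
    blk_ev 8 h8]

theorem mem2 (C : C8 x) (D : D8 x) {g : G} (hg : g ∈ x.U 2) : ∃ b a, g = Y.y 2 b * Y.X 2 a := by
  obtain ⟨b, hb⟩ := Y.exV 4 (C.c3 5 2 4 (by omega) (by omega) _ (inv_mem (Y.mU 5 1)) _ (inv_mem hg))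
  have c := V.cm (Y.mV 4 b) hg
  have c' := V.cm (Y.mV 4 b) (Y.mY 2 b)
  have e1 : Y.X 5 1 * g = Y.X 4 b * g * Y.X 5 1 := by rw [← hb]; group
  have e2 := r52 h b
  rw [c'] at e2
  obtain ⟨a, ha⟩ := Y.exV 2 (D.nv 2 5 (by omega) (by omega) _ (mul_mem (inv_mem (Y.mY 2 b)) hg) _
    (Y.mU 5 1) (Y.ne 5 one_ne_zero) (by
      calc (Y.y 2 b)⁻¹ * g * Y.X 5 1 = (Y.X 4 b * Y.y 2 b)⁻¹ * (Y.X 4 b * g * Y.X 5 1) := by group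
        _ = Y.X 5 1 * (Y.X 4 b * Y.y 2 b * Y.X 5 1)⁻¹ * (Y.X 5 1 * g) := by rw [e1]; group
        _ = _ := by rw [← e2]; group))
  exact ⟨b, a, by rw [← ha]; group⟩

theorem mem_ev (C : C8 x) (D : D8 x) (g : G) :
    (g ∈ x.U 4 → ∃ b a, g = Y.y 4 b * Y.X 4 a) ∧ (g ∈ x.U 6 → ∃ b a, g = Y.y 6 b * Y.X 6 a) ∧
      (g ∈ x.U 8 → ∃ b a, g = Y.y 8 b * Y.X 8 a) := by
  have h6 : ∀ g ∈ x.U 6, ∃ b a, g = Y.y 6 b * Y.X 6 a := fun g hg => by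
    obtain ⟨b, a, e⟩ := mem2 h C D (Y.rf8.U hg 2)
    exact ⟨b, a, by rw [← Y.back8 e, cj_mul, Y.back8 (Y.y62 b), Y.c8 2 6]⟩
  refine ⟨fun hg => ?_, h6 g, fun hg => ?_⟩
  · obtain ⟨b, a, e⟩ := h6 _ (Y.rf1.U hg 6)
    exact ⟨b, a, by rw [← Y.back1 e, cj_mul, Y.y64, Y.c1 6 4]⟩
  · obtain ⟨b, a, e⟩ := mem2 h C D (Y.rf1.U hg 2)
    exact ⟨b, a, by rw [← Y.back1 e, cj_mul, Y.y28, Y.c1 2 8]⟩

theorem inj2 {b a : K} (e : Y.y 2 b * Y.X 2 a = 1) : b = 0 ∧ a = 0 := by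
  have e1 := r52 h b
  rw [eq_inv_of_mul_eq_one_left e, Y.inv 2, V.cm (Y.mV 2 a) (Y.mU 5 1), mul_assoc, mul_right_inj,
    right_eq_mul] at e1
  have b0 : b = 0 := Y.inj 4 (by omega) (e1.trans (Y.zero 4).symm)
  rw [b0, Y.y_zero, one_mul] at e
  exact ⟨b0, Y.inj 2 (by omega) (e.trans (Y.zero 2).symm)⟩

theorem inj_ev (b a : K) : (Y.y 4 b * Y.X 4 a = 1 → b = 0 ∧ a = 0) ∧
    (Y.y 6 b * Y.X 6 a = 1 → b = 0 ∧ a = 0) ∧ (Y.y 8 b * Y.X 8 a = 1 → b = 0 ∧ a = 0) := by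
  have h6 : Y.y 6 b * Y.X 6 a = 1 → b = 0 ∧ a = 0 := fun e =>
    inj2 h (by rw [← Y.y62, ← Y.c8 6 2, ← cj_mul, e]; simp)
  refine ⟨fun e => h6 ?_, h6, fun e => inj2 h ?_⟩
  · rwa [← Y.y64, ← Y.c1 6 4, ← cj_mul, cj_eq_one] at e
  · rwa [← Y.y28, ← Y.c1 2 8, ← cj_mul, cj_eq_one] at e

omit h in
theorem peel {p b : G} (k : ℤ) (hp : p ∈ II x.U 1 k) (hb : b ∈ x.U (k + 1)) (e : p * b = 1)
    (hk : 1 ≤ k ∧ k ≤ 7 := by omega) : p = 1 ∧ b = 1 :=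
  un (l := k + 1) (j := k + 1) hp (one_mem _) (toI hb) (one_mem _) (by rw [e, mul_one])

theorem ker {c : Co T} (e : Y.fm c = 1) : c = 1 := by
  have ev := fun (k : ℤ) (hk : 0 ≤ k ∧ k ≤ 8 ∧ k % 2 = 0) b a => mul_mem (Y.mY k b) (Y.mU k a)
  have m1 : Y.X 1 c.a1 ∈ II x.U 1 1 := toI (Y.mU 1 _)
  have m2 := mul_mem (mono m1 : _ ∈ II x.U 1 2) (toI (ev 2 (by omega) c.b2 c.a2))
  have m3 := mul_mem (mono m2 : _ ∈ II x.U 1 3) (toI (Y.mU 3 c.a3))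
  have m4 := mul_mem (mono m3 : _ ∈ II x.U 1 4) (toI (ev 4 (by omega) c.b4 c.a4))
  have m5 := mul_mem (mono m4 : _ ∈ II x.U 1 5) (toI (Y.mU 5 c.a5))
  have m6 := mul_mem (mono m5 : _ ∈ II x.U 1 6) (toI (ev 6 (by omega) c.b6 c.a6))
  have m7 := mul_mem (mono m6 : _ ∈ II x.U 1 7) (toI (Y.mU 7 c.a7))
  obtain ⟨e, e8⟩ := peel 7 m7 (ev 8 (by omega) c.b8 c.a8) e
  obtain ⟨e, e7⟩ := peel 6 m6 (Y.mU 7 _) e
  obtain ⟨e, e6⟩ := peel 5 m5 (ev 6 (by omega) _ _) e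
  obtain ⟨e, e5⟩ := peel 4 m4 (Y.mU 5 _) e
  obtain ⟨e, e4⟩ := peel 3 m3 (ev 4 (by omega) _ _) e
  obtain ⟨e, e3⟩ := peel 2 m2 (Y.mU 3 _) e
  obtain ⟨e1, e2⟩ := peel 1 m1 (ev 2 (by omega) _ _) e
  have od : ∀ (k : ℤ) (hk : 0 ≤ k ∧ k ≤ 9) a, Y.X k a = 1 → a = 0 := fun k hk a e =>
    Y.inj k hk (e.trans (Y.zero k).symm)
  exact Co.ext (od 1 (by omega) _ e1) (inj2 h e2).1 (inj2 h e2).2 (od 3 (by omega) _ e3)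
    ((inj_ev h _ _).1 e4).1 ((inj_ev h _ _).1 e4).2 (od 5 (by omega) _ e5)
    ((inj_ev h _ _).2.1 e6).1 ((inj_ev h _ _).2.1 e6).2 (od 7 (by omega) _ e7)
    ((inj_ev h _ _).2.2 e8).1 ((inj_ev h _ _).2.2 e8).2

omit h in
theorem jobF : JobF := by
  intro G _ _ x _ _ C D K _ _ _ T Y h
  have hm := hom_of_pairs Y.fm (fm_one Y) (hf Y) (hd h C) (hp h)
  refine ⟨hm, (injective_iff_map_eq_one (MonoidHom.mk' Y.fm hm)).2 fun c => ker h, fun j h1 h2 g => ?_⟩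
  have od : ∀ (k : ℤ) (hk : 1 ≤ k ∧ k ≤ 9 ∧ k % 2 = 1), g ∈ x.U k ↔ ∃ a, g = Y.X k a := fun k hk =>
    ⟨fun hg => Y.exU k hg, fun ⟨a, e⟩ => e ▸ Y.mU k a⟩
  have ev : ∀ (k : ℤ) (hk : 0 ≤ k ∧ k ≤ 8 ∧ k % 2 = 0), (∃ b a, g = Y.y k b * Y.X k a) → g ∈ x.U k :=
    fun k hk ⟨b, a, e⟩ => e ▸ mul_mem (Y.mY k b) (Y.mU k a)
  obtain ⟨h4, h6, h8⟩ := mem_ev h C D g
  interval_cases j <;> simp [Y8.fm, blk, zz Y, Y.y_zero]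
  exacts [od 1 (by omega), ⟨mem2 h C D, ev 2 (by omega)⟩, od 3 (by omega), ⟨h4, ev 4 (by omega)⟩,
    od 5 (by omega), ⟨h6, ev 6 (by omega)⟩, od 7 (by omega), ⟨h8, ev 8 (by omega)⟩]

end H9.O8
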