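import Cfsg.Agent.H34.R5Spec

/-! Tower R5 (S3194): Clifford for the trivial character. -/

set_option autoImplicit false

namespace H9.R5E0

universe u

theorem jobE0 : H34.R5.JobE0.{u} := by
  intro X _ _ P _ χ hP ⟨n, ρ, hi, hχ⟩ hs k hk
  let U : Submodule ℂ (Fin n → ℂ) :=
    { carrier := {v | ∀ k ∈ P, ρ k v = v}
      add_mem' := fun ha hb k m => by rw [map_add, ha k m, hb k m]
      zero_mem' := fun k _ => map_zero _
      smul_mem' := fun c v hv k m => by rw [map_smul, hv k m] }
  have hU : ∀ v, v ∈ U ↔ ∀ k ∈ P, ρ k v = v := fun _ => Iff.rfl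
  let W : Subrepresentation ρ := ⟨U, fun g v hv => (hU _).2 fun k m => by
    have h := (hU _).1 hv _ (hP.conj_mem k m g⁻¹)
    rw [inv_inv] at h
    rw [← Module.End.mul_apply, ← map_mul, show k * g = g * (g⁻¹ * k * g) by group, map_mul,
      Module.End.mul_apply, h]⟩
  subst hχ
  rcases hi.eq_bot_or_eq_top W with h | h
  · refine (hs ?_).elim
    have h2 : U = ⊥ := congrArg Subrepresentation.toSubmodule h
    have h0 : ∑ k : P, ρ k = 0 := LinearMap.ext fun v => by
      have : (∑ k : P, ρ k) v ∈ U := (hU _).2 fun a m => by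
        rw [← Module.End.mul_apply, Finset.mul_sum]
        congr 1
        exact Fintype.sum_equiv (Equiv.mulLeft (⟨a, m⟩ : P)) _ _ fun b => (map_mul ρ a b).symm
      rw [h2] at this
      exact this
    simp only [Representation.character]
    rw [← map_sum, h0, map_zero]
  · have h2 : U = ⊤ := congrArg Subrepresentation.toSubmodule h
    have h1 : ρ k = ρ 1 := LinearMap.ext fun v => by
      rw [(hU v).1 (h2 ▸ Submodule.mem_top) k hk, map_one]; rfl
    simp only [Representation.character, h1]

end H9.R5E0
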