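import Cfsg.Agent.H9.RFFix
import Cfsg.Agent.H66.ParT1

/-! RF tower, job N8. -/

set_option autoImplicit false
set_option linter.unusedSectionVars false
set_option linter.unusedSimpArgs false
set_option linter.unnecessarySeqFocus false

open Subgroup H63.Oc H90.RF H66.Par

universe v

namespace H9.RF

variable {K : Type*} [Field K] [CharP K 2] {T : TF K}

theorem nu8_dg (p : Kˣ × Kˣ) {c : Co T} (hc : c ∈ sQ T) :
    (dg T p.1 p.2 c).nu8 = dg T (w8 T p).1 (w8 T p).2 c.nu8 := by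
  have s0 := (map_ne_zero T.σ).2 p.2.ne_zero
  have a0 := p.2.ne_zero
  ext <;> simp [dg, w8, Co.nu8, T.sq, hc.1, hc.2] <;> field_simp <;> grind

theorem z8_Q (i : ℕ) : z8 T i ≤ sQ T := by
  rcases i with _ | _ | _ | _ | i
  · exact bot_le
  · exact fun c ⟨_, _, _, _, _, _, _, _, _, h1, h2⟩ => ⟨h1, h2⟩
  · exact fun c ⟨_, _, _, _, _, h1, h2⟩ => ⟨h1, h2⟩
  · exact fun c ⟨_, _, _, _, h1, h2⟩ => ⟨h1, h2⟩
  · exact le_rfl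

theorem inn_z8 {s : Co T} (hs : s ∈ sQ T) : Cg (z8 T) 4 (fun c => s * c * s⁻¹) id := by
  intro i hi c hc
  obtain ⟨s1, s2⟩ := hs
  interval_cases i
  · have e := H14.Oc.eq_x4 (show c ∈ sZ T from hc)
    show c⁻¹ * (s * c * s⁻¹) ∈ ⊥
    rw [e, H14.Oc.x4_comm]; simp
  · have := (nZ (T := T)).conj_mem _ (H14.Oc.cm_VQ (show c ∈ sV T from hc) ⟨s1, s2⟩) c⁻¹
    show c⁻¹ * (s * c * s⁻¹) ∈ sZ T
    convert this using 1; group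
  · obtain ⟨_, _, _, _, _, _⟩ : c ∈ sR T := hc
    show c⁻¹ * (s * c * s⁻¹) ∈ sV T
    simp [mem_sV, *]; grind
  · obtain ⟨_, _⟩ : c ∈ sQ T := hc
    show c⁻¹ * (s * c * s⁻¹) ∈ sR T
    simp [mem_sR, *]; grind

/-- an automorphism of `Q`, trivial on the factors of the chain, that commutes with the torus -/
structure E8 (β : Co T → Co T) : Prop where
  pr : ∀ i, Pr Co.nu8 (z8 T i)
  au : Au (sQ T) β
  cg : Cg (z8 T) 4 β id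
  tor : ∀ p : Kˣ × Kˣ, ∀ c ∈ sQ T, β (dg T p.1 p.2 c) = dg T p.1 p.2 (β c)

namespace E8
variable {β : Co T → Co T} (h : E8 β)
include h

theorem cj : E8 fun c => (β c.nu8).nu8 :=
  ⟨h.pr, au_nu8.comp (h.au.comp au_nu8), ((h.cg.comp_right h.pr).comp_left au_nu8 h.pr
    (fun i _ => z8_Q i) (h.au.comp au_nu8).mem au_nu8.mem).congr (fun i _ => z8_Q i) (fun _ _ => rfl)
      fun _ hc => nu8_nu8 hc, fun p c hc => by
    have m := au_nu8.mem c hc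
    have e := nu8_dg p (au_nu8.mem _ (h.au.mem _ m))
    rw [nu8_nu8 (h.au.mem _ m)] at e
    rw [nu8_dg p hc, h.tor _ _ m, ← e, nu8_nu8 (by simp [mem_sQ, dg, Co.nu8])]⟩

theorem sw {c d : Co T} (hc : c ∈ sQ T) (e : c.nu8 = d) (k : (β c.nu8).nu8 = c) : β d = d := by
  rw [← e, ← nu8_nu8 (h.au.mem _ (au_nu8.mem c hc)), k]

theorem top {c : Co T} (hc : c ∈ sQ T) : (β c).a1 = c.a1 ∧ (β c).b2 = c.b2 := by
  obtain ⟨k1, k2, -⟩ : c⁻¹ * β c ∈ sR T := h.cg 3 (by decide) c hc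
  simp [hc.1] at k1 k2
  grind

theorem r4x (t : K) : β (x4 T t) = x4 T t :=
  (inv_mul_eq_one.1 (mem_bot.1 (h.cg 0 (by decide) _ (H14.Oc.x4_mem t)))).symm

theorem fix {c d e : Co T} (hc : c ∈ sQ T) (hd : d ∈ sQ T) (he : e ∈ sQ T) (r : c * d = d * e * c) :
    β c * β d = β d * β e * β c := by
  rw [← h.au.mul _ hc _ hd, r, h.au.mul _ (mul_mem hd he) _ hc, h.au.mul _ hd _ he]

theorem mul {c d : Co T} (k : c ∈ sQ T ∧ β c = c) (k' : d ∈ sQ T ∧ β d = d) :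
    c * d ∈ sQ T ∧ β (c * d) = c * d :=
  ⟨mul_mem k.1 k'.1, (h.au.mul _ k.1 _ k'.1).trans (congrArg₂ _ k.2 k'.2)⟩

variable (u : Kˣ) (hu : (u : K) ≠ 1)
include hu

theorem r1 (t : K) : β (x1 T t) = x1 T t := by
  have m : x1 T t ∈ sQ T := ⟨rfl, rfl⟩
  have k := h.tor (1, u) _ m
  rw [show dg T ((1, u) : Kˣ × Kˣ).1 ((1, u) : Kˣ × Kˣ).2 (x1 T t) = x1 T t by
    ext <;> simp [dg, x1]] at k
  obtain ⟨-, -, -, n1, n2, n3, n4, -⟩ := ne1 (T := T) u hu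
  have k := fix_co k.symm
  simp only [Units.val_one, map_one, one_mul, one_pow] at k
  obtain ⟨k1, k2, k3, k4, k5, k6, k7, k8, k9, k10, k11⟩ := k
  exact Co.ext (h.top m).1 (k1 hu) (k2 n1) (k3 n2) (k4 n1) (k5 n3) (k6 n4) (k7 n1) (k8 n3) (k9 n2)
    (k10 hu) (k11 n1)

theorem r7 (t : K) : β (x7 T t) = x7 T t :=
  h.sw (c := x1 T t) ⟨rfl, rfl⟩ (by ext <;> simp [Co.nu8, x1, x7]) (h.cj.r1 u hu t)

theorem s4 (t : K) : ∃ a, β (y4 T t) = y4 T t * x4 T a := by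
  have s0 := (map_ne_zero T.σ).2 u.ne_zero
  have m : y4 T t ∈ sQ T := ⟨rfl, rfl⟩
  have k : β (dg T ((u⁻¹ : Kˣ) ^ 2 * T.σ (u⁻¹ : Kˣ)) (u ^ 2) (y4 T t)) = dg T _ _ _ :=
    h.tor (u⁻¹ ^ 2 * Units.map (T.σ : K →* K) u⁻¹, u ^ 2) (y4 T t) m
  rw [show dg T ((u⁻¹ : Kˣ) ^ 2 * T.σ (u⁻¹ : Kˣ)) (u ^ 2) (y4 T t) = y4 T t by
    ext <;> simp [dg, y4, T.sq] <;> field_simp] at k
  obtain ⟨b, a, e⟩ : ∃ b a, β (y4 T t) = y4 T b * ww T 0 a := ⟨_, _, f4 u hu (h.top m).1 k.symm⟩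
  have q : (y4 T t)⁻¹ * β (y4 T t) ∈ sV T := h.cg 2 (by decide) _ (by
    show _ ∈ sR T; simp [mem_sR, y4])
  have q4 := q.2.2.1
  rw [e] at q4
  simp [y4, ww] at q4
  exact ⟨a, by rw [e, show b = t by grind]; rfl⟩

theorem r2x (t : K) : β (x2 T t) = x2 T t := by
  obtain ⟨a, ha⟩ := h.s4 u hu t
  have k := h.fix (c := y4 T t) (d := x1 T 1) (e := x2 T t) ⟨rfl, rfl⟩ ⟨rfl, rfl⟩ ⟨rfl, rfl⟩
    (by ext <;> simp [y4, x1, x2])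
  rw [ha, h.r1 u hu] at k
  refine mul_left_cancel (mul_right_cancel (k.symm.trans ?_))
  ext <;> simp [y4, x1, x2, x4]

theorem r6x (t : K) : β (x6 T t) = x6 T t :=
  h.sw (c := x2 T t) ⟨rfl, rfl⟩ (by ext <;> simp [Co.nu8, x2, x6]) (h.cj.r2x u hu t)

theorem s2 (t : K) : ∃ a, β (y2 T t) = y2 T t * x2 T a := by
  have m : y2 T t ∈ sQ T := ⟨rfl, rfl⟩
  have k := h.tor (u⁻¹, u) (y2 T t) m
  rw [show dg T ((u⁻¹, u) : Kˣ × Kˣ).1 ((u⁻¹, u) : Kˣ × Kˣ).2 (y2 T t) = y2 T t by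
    ext <;> simp [dg, y2]] at k
  have e := f2 u hu (h.top m).1 k.symm
  rw [(h.top m).2] at e
  exact ⟨_, e⟩

theorem r3 (t : K) : β (x3 T t) = x3 T t := by
  obtain ⟨a, ha⟩ := h.s4 u hu t
  obtain ⟨b, hb⟩ := h.s2 u hu 1
  have k := h.fix (c := y4 T t) (d := y2 T 1) (e := x3 T t) ⟨rfl, rfl⟩ ⟨rfl, rfl⟩ ⟨rfl, rfl⟩
    (by ext <;> simp [y4, y2, x3])
  rw [ha, hb] at k
  refine mul_left_cancel (mul_right_cancel (k.symm.trans ?_))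
  ext <;> simp [y4, y2, x2, x3, x4]

theorem r5 (t : K) : β (x5 T t) = x5 T t :=
  h.sw (c := x3 T t) ⟨rfl, rfl⟩ (by ext <;> simp [Co.nu8, x3, x5]) (h.cj.r3 u hu t)

theorem r2 (t : K) : β (y2 T t) = y2 T t := by
  obtain ⟨a, e⟩ := h.s2 u hu t
  have k := h.fix (c := x7 T 1) (d := y2 T t) (e := x4 T (t * T.σ t) * x5 T (T.σ t) * x6 T t)
    ⟨rfl, rfl⟩ ⟨rfl, rfl⟩ (by simp [mem_sQ, x4, x5, x6])
    (by ext <;> simp [y2, x4, x5, x6, x7])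
  rw [(h.mul (h.mul ⟨⟨rfl, rfl⟩, h.r4x (t * T.σ t)⟩ ⟨⟨rfl, rfl⟩, h.r5 u hu (T.σ t)⟩)
    ⟨⟨rfl, rfl⟩, h.r6x u hu t⟩).2, h.r7 u hu, e] at k
  have k4 := congrArg Co.a4 k
  simp [y2, x2, x4, x5, x6, x7] at k4
  rw [e, show a = 0 by grind]
  ext <;> simp [y2, x2]

theorem r6 (t : K) : β (y6 T t) = y6 T t :=
  h.sw (c := y2 T t) ⟨rfl, rfl⟩ (by ext <;> simp [Co.nu8, y2, y6]) (h.cj.r2 u hu t)

theorem r4 [Finite K] (t : K) : β (y4 T t) = y4 T t := by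
  choose e he using h.s4 u hu
  have k1 : ∀ a : K, e (T.σ a) = a ^ 2 * T.σ a * e 1 := fun a => by
    by_cases a0 : a = 0
    · have := he 0
      rw [show y4 T 0 = 1 from rfl, h.au.one] at this
      simpa [a0, x4] using (congrArg Co.a4 this).symm
    have k := h.tor (Units.mk0 a a0, 1) (y4 T 1) ⟨rfl, rfl⟩
    rw [show dg T ((Units.mk0 a a0, 1) : Kˣ × Kˣ).1 ((Units.mk0 a a0, 1) : Kˣ × Kˣ).2 (y4 T 1) =
      y4 T (T.σ a) by ext <;> simp [dg, y4], he, he] at k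
    simpa [dg, y4, x4] using congrArg Co.a4 k
  have k2 := h.au.mul (y4 T (T.σ u)) ⟨rfl, rfl⟩ (y4 T 1) ⟨rfl, rfl⟩
  rw [show y4 T (T.σ u) * y4 T 1 = y4 T (T.σ (u + 1)) * x4 T (T.σ u) by ext <;> simp [y4, x4],
    h.au.mul (y4 T _) ⟨rfl, rfl⟩ (x4 T _) ⟨rfl, rfl⟩, he, he, he, h.r4x, k1, k1] at k2
  have k3 := congrArg Co.a4 k2
  simp [y4, x4] at k3
  have k4 : e 1 = 0 := by
    by_contra n
    have a : T.σ u = u ^ 2 := mul_right_cancel₀ n (by grind)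
    have b : (u : K) = T.σ u := T.σ.injective (by rw [T.sq, a])
    exact hu (mul_left_cancel₀ u.ne_zero (by rw [← sq, ← a, ← b, mul_one]))
  obtain ⟨a, rfl⟩ := Finite.surjective_of_injective T.σ.injective t
  rw [he, k1, k4, mul_zero]
  exact mul_one _

theorem eq_id [Finite K] {c : Co T} (hc : c ∈ sQ T) : β c = c := by
  have m := fun {c d : Co T} => h.mul (c := c) (d := d)
  have e := nf c
  rw [hc.1, hc.2, show y8 T 0 = 1 from rfl, show x8 T 0 = 1 from rfl, mul_one, mul_one] at e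
  have k := (m (m (m (m (m (m (m (m (m ⟨⟨rfl, rfl⟩, h.r1 u hu c.a1⟩ ⟨⟨rfl, rfl⟩, h.r2 u hu c.b2⟩)
    ⟨⟨rfl, rfl⟩, h.r2x u hu c.a2⟩) ⟨⟨rfl, rfl⟩, h.r3 u hu c.a3⟩) ⟨⟨rfl, rfl⟩, h.r4 u hu c.b4⟩)
    ⟨⟨rfl, rfl⟩, h.r4x c.a4⟩) ⟨⟨rfl, rfl⟩, h.r5 u hu c.a5⟩) ⟨⟨rfl, rfl⟩, h.r6 u hu c.b6⟩)
    ⟨⟨rfl, rfl⟩, h.r6x u hu c.a6⟩) ⟨⟨rfl, rfl⟩, h.r7 u hu c.a7⟩).2
  rwa [← e] at k

end E8

theorem jobN8 : JobN8.{v} := by
  intro K _ _ _ T ⟨a, a0, a1⟩ h8 Φ Y0 Y8 Y1 tr ⟨⟨g, hg, cg⟩, _⟩ st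
  have hu : ((Units.mk0 a a0 : Kˣ) : K) ≠ 1 := a1
  generalize Units.mk0 a a0 = u at hu
  obtain ⟨m, hm, β, b1, b2, b3, b4⟩ := exists_rigid tr.l8 (fun i _ => z8_Q i) (fun β h => (h8 β h).1)
    (fun s hs => ⟨by
      obtain ⟨y, hy, e⟩ := tr.inn s
      obtain ⟨α, hα, e'⟩ := tr.res8 y hy
      exact ⟨α, hα, fun c hc => (e' c hc).trans (e c)⟩, inn_z8 hs⟩) tr.rad8
    (fun p : Kˣ × Kˣ => dg T p.1 p.2) (fun p => by
      obtain ⟨α, hα, e⟩ := tr.res8 (au_dg p).toTop.toEquiv ((st _).2 ⟨1, p, 1, one_mem _, fun c => by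
        rw [sd_one, one_mul, inv_one, mul_one]; rfl⟩)
      exact ⟨α, hα, e⟩) au_nu8 (w8 T) (fun p c hc => nu8_dg p hc) (u, 1) (by simp [w8])
    (fun p c _ => by rw [dg_dg, dg_dg, mul_comm, mul_comm (p.2 : K)]) (fun c hc e => by
      rw [f8 u hu (z0 (congrArg Co.a1 e) hu) e, hc.1, hc.2]
      exact mul_one _) hg cg
  exact ⟨m, hm, fun c hc => by
    rw [b4 c hc, E8.eq_id ⟨(h8 _ au_nu8).1, b1, b2, b3⟩ u hu hc]⟩

end H9.RF
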