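/- Tower RV (row S5207): the jobs Det, Con, Adm. -/
import Cfsg.Agent.H9.RVFus
import Cfsg.Agent.H9.R2Cand
import Cfsg.Agent.H9.R2Top

set_option autoImplicit false
set_option linter.unusedSectionVars false

open Matrix Subgroup Cfsg H92

namespace H9.RV

variable {p : ℕ} [hp : Fact p.Prime] {F E : FusionSystem (⊤ : Subgroup (He p))}

theorem top_form (a : JobAut) (h2 : p ≠ 2) {f : He p → He p} (h : Mor F ⊤ f) :
    ∃ s, ∃ A ∈ WF F, ∀ u, f u = s * sd A u * s⁻¹ := by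
  obtain ⟨θ, hθ⟩ := exists_aut h
  obtain ⟨s, A, e⟩ := a p h2 θ
  exact ⟨s, A, mem_WF_of h fun u => (hθ u).symm.trans (e u), fun u => (hθ u).symm.trans (e u)⟩

theorem top_le (a : JobAut) (h2 : p ≠ 2) (hW : WF F ≤ WF E) {f : He p → He p} (h : Mor F ⊤ f) : Mor E ⊤ f := by
  obtain ⟨s, A, hA, e⟩ := top_form a h2 h
  exact (mor_of_WF (hW hA) s).congr fun u _ => (e u).symm

theorem mem_VV_mk {v : V2 p} {x : He p} (h : x ∈ VV v) : ∃ t s : ZMod p, x = ⟨t • v, s⟩ :=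
  h.elim fun t ht => ⟨t, x.c, He.ext ht rfl⟩

theorem jobDet : JobDet := by
  intro a es ex mv sl p _ h2 F E hF hE hW hR
  refine le_of_essential pgroup_top hF fun P hP α hα => ?_
  rcases hP with rfl | hP
  · exact (top_le a h2 hW (mor_af le_rfl hα)).mem_autGroup fun _ _ => rfl
  obtain ⟨v, hv, rfl⟩ := es p h2 F hF P hP
  have k : ∀ f, Mor F (VV v) f → (∀ u ∈ VV v, f u ∈ VV v) → (∀ u ∈ ZZ p, f u ∈ ZZ p) → Mor E (VV v) f :=
    fun f hf h1 h3 => by
      obtain ⟨θ, hθ, e⟩ := ex p h2 F hF v hv f hf h1 h3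
      exact ((top_le a h2 hW hθ).mono le_top).congr e
  have hf := mor_af le_top hα
  have hV : ∀ u ∈ VV v, af α u ∈ VV v := fun u => af_mem α
  refine Mor.mem_autGroup (f := af α) ?_ fun _ _ => rfl
  by_cases hZ : ∀ u ∈ ZZ p, af α u ∈ ZZ p
  · exact k _ hf hV hZ
  have hr := (mv p h2 F v hv _ hf hV).resolve_left hZ
  obtain ⟨t, s, e1⟩ := mem_VV_mk (hV ⟨0, 1⟩ (ZZ_le_VV v rfl))
  obtain ⟨t', s', e2⟩ := mem_VV_mk (hV ⟨v, 0⟩ (self_mem_VV v 0))
  have l := mor_lin' hf e1 e2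
  have ht : t ≠ 0 := fun h => hZ fun u hu => by
    rw [show u = ⟨(0 : ZMod p) • v, u.c⟩ from He.ext (by rw [zero_smul]; exact hu) rfl, l, mem_ZZ]
    simp [h]
  obtain ⟨m, hm, em⟩ := sl p h2 F hF v hr 0 t⁻¹ (-t) s (by field_simp; ring)
  obtain ⟨n, hn, en⟩ := sl p h2 E hE v (hR hr) s (-t⁻¹) t 0 (by field_simp; ring)
  have mV : ∀ u ∈ VV v, m u ∈ VV v := fun u hu => by
    obtain ⟨x, y, rfl⟩ := mem_VV_mk hu
    rw [em]; exact mk_mem_VV _ _ _
  have h3 := k _ (hf.comp hm hV) (fun u hu => mV _ (hV u hu)) fun u hu => by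
    rw [show u = ⟨(0 : ZMod p) • v, u.c⟩ from He.ext (by rw [zero_smul]; exact hu) rfl]
    simp only [l, em, mem_ZZ]
    rw [← zero_smul (ZMod p) v]
    congr 1
    ring
  refine (h3.comp hn fun u hu => mV _ (hV u hu)).congr fun u hu => ?_
  obtain ⟨x, y, e⟩ := mem_VV_mk (hV u hu)
  simp only [e, em, en]
  exact mk_eq (by field_simp; ring) (by field_simp; ring)

theorem jobCon : JobCon := by
  intro a es ex mv p _ h2 F hF ad h
  have k : ∀ P, F.IsEssential p P → ∃ w ∈ RF F, P = VV w := fun P hP => by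
    obtain ⟨w, hw, rfl⟩ := es p h2 F hF P hP
    refine ⟨w, by_contra fun hr => ((isEssential_iff pgroup_top hF).1 hP).2.2 fun α hα => ?_, rfl⟩
    have hf := mor_af le_top hα
    have hV : ∀ u ∈ VV w, af α u ∈ VV w := fun u => af_mem α
    obtain ⟨θ, hθ, e⟩ := ex p h2 F hF w hw _ hf hV ((mv p h2 F w hw _ hf hV).resolve_right hr)
    exact mem_extSub_of_ext (VV_lt_top hw) hθ e
  rcases (RF F).eq_empty_or_nonempty with e | ⟨v, hv⟩
  · exact H9.isRealizable_top pgroup_top hF (isNormal_top_of_no_essential pgroup_top hF fun P hP => by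
      obtain ⟨w, hw, -⟩ := k P hP
      rw [e] at hw
      exact hw)
  refine H9.isRealizable_of_isNormal pgroup_top hF (isNormal_of_essential pgroup_top hF fun P hP => ?_)
    (cen_VV h2 hv.1)
  rcases hP with rfl | hP
  · refine ⟨le_top, fun α hα x ⟨t, ht⟩ => ?_⟩
    obtain ⟨s, A, hA, e⟩ := top_form a h2 (mor_af le_rfl hα)
    rw [e, mem_VV_iff hv.1, conj_v, sd_v, ht, act_smul, om_smul_right, h v hv _ (ad.inv A hA v hv), mul_zero]
  · obtain ⟨w, hw, rfl⟩ := k P hP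
    rw [VV_eq hv.1 hw.1 (h v hv w hw)]
    exact ⟨le_rfl, fun α _ _ => af_mem α⟩

theorem jobAdm : JobAdm := by
  intro a ex sl p _ h2 F hF
  refine ⟨fun hd => ?_, fun v hv => hv.1, fun v hv t ht => ?_, fun A hA v hv => ?_, fun v hv t ht => ?_⟩
  · obtain ⟨⟨A, hA⟩, ho⟩ := exists_prime_orderOf_dvd_card' p hd
    have ho' : orderOf A = p := (orderOf_coe (⟨A, hA⟩ : WF F)).trans ho
    have hAp : A ^ p = 1 := orderOf_dvd_iff_pow_eq_one.1 ho'.dvd
    obtain ⟨α, hα, e⟩ := (mem_WF.1 hA).exists_aut' fun _ _ => trivial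
    have hpw : ∀ n : ℕ, ∀ u, af (α ^ n) u = sd (A ^ n) u := fun n => by
      induction n with
      | zero => intro u; simp
      | succ n ih => intro u; rw [pow_succ, pow_succ, af_mul_apply, e u trivial, ih, map_mul, MulAut.mul_apply]
    have h1 : α ^ p = 1 := MulEquiv.ext fun x => Subtype.ext (by
      rw [← af_coe, hpw, hAp]; simp)
    obtain ⟨b, -, hb⟩ := (sylIn_Inn_top pgroup_top hF).exists_conj (C := zpowers α)
      (isPGroup_iff_forall.2 fun g ⟨n, hn⟩ => ⟨1, by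
        rw [← hn, pow_one, ← _root_.zpow_natCast, ← _root_.zpow_mul, mul_comm, _root_.zpow_mul,
          _root_.zpow_natCast, h1, _root_.one_zpow]⟩)
      (zpowers_le.2 hα)
    have h3 := conj_mem_Inn (α := b⁻¹) (hb α (mem_zpowers α))
    rw [show b⁻¹ * (b * α * b⁻¹) * b⁻¹⁻¹ = α by group] at h3
    obtain ⟨s, -, hs⟩ := mem_Inn.1 h3
    have h4 : A = 1 := G2.ext_act fun v => by
      have := congrArg He.v ((e ⟨v, 0⟩ trivial).symm.trans (hs _ trivial))
      simpa using this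
    rw [h4, orderOf_one] at ho'
    exact (Fact.out : p.Prime).one_lt.ne ho'
  · obtain ⟨hv, f, hf, e⟩ := hv
    obtain ⟨n, hn⟩ := exists_pow (⟨v, 0⟩ : He p) t
    rw [mul_zero] at hn
    refine ⟨smul_ne_zero ht hv, f, hf.mono (zpowers_le.2 (hn ▸ npow_mem_zpowers _ n)), ?_⟩
    rw [← hn, hf.map_pow (mem_zpowers _)]
    exact pow_mem (show f ⟨v, 0⟩ ∈ ZZ p from e) n
  · obtain ⟨hv, f, hf, e⟩ := hv
    have k : sd A⁻¹ ⟨act A v, 0⟩ = (⟨v, 0⟩ : He p) := by rw [sd_mk, act_inv_act, mul_zero]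
    refine ⟨mt act_eq_zero.1 hv, _, ((mem_WF.1 (inv_mem hA)).mono le_top).comp hf fun x ⟨n, hn⟩ => ?_, ?_⟩
    · rw [← hn, map_zpow, k]; exact zpow_mem_zpowers _ n
    · simpa only [k] using e
  · obtain ⟨f, hf, e⟩ := sl p h2 F hF v hv t 0 0 t⁻¹ (by field_simp; ring)
    obtain ⟨θ, hθ, e'⟩ := ex p h2 F hF v hv.1 f hf (fun u hu => by
      obtain ⟨x, y, rfl⟩ := mem_VV_mk hu
      rw [e]; exact mk_mem_VV _ _ _) fun u hu => by
        rw [show u = ⟨(0 : ZMod p) • v, u.c⟩ from He.ext (by rw [zero_smul]; exact hu) rfl, e, mem_ZZ]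
        simp
    obtain ⟨s, A, hA, k⟩ := top_form a h2 hθ
    refine ⟨A, hA, ?_, ?_⟩
    · have := congrArg He.v ((k _).symm.trans ((e' _ (mk_mem_VV v 1 0)).trans (e 1 0)))
      simpa using this
    · have := congrArg He.c ((k _).symm.trans ((e' _ (mk_mem_VV v 0 1)).trans (e 0 1)))
      rw [conj_c] at this
      simpa using this

end H9.RV
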