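/- Tower RV (row S5207): the assembly. -/
import Cfsg.Agent.H9.RVDet
import Cfsg.Agent.H9.RVTwo
import Cfsg.Agent.H6.RVAut
import Cfsg.Agent.H71.RVL
import Cfsg.Agent.H71.RVTh
import Cfsg.Agent.H71.RVTits
import Cfsg.Agent.H90.RFAsm
import Cfsg.Agent.H94.Tr4

set_option autoImplicit false
set_option linter.unusedSectionVars false

open Subgroup Cfsg H92

universe u

namespace H9.RV

variable {p : ℕ} [hp : Fact p.Prime]

theorem adm_F (h2 : p ≠ 2) {F : FusionSystem (⊤ : Subgroup (He p))} (hF : F.IsSaturated p) :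
    Adm p (WF F) (RF F) := jobAdm H6.RV.jobAut jobExt jobSL p h2 F hF

/-- the system of a group which realizes a pair -/
theorem pull {G : Type} [Group G] [Finite G] {ι : He p →* G} (hι : Function.Injective ι) {T : Sylow p G}
    (hT : (T : Subgroup G) = ι.range) : ∃ E : FusionSystem (⊤ : Subgroup (He p)), E.IsSaturated p ∧
      E.IsRealizable p ∧ WF E = WG ι ∧ RF E = RG ι := by
  have hS : (T : Subgroup G) = (ι.comp (⊤ : Subgroup (He p)).subtype).range := by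
    rw [hT]
    exact le_antisymm (fun _ ⟨c, e⟩ => ⟨⟨c, trivial⟩, e⟩) fun _ ⟨c, e⟩ => ⟨_, e⟩
  obtain ⟨E, hE, re⟩ := H9.exists_pull (hι.comp (subtype_injective _)) T hS
  refine ⟨E, hE, H9.isRealizable_of re T hS, Subgroup.ext fun A => ?_, Set.ext fun v => and_congr_right
    fun _ => ⟨fun ⟨f, hf, e⟩ => ?_, fun ⟨g, c, e⟩ => ?_⟩⟩
  · rw [mem_WF, H90.RF.real_iff re hι, mem_WG]
    exact exists_congr fun g => ⟨fun h u => (h u trivial).symm, fun h u _ => (h u).symm⟩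
  · obtain ⟨g, hg⟩ := (H90.RF.real_iff re hι).1 hf
    exact ⟨g, (f ⟨v, 0⟩).c, by rw [← hg _ (mem_zpowers _)]; exact congrArg ι (He.ext e rfl)⟩
  · refine ⟨fun u => Function.invFun ι (g * ι u * g⁻¹), (H90.RF.real_iff re hι).2 ⟨g, fun u ⟨n, hn⟩ => ?_⟩, ?_⟩
    · refine Function.invFun_eq ⟨(⟨0, c⟩ : He p) ^ n, ?_⟩
      rw [← hn, map_zpow, map_zpow, ← e, conj_zpow]
    · simp only [e, Function.leftInverse_invFun hι _]

theorem Real.adm (h2 : p ≠ 2) {W : Subgroup (G2 p)} {R : Set (V2 p)} (h : Real p W R) : Adm p W R := by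
  obtain ⟨G, _, _, ι, hι, ⟨T, hT⟩, rfl, rfl⟩ := h
  obtain ⟨E, hE, -, e1, e2⟩ := pull hι hT
  rw [← e1, ← e2]
  exact adm_F h2 hE

theorem of_real (h2 : p ≠ 2) {F : FusionSystem (⊤ : Subgroup (He p))} (hF : F.IsSaturated p)
    (h : Real p (WF F) (RF F)) : F.IsRealizable p := by
  obtain ⟨G, _, _, ι, hι, ⟨T, hT⟩, a, b⟩ := h
  obtain ⟨E, hE, ⟨X, i, j, κ, re, hκ⟩, e1, e2⟩ := pull hι hT
  have d := jobDet H6.RV.jobAut jobEss jobExt jobMv jobSL p h2
  have l1 : F ≤ E := d F E hF hE (e1.trans a).ge (e2.trans b).ge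
  have l2 : E ≤ F := d E F hE hF (e1.trans a).le (e2.trans b).le
  exact ⟨X, i, j, κ, ⟨re.1, fun P h φ k => (Iff.intro (l1 P ·) (l2 P ·)).trans (re.2 P h φ k)⟩, hκ⟩

/-- the pair of a group with three radical subgroups -/
theorem of_three (iso : JobIso.{0}) (h2 : p ≠ 2) {G : Type} [Group G] [Finite G] {P : Sylow p G}
    (h : H30.Rv.Three p P) : ∃ W R, Real p W R ∧ Thr R ∧ Nat.card W = H71.RV.ow (P : Subgroup G) := by
  obtain ⟨h1, h3, h4, x, v, hx, hx1, hc, hv, hcj, hn, hi⟩ := h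
  obtain ⟨e⟩ := iso p h2 P h1 h3 h4
  let ι : He p →* G := (P : Subgroup G).subtype.comp e.symm.toMonoidHom
  have hι : Function.Injective ι := (subtype_injective _).comp e.symm.injective
  have hr : (P : Subgroup G) = ι.range :=
    le_antisymm (fun g hg => ⟨e ⟨g, hg⟩, by simp [ι]⟩) fun _ ⟨u, hu⟩ => hu ▸ (e.symm u).2
  refine ⟨_, _, ⟨G, _, inferInstance, ι, hι, ⟨P, hr⟩, rfl, rfl⟩, ?_, by
    rw [hr]; exact H6.RV.jobCard H6.RV.jobAut p h2 G ι hι⟩
  obtain ⟨z, rfl⟩ := hr.le hx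
  choose y hy using fun i => hr.le (hv i)
  have hz : z ∈ ZZ p := mem_ZZ_of_comm h2 fun u => hι (by
    rw [map_mul, map_mul]; exact hc _ (hr.ge ⟨u, rfl⟩))
  have hzc : z.c ≠ 0 := fun k => hx1 (by rw [show z = 1 from He.ext hz k, map_one])
  have hZ : ∀ u ∈ ZZ p, ι u ∈ zpowers (ι z) := fun u hu => by
    obtain ⟨n, hn⟩ := exists_pow z (u.c / z.c)
    rw [show u = z ^ n from by
      rw [hn]; exact He.ext (by rw [(hu : u.v = 0), (hz : z.v = 0), smul_zero]) (by field_simp), map_pow]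
    exact npow_mem_zpowers _ n
  have y0 : ∀ i, (y i).v ≠ 0 := fun i k => hn i (hy i ▸ hZ _ k)
  have yR : ∀ i, (y i).v ∈ RG ι := fun i => by
    obtain ⟨g, hg⟩ := isConj_iff.1 (hcj i).symm
    obtain ⟨s, hs⟩ := exists_conj h2 (y0 i) 0 (y i).c
    refine ⟨y0 i, g * ι s, z.c, ?_⟩
    rw [show (⟨0, z.c⟩ : He p) = z from He.ext hz.symm rfl, ← hg, ← hy i,
      show y i = s * ⟨(y i).v, 0⟩ * s⁻¹ from hs.symm, map_mul, map_mul, map_inv, conj_v]
    group
  have yo : ∀ i j, i ≠ j → om (y i).v (y j).v ≠ 0 := fun i j hij k => hi i j hij (by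
    obtain ⟨t, ht⟩ := (om_eq_zero (y0 i)).1 k
    obtain ⟨n, hn⟩ := exists_pow (y i) t
    rw [← hy j, ← hy i, show y j = ⟨0, (y j).c - t * (y i).c⟩ * y i ^ n from by
      rw [hn]; exact He.ext (by simp [ht]) (by simp), map_mul, map_pow]
    exact mul_mem (mem_sup_left (hZ _ rfl)) (mem_sup_right (npow_mem_zpowers _ n)))
  exact ⟨_, yR 0, _, yR 1, _, yR 2, yo 0 1 (by decide), yo 0 2 (by decide), yo 1 2 (by decide)⟩

/-- the remaining slots -/
structure Jobs : Prop where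
  iso0 : JobIso.{0}
  P : JobP
  N5 : JobN 5
  N13 : JobN 13
  N3 : JobN3
  M : H30.Rv.Mon13

theorem real_of_thr (J : Jobs) (h2 : p ≠ 2) (h7 : p ≠ 7) {W : Subgroup (G2 p)} {R : Set (V2 p)}
    (a : Adm p W R) (t : Thr R) : Real p W R := by
  rcases J.P p h2 W R a t with rfl | rfl | rfl | rfl
  · obtain ⟨T, _, _, P, X, _, _, Q, hP, hQ, e⟩ := H71.RV.Ti.pair
    obtain ⟨W1, R1, r1, t1, c1⟩ := of_three J.iso0 h2 hP
    obtain ⟨W2, R2, r2, t2, c2⟩ := of_three J.iso0 h2 hQ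
    obtain ⟨k, n⟩ := J.N3 W R a t
    have k1 := (J.N3 W1 R1 (r1.adm h2) t1).1
    have k2 := (J.N3 W2 R2 (r2.adm h2) t2).1
    rcases k with k | k
    · exact (n W1 R1 (r1.adm h2) t1 (by omega)).real r1
    · exact (n W2 R2 (r2.adm h2) t2 (by omega)).real r2
  · obtain ⟨G, _, _, P, hP⟩ := H71.RV.Th.three
    obtain ⟨W1, R1, r1, t1, -⟩ := of_three J.iso0 h2 hP
    exact (J.N5 W W1 R R1 a t (r1.adm h2) t1).real r1
  · exact absurd rfl h7
  · obtain ⟨G, _, _, P, hP⟩ := J.M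
    obtain ⟨W1, R1, r1, t1, -⟩ := of_three J.iso0 h2 hP
    exact (J.N13 W W1 R R1 a t (r1.adm h2) t1).real r1

theorem core (J : Jobs) (h2 : p ≠ 2) (h7 : p ≠ 7) {F : FusionSystem (⊤ : Subgroup (He p))}
    (hF : F.IsSaturated p) : F.IsRealizable p := by
  have a := adm_F h2 hF
  by_cases c : ∀ v ∈ RF F, ∀ w ∈ RF F, om v w = 0
  · exact jobCon H6.RV.jobAut jobEss jobExt jobMv p h2 F hF a c
  push Not at c
  refine of_real h2 hF ?_
  by_cases t : Thr (RF F)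
  · exact real_of_thr J h2 h7 a t
  · obtain ⟨W', m, cj⟩ := jobTwo p h2 _ _ a c t
    exact cj.real (H71.RVL.jobL p h2 W' m)

theorem main (J : Jobs) (iso : JobIso.{u}) {Ω : Type u} [Group Ω] {S : Subgroup Ω} [Finite S] (p : ℕ)
    [Fact p.Prime] (F : FusionSystem S) (hF : F.IsSaturated p) (h2 : p ≠ 2) (h7 : p ≠ 7)
    (hE : IsExtraspecial p S) (hc : Nat.card S = p ^ 3) (he : Monoid.exponent S = p) : F.IsRealizable p := by
  obtain ⟨e⟩ := iso p h2 S hE hc he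
  obtain ⟨b, hi⟩ := H94.exists_pIso_hom e.toMonoidHom e.injective
  rw [MonoidHom.range_eq_top.2 e.surjective] at hi
  obtain ⟨E, tr⟩ := hi.exists_tr F
  exact tr.symm.isRealizable' (core J h2 h7 (tr.isSaturated hF))

end H9.RV
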