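/- Tower RV (row S5207): everything but the Monster. -/
import Cfsg.Agent.H9.RVAsm
import Cfsg.Agent.H6.RVIso
import Cfsg.Agent.H71.RVP
import Cfsg.Agent.H60.RvN
import Cfsg.Agent.H12.RVN3

set_option autoImplicit false

open Cfsg

namespace H9.RV

theorem fin (m : H30.Rv.Mon13) {Ω : Type*} [Group Ω] {S : Subgroup Ω} [Finite S] (p : ℕ)
    [Fact p.Prime] (F : FusionSystem S) (hF : F.IsSaturated p) (h2 : p ≠ 2) (h7 : p ≠ 7)
    (hE : IsExtraspecial p S) (hc : Nat.card S = p ^ 3) (he : Monoid.exponent S = p) : F.IsRealizable p :=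
  main ⟨H6.RV.jobIso, H71.RVP.jobP, H60.RvN.jobN5, H60.RvN.jobN13, H12.RVN3.jobN3, m⟩ H6.RV.jobIso p F hF h2 h7
    hE hc he

end H9.RV
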