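/- Group-theoretic lemmas on `p`-groups with a normal subgroup of order at most `p ^ 3` and
exponent `p`, for `p ≥ 5`. -/
import Cfsg.Agent.H9.EssSmall
import Cfsg.Agent.H9.GenExtra
import Cfsg.Agent.H48.Omega
import Cfsg.Agent.H19.Metacyclic
import Cfsg.Agent.S0120

set_option autoImplicit false

namespace H9
open Cfsg Subgroup H92
open scoped commutatorElement

variable {G : Type*} [Group G] {p : ℕ} [hp : Fact p.Prime]

theorem regAt_of_card_commutator_le [Finite G] (hp5 : 5 ≤ p) (hG : IsPGroup p G)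
    (h : Nat.card (commutator G) ≤ p ^ 3) : H19.RegAt p 1 G :=
  H19.regAt_one_of_class_lt (eq_bot_iff.mpr ((Subgroup.lowerCentralSeries_antitone ⊤
    (show 4 ≤ p - 1 by omega)).trans (H48.commutator_commutator_top_eq_bot_of_card_le hG _
      (H48.card_commutator_top_le hG (commutator G) h)).le))

theorem mul_pow_of_small [Finite G] (hp5 : 5 ≤ p) (hG : IsPGroup p G) {P : Subgroup G} [P.Normal]
    (hc : Nat.card P ≤ p ^ 3) (he : ∀ y ∈ P, y ^ p = 1) (t : G) {w : G} (hw : w ∈ P) :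
    (t * w) ^ p = t ^ p ∧ Commute (t ^ p) w := by
  have hH := hG.to_subgroup (P ⊔ zpowers t)
  have ht : t ∈ P ⊔ zpowers t := mem_sup_right (mem_zpowers t)
  have h1 : ∀ a b : ↥(P ⊔ zpowers t), ⁅a, b⁆ ∈ P.subgroupOf (P ⊔ zpowers t) :=
    commutatorElement_mem_of_sup_zpowers_eq_top (x := ⟨t, ht⟩) (le_centralMod _) (by
      rw [eq_top_iff]
      rintro ⟨y, hy⟩ -
      obtain ⟨n, hn, k, rfl⟩ := mem_sup_zpowers.mp hy
      exact mem_sup_zpowers.mpr ⟨⟨n, mem_sup_left hn⟩, hn, k, rfl⟩)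
  have hR := regAt_of_card_commutator_le hp5 hH ((card_le_of_le (commutator_le.mpr
    fun a _ b _ => h1 a b)).trans ((Nat.card_congr (subgroupOfEquivOfLe le_sup_left).toEquiv).trans_le hc))
  have h2 := hR.mul_pow_of_right hH (k := 1) ⟨t, ht⟩ (y := ⟨w, mem_sup_left hw⟩)
    (Subtype.ext (by simpa using he w hw))
  have h3 := (hR.commute_pow_iff hH 1 ⟨t, ht⟩ ⟨w, mem_sup_left hw⟩).mpr
    (Subtype.ext (by rw [pow_one]; exact he _ (h1 ⟨t, ht⟩ ⟨w, mem_sup_left hw⟩)))
  exact ⟨by simpa using congrArg Subtype.val h2, by simpa using h3.map (Subgroup.subtype _)⟩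

theorem cast_eq_of_zpow_eq {y : G} (hy : y ^ p = 1) (h1 : y ≠ 1) {m n : ℤ} (h : y ^ m = y ^ n) :
    (m : ZMod p) = n := by
  rw [zpow_eq_zpow_iff_modEq, orderOf_eq_prime hy h1] at h
  exact (ZMod.intCast_eq_intCast_iff _ _ _).mpr h

/-- An automorphism of a group of maximal class and order `p ^ 4` and rank two acts by a sign on
the uniform elements of order `p`. -/
theorem sq_eq_one_of_aut [Finite G] (hp5 : 5 ≤ p) (hG : IsPGroup p G) {P : Subgroup G} [P.Normal]
    (hP : ∀ y, y ∈ P ↔ y ^ p = 1) (hc : Nat.card P ≤ p ^ 3) {z e t : G} (hz : z ∈ P)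
    (hZ : ∀ y ∈ P, (∀ r ∈ P, Commute y r) → y ∈ zpowers z) (hzc : z ∈ center G) (he : e ∈ P)
    (ht : t ∉ P) (htp : t ^ p ∈ P) (htop : P ⊔ zpowers t = ⊤) (h1 : ∀ r ∈ P, ⁅r, e⁆ ∈ zpowers z)
    (h2 : ¬ Commute ⁅t, e⁆ e) (γ : MulAut G) {b : ℕ} (hb : γ e = e ^ b) :
    (b : ZMod p) ^ 2 = 1 := by
  have hγ : ∀ y ∈ P, γ y ∈ P := fun y hy => (hP _).mpr (by rw [← map_pow, (hP y).mp hy, map_one])
  have hZc : zpowers z ≤ center G := zpowers_le.mpr hzc
  have hZP : zpowers z ≤ P := zpowers_le.mpr hz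
  have := normal_of_le_center' hZc
  obtain ⟨a, ha⟩ := hZ _ (hγ z hz) fun r _ =>
    (commute_of_mem_center (apply_mem_of_characteristic γ hzc) r).symm
  have hγZ : ∀ y ∈ zpowers z, γ y = y ^ a := by
    rintro _ ⟨i, rfl⟩
    simp only at ha ⊢
    rw [map_zpow, ← ha, ← zpow_mul, ← zpow_mul, mul_comm]
  obtain ⟨r, hr, k, hk⟩ := mem_sup_zpowers.mp (htop.ge (mem_top (γ t)))
  have h3 : t ^ p ∈ zpowers z := hZ _ htp fun r hr =>
    (mul_pow_of_small hp5 hG hc (fun y hy => (hP y).mp hy) t hr).2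
  have h4 : (a : ZMod p) = k := cast_eq_of_zpow_eq ((hP _).mp htp) (mt (hP t).mpr ht) (by
    have h5 := (mul_pow_of_small hp5 hG hc (fun y hy => (hP y).mp hy) (t ^ k)
      (‹P.Normal›.conj_mem' r hr (t ^ k))).1
    rw [← hγZ _ h3, map_pow, hk, ← zpow_natCast t, ← zpow_mul, mul_comm (p : ℤ), zpow_mul,
      zpow_natCast, ← h5]
    congr 1
    group)
  have h5 : ∀ s g : G, ⁅⁅s, e⁆, g⁆ ∈ zpowers z := fun s g => by
    have h6 : ⁅⁅s, e⁆, g⁆ ∈ ⁅⁅P, ⊤⁆, ⊤⁆ := commutator_mem_commutator (by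
      rw [commutator_comm]; exact commutator_mem_commutator (mem_top s) he) (mem_top g)
    refine hZ _ ((commutator_le_left _ _).trans (commutator_le_left _ _) h6) fun r _ =>
      (commute_of_mem_center (H48.le_center_of_card_le hG _ ?_ h6) r).symm
    simpa using H48.card_commutator_top_le hG _ (k := 1) (H48.card_commutator_top_le hG P hc)
  let π := QuotientGroup.mk' (zpowers z)
  have h6 : ∀ s g : G, Commute (π g) ⁅π s, π e⁆ := fun s g => by
    rw [← map_commutatorElement, Commute.symm_iff, ← commutatorElement_eq_one_iff_commute,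
      ← map_commutatorElement]
    exact (QuotientGroup.eq_one_iff _).mpr (h5 s g)
  have h7 : π (γ ⁅t, e⁆) = π (⁅t, e⁆ ^ (k * b)) := by
    have h8 : ⁅π r, π e⁆ = 1 := by
      rw [← map_commutatorElement]
      exact (QuotientGroup.eq_one_iff _).mpr (h1 r hr)
    rw [map_commutatorElement, hb, map_commutatorElement, map_pow,
      commutatorElement_pow_right (h6 _ _), hk, map_mul, commutatorElement_mul_left', h8, mul_one,
      (h6 _ _).eq, mul_inv_cancel_right, map_zpow, commutatorElement_zpow_left (h6 _ _), map_zpow,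
      map_commutatorElement, zpow_mul, zpow_natCast]
  obtain ⟨w, hw, e1⟩ : ∃ w ∈ zpowers z, γ ⁅t, e⁆ = ⁅t, e⁆ ^ (k * b) * w :=
    ⟨_, QuotientGroup.eq.mp h7.symm, (mul_inv_cancel_left _ _).symm⟩
  have h8 : ∀ g, Commute g ⁅⁅t, e⁆, e⁆ := commute_of_mem_center (hZc (h5 t e))
  have h9 : (a : ZMod p) = ((k * b * b : ℤ) : ZMod p) := cast_eq_of_zpow_eq
    ((hP _).mp (hZP (h5 t e))) (mt commutatorElement_eq_one_iff_commute.mp h2) (by
      have h10 : ⁅γ ⁅t, e⁆, e⁆ = ⁅⁅t, e⁆, e⁆ ^ (k * b) := by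
        rw [e1, commutatorElement_mul_left', commutatorElement_eq_one_iff_commute.mpr
          (commute_of_mem_center (hZc hw) e).symm, mul_one, mul_inv_cancel, one_mul,
          commutatorElement_zpow_left (h8 _)]
      rw [← hγZ _ (h5 t e), map_commutatorElement γ ⁅t, e⁆, hb,
        commutatorElement_pow_right (h10 ▸ (h8 e).zpow_right _), h10, ← zpow_natCast,
        ← zpow_mul])
  have h10 : (a : ZMod p) ≠ 0 := fun h => ht ((hP t).mpr (γ.injective (by
    obtain ⟨j, rfl⟩ := (ZMod.intCast_zmod_eq_zero_iff_dvd a p).mp h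
    rw [hγZ _ h3, zpow_mul, zpow_natCast, (hP _).mp htp, one_zpow, map_one])))
  push_cast at h9
  rw [← h4] at h9
  exact mul_left_cancel₀ h10 (by linear_combination -h9)

variable {Ω : Type*} [Group Ω]

theorem af_fix_of_omega (hp2 : p ≠ 2) {D E : Subgroup Ω} [Finite D] (hD : IsPGroup p D)
    (hDE : D ≤ E) {α : MulAut E} (hα : (orderOf α).Coprime p) (h1 : ∀ y ∈ D, af α y ∈ D)
    (h : ∀ y ∈ D, y ^ p = 1 → af α y = y) {y : Ω} (hy : y ∈ D) : af α y = y := by
  let β : stab E D := ⟨α, mem_stab_of_maps hDE h1⟩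
  have h2 : res hDE β = 1 := Cfsg.Agent.S0120.result hp2 hD _
    (Nat.Coprime.coprime_dvd_left (orderOf_map_dvd _ β) (by rwa [← orderOf_coe]))
    fun x hx => Subtype.ext (by
      rw [← af_coe, af_res hDE β x.2]
      exact h x x.2 (by simpa using congrArg Subtype.val hx))
  rw [← af_res hDE β hy, h2, af_one_apply]

end H9
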