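/- Fusion systems over `p`-groups of rank two for `p ≥ 5`. -/
import Cfsg.Agent.H9.Rk2Grp
import Cfsg.Agent.H9.ExtraAut
import Cfsg.Agent.H9.CenSq

set_option autoImplicit false

namespace H9
open Cfsg Cfsg.FusionSystem Subgroup H92
open scoped commutatorElement MatrixGroups

variable {p : ℕ} [hp : Fact p.Prime]

theorem cast_eq_one_of_aut {G : Type*} [Group G] [Finite G] (hp5 : 5 ≤ p) (hG : IsPGroup p G)
    {P E : Subgroup G} [P.Normal] [E.Normal] (hP : ∀ y, y ∈ P ↔ y ^ p = 1)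
    (hc : Nat.card P ≤ p ^ 3) (hPE : P ≤ E) (hE : ∀ y ∈ E, ∃ w ∈ P, w⁻¹ * y ∈ centralizer (P : Set G))
    {x : G} (hx : x ∉ E) (hxp : x ^ p ∈ E) (γ : MulAut G) (h1 : ∀ y ∈ E, γ y ∈ E)
    (h2 : ∀ y ∈ E, y ∈ centralizer (P : Set G) → γ y = y) {k : ℕ} (hk : (x ^ k)⁻¹ * γ x ∈ E) :
    (k : ZMod p) = 1 := by
  by_contra h
  have hk' : ¬ (p : ℤ) ∣ k - 1 := fun h' => h (by
    have := (ZMod.intCast_zmod_eq_zero_iff_dvd _ p).mpr h'
    push_cast at this
    exact sub_eq_zero.mp this)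
  have pw := fun t w hw => mul_pow_of_small hp5 hG hc (fun y hy => (hP y).mp hy) t (w := w) hw
  let π := QuotientGroup.mk' E
  have hπ : ∀ y, π y = 1 ↔ y ∈ E := QuotientGroup.eq_one_iff
  have e1 : π (γ x) = π x ^ k := (QuotientGroup.eq.mpr hk).symm
  obtain ⟨y, hy⟩ : ∃ y, y = x⁻¹ * γ x := ⟨_, rfl⟩
  have e2 : π y = π x ^ ((k : ℤ) - 1) := by rw [hy, map_mul, map_inv, e1]; group
  have hyp : y ^ p ∈ E := by
    rw [← hπ, map_pow, e2, ← zpow_natCast, ← zpow_mul, mul_comm, zpow_mul, zpow_natCast, ← map_pow,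
      (hπ _).mpr hxp, one_zpow]
  have e3 : (y ^ k)⁻¹ * γ y ∈ E := by
    have e4 := (hπ _).mpr (h1 _ hk)
    rw [map_mul, map_inv, map_pow, map_mul, map_inv, map_pow, inv_mul_eq_one] at e4
    rw [← hπ, map_mul, map_inv, map_pow, e2, hy, map_mul, map_inv, map_mul, map_inv, ← e4, e1]
    group
  obtain ⟨w, hw, hd⟩ := hE _ e3
  obtain ⟨d, hd'⟩ : ∃ d, d = w⁻¹ * ((y ^ k)⁻¹ * γ y) := ⟨_, rfl⟩
  have hdE : d ∈ E := hd' ▸ mul_mem (inv_mem (hPE hw)) e3
  rw [← hd'] at hd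
  have hyd : Commute y d := by
    have e4 := h2 _ (‹E.Normal›.conj_mem d hdE x) ((normal_centralizer (H := P)).conj_mem d hd x)
    rw [map_mul, map_mul, h2 d hdE hd, map_inv] at e4
    rw [Commute, SemiconjBy, hy, ← mul_right_inj x, ← mul_left_inj (γ x)⁻¹]
    simpa [mul_assoc] using e4
  have e4 : y ^ p = (y ^ k) ^ p * d ^ p := by
    rw [← h2 _ hyp fun r hr => (pw y r hr).2.symm.eq, map_pow, ← (pw (y ^ k) w hw).1, ← Commute.mul_pow
      ((hyd.pow_left k).mul_left (hd w hw)), hd']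
    congr 1
    group
  have e5 : y ^ ((k : ℤ) - 1) * d ∈ P := by
    rw [hP, (hyd.zpow_left _).mul_pow, ← mul_right_inj (y ^ p), mul_one]
    conv_rhs => rw [e4]
    group
  have hyE : y ∈ E := mem_of_zpow_mem hyp hk' ((mul_mem_cancel_right hdE).mp (hPE e5))
  exact hx (mem_of_zpow_mem hxp hk' ((hπ _).mp (by rw [map_zpow, ← e2, hπ]; exact hyE)))

variable {Ω : Type*} [Group Ω] {S : Subgroup Ω} [Finite S] {F : FusionSystem S}

theorem SL2Data.exists_diag_ext (hS : IsPGroup p S) (hF : F.IsSaturated p) {E Q B : Subgroup Ω}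
    {N : Subgroup (MulAut E)} {x : Ω} {π : Ω → Fin 2 → ZMod p} (D : SL2Data F p E Q B N x π)
    (hE : F.IsCentric E) (hQ : Q ≤ E) (h1 : ∀ α ∈ F.autGroup E, ∀ y ∈ Q, af α y ∈ Q)
    (h2 : ∀ α ∈ F.autGroup E, ∀ y ∈ Q, y ∈ B → af α y ∈ B)
    (hN : ∀ b ∈ F.autGroup E, ∀ n ∈ N, b * n * b⁻¹ ∈ N)
    (hx : x ∈ normalizerIn S E) (hxN : cAut E x hx.2 ∈ N) {d : ZMod p} (hd : d ≠ 0) {k : ℕ}
    (hk : k * d = d⁻¹) : ∃ γ ∈ F.autGroup (E ⊔ zpowers x), (orderOf γ).Coprime p ∧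
      (x ^ k)⁻¹ * af γ x ∈ E ∧ (∃ g ∈ F.autGroup E, g ∈ N ∧ ∀ y ∈ E, af γ y = af g y) ∧
      ∀ y ∈ Q, π (af γ y) = ![d⁻¹ * π y 0, d * π y 1] := by
  let m : SL(2, ZMod p) := ⟨!![d⁻¹, 0; 0, d], by simp [Matrix.det_fin_two, hd]⟩
  have hm : m ^ (p - 1) = 1 := Subtype.ext (by
    have : m.1 = Matrix.diagonal ![d⁻¹, d] := by ext i j; fin_cases i <;> fin_cases j <;> simp [m]
    rw [Matrix.SpecialLinearGroup.coe_pow, this, Matrix.diagonal_pow]
    ext i j
    fin_cases i <;> fin_cases j <;> simp [ZMod.pow_card_sub_one_eq_one hd])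
  obtain ⟨g, hg, hgN, hc, e⟩ := D.surj m
  obtain ⟨γ, hγ, e1, e2, e3⟩ := exists_ext_of_conj hS hF hE hg hx
    (D.conj_mem_Inn hE.1 hQ h1 h2 hN hx hxN hg e hk)
  refine ⟨γ, hγ, e2 (hc (Nat.Coprime.coprime_dvd_left (orderOf_dvd_of_pow_eq_one hm) ?_)), e3,
    ⟨g, hg, hgN, e1⟩, fun y hy => ?_⟩
  · exact (Nat.coprime_self_sub_left hp.out.one_le).mpr (Nat.coprime_one_left p)
  · rw [e1 y (hQ hy), e y hy]
    ext i
    fin_cases i <;> simp [m, Matrix.vecHead, Matrix.vecTail]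

theorem SL2Data.conj_triv (hS : IsPGroup p S) {E Q B : Subgroup Ω} {N : Subgroup (MulAut E)} {x : Ω}
    {π : Ω → Fin 2 → ZMod p} (D : SL2Data F p E Q B N x π) (hES : E ≤ S) (hQ : Q ≤ E) (hB : B ≤ Q)
    (h1 : ∀ α ∈ F.autGroup E, ∀ y ∈ Q, af α y ∈ Q) (h2 : ∀ α ∈ F.autGroup E, ∀ y ∈ B, af α y ∈ B)
    {y q : Ω} (hy : y ∈ E) (hq : q ∈ Q) : ⁅y, q⁆ ∈ B := by
  have := finite_of_le hES
  have h3 : ∀ {R : Subgroup Ω}, R ≤ E → (∀ α ∈ F.autGroup E, ∀ y ∈ R, af α y ∈ R) →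
      (R.subgroupOf E).Normal := fun hR h => ⟨fun n hn g => by
    have := h _ (Inn_le_autGroup F hES ⟨g, rfl⟩) n hn
    rwa [af_coe] at this⟩
  have := h3 hQ h1
  have := h3 (hB.trans hQ) h2
  obtain ⟨u, hu, e⟩ := D.coord.surj ![1, 0]
  obtain ⟨v, hv, hv', -, hv2⟩ := exists_central_step (hS.to_le hES) (N := B.subgroupOf E)
    (K := Q.subgroupOf E) fun h => by
      simpa [e] using (D.coord.ker u hu).mpr (h (x := ⟨u, hQ hu⟩) hu)
  have hc : ∀ a ∈ E, ∀ b ∈ Q, a * b * a⁻¹ ∈ Q := fun a ha b hb =>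
    ‹(Q.subgroupOf E).Normal›.conj_mem ⟨b, hQ hb⟩ hb ⟨a, ha⟩
  have hc' : ∀ a ∈ E, ∀ b ∈ B, ⁅a, b⁆ ∈ B := fun a ha b hb => mul_mem
    (‹(B.subgroupOf E).Normal›.conj_mem ⟨b, hQ (hB hb)⟩ hb ⟨a, ha⟩) (inv_mem hb)
  by_cases hqB : q ∈ B
  · exact hc' y hy q hqB
  obtain ⟨g, hg, -, h4⟩ := D.exists_conj h1 hv hq hv' hqB
  have h5 := h2 g hg _ (B.inv_mem (hv2 ⟨_, af_mem g⁻¹ hy⟩))
  change af g ⁅(v : Ω), af g⁻¹ y⁆⁻¹ ∈ B at h5
  rw [commutatorElement_inv, (mulOn_af g).map_commutator (af_mem _ hy) v.2, af_af_inv] at h5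
  rw [← mul_inv_cancel_left (af g v) q, commutatorElement_mul_right']
  exact mul_mem h5 (‹(B.subgroupOf E).Normal›.conj_mem ⟨_, hQ (hB (hc' y hy _ h4))⟩
    (hc' y hy _ h4) ⟨_, af_mem g v.2⟩)

/-- The setting of a saturated fusion system over a `p`-group of rank at most two, `p ≥ 5`, with `P`
the subgroup of elements of order dividing `p`. -/
structure Rk2 (F : FusionSystem S) (p : ℕ) (P : Subgroup Ω) : Prop where
  hS : IsPGroup p S
  hF : F.IsSaturated p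
  hp5 : 5 ≤ p
  mem : ∀ y, y ∈ P ↔ y ∈ S ∧ y ^ p = 1
  card : Nat.card P ≤ p ^ 3
  rank : ∀ A ≤ P, IsMulCommutative A → Nat.card A ≤ p ^ 2

theorem exists_rk2 (hS : IsPGroup p S) (hF : F.IsSaturated p) (hp5 : 5 ≤ p)
    (hr : ∀ E : Subgroup Ω, E ≤ S → IsElementaryAbelian p E → Nat.card E ≤ p ^ 2) :
    ∃ P, Rk2 F p P := by
  have h1 := H48.pRankLE_iff_subgroup.mpr hr
  have h2 := H48.omegaOne_le' (p := p) S
  have h3 : ∀ y ∈ omegaOne p S, y ^ p = 1 := fun y hy => H48.pow_eq_one_of_mem_omegaOne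
    (fun x hx => H48.pow_eq_one_of_mem_Om_of_rank_two (by omega) hS h1 hx) hy
  have := finite_of_le h2
  exact ⟨omegaOne p S, hS, hF, hp5, fun y => ⟨fun hy => ⟨h2 hy, h3 y hy⟩,
    fun hy => H48.mem_omegaOne' hy.1 hy.2⟩, H48.card_le_cube_of_exponent (H48.pRankLE_of_le h1 h2)
    fun x => Subtype.ext (h3 x x.2), fun A hA hc => hr A (hA.trans h2) ⟨hc, fun a ha => h3 a (hA ha)⟩⟩

namespace Rk2
variable {P : Subgroup Ω} (h : Rk2 F p P)
include h

omit hp [Finite S]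

theorem le : P ≤ S := fun y hy => ((h.mem y).mp hy).1

theorem pow {y : Ω} (hy : y ∈ P) : y ^ p = 1 := ((h.mem y).mp hy).2

theorem ne_two : p ≠ 2 := fun e => by have := h.hp5; omega

theorem sc : F.StronglyClosed P := ⟨h.le, fun _ hR φ hφ x => (h.mem _).mpr
  ⟨ext1_coe φ x ▸ (mor_ext1 hφ).mem x.2, by
    rw [← map_pow, show x ^ p = 1 from Subtype.ext (h.pow (hR x.2)), map_one]⟩⟩

theorem normal {R : Subgroup Ω} (hR : R ≤ S) : (P.subgroupOf R).Normal :=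
  ⟨fun _ hn g => conj_mem_of_stronglyClosed h.sc (hR g.2) hn⟩

theorem mem' {R : Subgroup Ω} (hR : R ≤ S) (y : R) : y ∈ P.subgroupOf R ↔ y ^ p = 1 := by
  rw [mem_subgroupOf, h.mem, and_iff_right (hR y.2), Subtype.ext_iff]
  rfl

theorem card' {R : Subgroup Ω} (hR : P ≤ R) : Nat.card (P.subgroupOf R) ≤ p ^ 3 :=
  (Nat.card_congr (subgroupOfEquivOfLe hR).toEquiv).trans_le h.card

end Rk2
namespace Rk2
variable {P : Subgroup Ω} (h : Rk2 F p P)
include h

theorem two_ne : (2 : ZMod p) ≠ 0 := fun e => h.ne_two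
  ((Nat.prime_dvd_prime_iff_eq hp.out Nat.prime_two).mp ((ZMod.natCast_eq_zero_iff 2 p).mp e))

theorem sq_ne : (2 : ZMod p) ^ 2 ≠ 1 := fun e => by
  have h1 := Nat.le_of_dvd three_pos ((ZMod.natCast_eq_zero_iff 3 p).mp (by
    push_cast; linear_combination e))
  have := h.hp5
  omega

omit hp in
theorem mem_normalizer {s : Ω} (hs : s ∈ S) : s ∈ normalizer (P : Set Ω) :=
  have := finite_of_le h.le
  mem_normalizer_of_finite fun _ hy => conj_mem_of_stronglyClosed h.sc hs hy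

theorem pw {t w : Ω} (ht : t ∈ S) (hw : w ∈ P) : (t * w) ^ p = t ^ p := by
  have := h.normal le_rfl
  exact congrArg Subtype.val (mul_pow_of_small h.hp5 h.hS (h.card' h.le)
    (fun y hy => (h.mem' le_rfl y).mp hy) ⟨t, ht⟩ (w := ⟨w, h.le hw⟩) hw).1

theorem index_frattini {Q : Subgroup Ω} (hQ : Q ≤ P) : (frattini Q).index ≤ p ^ 2 := by
  have := finite_of_le (hQ.trans h.le)
  have hQp := h.hS.to_le (hQ.trans h.le)
  rcases IsPGroup.card_eq_or_dvd (hQp.to_subgroup (frattini Q)) with e | e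
  · refine (Nat.le_of_dvd Nat.card_pos (index_dvd_card _)).trans (h.rank Q hQ ⟨⟨fun a b => ?_⟩⟩)
    exact commutatorElement_eq_one_iff_mul_comm.mp
      (mem_bot.mp (card_eq_one.mp e ▸ commutatorElement_mem_frattini hQp a b))
  · refine Nat.le_of_mul_le_mul_left ?_ hp.out.pos
    rw [← pow_succ']
    exact (Nat.mul_le_mul_right _ (Nat.le_of_dvd Nat.card_pos e)).trans ((card_mul_index _).trans_le
      ((card_le_of_le' h.le hQ).trans h.card))

omit h in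
theorem card_eq {E Q : Subgroup Ω} {N : Subgroup (MulAut E)} {x : Ω} {π : Ω → Fin 2 → ZMod p}
    (hQ : Q ≤ S) (D : SL2Data F p E Q (phi Q) N x π) : Nat.card Q = p ^ 2 * Nat.card (phi Q) := by
  have := finite_of_le hQ
  rw [← relIndex_mul_card_le (phi_le Q), D.coord.relIndex, H27.card_fin_zmod]

theorem exists_data {E : Subgroup Ω} (hE : F.IsEssential p E) (hPE : P ≤ E) {N : Subgroup (MulAut E)}
    (hN : ∀ b ∈ F.autGroup E, ∀ n ∈ N, b * n * b⁻¹ ∈ N) {x : Ω} (hx : x ∈ normalizerIn S E)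
    (hxE : x ∉ E) (hxN : cAut E x hx.2 ∈ N) : ∃ π, SL2Data F p E P (phi P) N x π := by
  have := finite_of_le h.le
  have := finite_of_le hE.1.1
  have hP := h.hS.to_le h.le
  have h1 : ∀ α ∈ F.autGroup E, ∀ y ∈ P, af α y ∈ P := fun α hα y hy =>
    (mor_af hE.1.1 hα).mem_of_stronglyClosed h.sc (hPE hy) hy
  exact exists_sl2 h.hS (centralizerIn_le_of_centric hE.1) (essential_radical h.hS h.hF hE) hPE h1
    (fun α hα y _ hy => af_mem_phi hPE (h1 α hα) hy) (fun y hy z hz => commutator_mem_phi hP hy hz)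
    (fun y hy => pow_mem_phi hP hy) (relIndex_phi P ▸ h.index_frattini le_rfl) hN
    (fun α _ _ hc h' => aut_eq_one fun y hy => af_fix_of_omega h.ne_two (h.hS.to_le hE.1.1) le_rfl hc
      (fun y hy => af_mem α hy) (fun y hy e => af_fix_of_phi hP hPE hc h'
        ((h.mem y).mpr ⟨hE.1.1 hy, e⟩)) hy) hx hxE hxN

theorem extraspecial (hc : Nat.card P = p ^ 3) :
    IsExtraspecial p P ∧ ∀ y ∈ P, y ∈ phi P ↔ y ∈ centralizer (P : Set Ω) := by
  have := finite_of_le h.le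
  have hex : IsExtraspecial p P := isExtraspecial_of_card_cube hc fun hab => absurd
    (hc ▸ h.rank P le_rfl hab) (not_le.mpr (pow_lt_pow_right₀ hp.out.one_lt (by omega)))
  refine ⟨hex, fun y hy => ?_⟩
  rw [mem_phi hy, hex.1.2.1, mem_center_iff]
  exact ⟨fun h r hr => congrArg Subtype.val (h ⟨r, hr⟩), fun h r => Subtype.ext (h r r.2)⟩

theorem not_le_ess {E : Subgroup Ω} (hE : F.IsEssential p E) : ¬ P ≤ E := fun hPE => by
  obtain ⟨x, hx, hxE, hxp⟩ := exists_normalizes_pow_mem_top h.hS (essential_lt h.hS h.hF hE)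
  have := finite_of_le h.le
  have hP := h.hS.to_le h.le
  have hR : E ⊔ zpowers x ≤ S := sup_le hE.1.1 (zpowers_le.mpr hx.1)
  have hxR : x ∈ E ⊔ zpowers x := mem_sup_right (mem_zpowers x)
  have hER : E ≤ E ⊔ zpowers x := le_sup_left
  have := finite_of_le hR
  have h1 : ∀ α ∈ F.autGroup E, ∀ y ∈ P, af α y ∈ P := fun α hα y hy =>
    (mor_af hE.1.1 hα).mem_of_stronglyClosed h.sc (hPE hy) hy
  have h2 : ∀ α ∈ F.autGroup E, ∀ y ∈ phi P, af α y ∈ phi P := fun α hα y hy =>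
    af_mem_phi hPE (h1 α hα) hy
  obtain ⟨π₀, D₀⟩ := h.exists_data hE hPE (N := ⊤) (fun _ _ _ _ => mem_top _) hx hxE (mem_top _)
  have hc := card_eq h.le D₀
  have hN : ∀ b ∈ F.autGroup E, ∀ n ∈ fixSub E (phi P), b * n * b⁻¹ ∈ fixSub E (phi P) :=
    fun b hb n hn => conj_mem_fixSub (h2 _ (inv_mem hb)) hn
  have hxN : cAut E x hx.2 ∈ fixSub E (phi P) := fun y hy => by
    rw [af_cAut hx.2 (hPE (phi_le P hy)), eq_comm, ← inv_mul_eq_one, ← mem_bot]
    refine inv_mul_conj_mem_of_relIndex_le h.hS ((phi_le P).trans h.le) bot_le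
      (fun t ht y hy => conj_mem_phi (h.mem_normalizer ht) hy) (by simp) ?_ hx.1 hy
    rw [relIndex_bot_left]
    exact Nat.le_of_mul_le_mul_left (by rw [← hc, ← pow_succ]; exact h.card) (pow_pos hp.out.pos 2)
  obtain ⟨π, D⟩ := h.exists_data hE hPE hN hx hxE hxN
  have := finite_of_le (phi_le P)
  rcases IsPGroup.card_eq_or_dvd (hP.to_le (phi_le P)) with h3 | h3
  · rw [card_eq_one] at h3
    obtain ⟨γ, hγ, e1, e2, -, e3⟩ := D.exists_diag_ext h.hS h.hF hE.1 hPE h1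
      (fun α hα y _ => h2 α hα y) hN hx hxN (d := -1) (by simp) (k := 1) (by simp)
    have hγ' := mor_af hR hγ
    have e4 : ∀ y ∈ P, af γ y = y⁻¹ := fun y hy => by
      have h4 := hγ'.mem_of_stronglyClosed h.sc (hER (hPE hy)) hy
      rw [← inv_mul_eq_one, ← mem_bot, ← h3, ← D.coord.eq_iff h4 (inv_mem hy), e3 y hy,
        D.coord.inv hy]
      ext i
      fin_cases i <;> simp
    have e5 : ∀ y ∈ E ⊔ zpowers x, af γ (af γ y) = y := fun y hy => by
      rw [← af_mul_apply, ← pow_two]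
      refine af_fix_of_omega h.ne_two (h.hS.to_le hR) le_rfl
        (e1.coprime_dvd_left (orderOf_pow_dvd 2)) (fun y hy => af_mem _ hy) (fun y hy e => ?_) hy
      have h4 := (h.mem y).mpr ⟨hR hy, e⟩
      rw [pow_two, af_mul_apply, e4 y h4, e4 _ (inv_mem h4), inv_inv]
    rw [pow_one] at e2
    obtain ⟨u, hu⟩ : ∃ u, u = x⁻¹ * af γ x := ⟨_, rfl⟩
    rw [← hu] at e2
    obtain ⟨j, hj⟩ := IsPGroup.iff_orderOf.mp h.hS ⟨u, hE.1.1 e2⟩
    obtain ⟨m, hm⟩ := exists_pow_eq_self_of_coprime (x := u) (n := 2) (by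
      rw [← orderOf_coe] at hj
      exact hj ▸ ((Nat.coprime_primes Nat.prime_two hp.out).mpr h.ne_two.symm).pow_right j)
    have e6 : af γ (x * u ^ m) = x * u ^ m := by
      have e7 : af γ u = u⁻¹ := by
        rw [hu, hγ'.map_mul (inv_mem hxR) (af_mem γ hxR), hγ'.map_inv hxR, e5 x hxR, mul_inv_rev,
          inv_inv]
      rw [hγ'.map_mul hxR (pow_mem (hER e2) m), hγ'.map_pow (hER e2), e7,
        ← mul_inv_cancel_left x (af γ x), ← hu, mul_assoc, inv_pow, mul_right_inj,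
        mul_inv_eq_iff_eq_mul, ← pow_two, ← pow_mul, mul_comm m, pow_mul, hm]
    have hy := mul_mem hxR (pow_mem (hER e2) m)
    obtain ⟨i, hi, hi'⟩ := exists_pow_not_mem_pow_mem (h.hS.to_le hR) (N := ⊥) (x := ⟨_, hy⟩)
      fun e => hxE ((mul_mem_cancel_right (pow_mem e2 m)).mp
        ((show x * u ^ m = 1 from congrArg Subtype.val (mem_bot.mp e)).symm ▸ E.one_mem))
    have e7 := e4 _ ((h.mem' hR _).mpr (mem_bot.mp hi'))
    refine hi (mem_bot.mpr (eq_one_of_pow_eq_one_of_coprime (h.hS.to_le hR)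
      ((Nat.coprime_primes Nat.prime_two hp.out).mpr h.ne_two.symm) (Subtype.ext ?_)))
    change af γ ((x * u ^ m) ^ p ^ i) = ((x * u ^ m) ^ p ^ i)⁻¹ at e7
    rw [hγ'.map_pow hy, e6, eq_inv_iff_mul_eq_one, ← pow_two] at e7
    exact e7
  have hc' : Nat.card P = p ^ 3 := h.card.antisymm (by
    rw [hc, pow_succ]; exact Nat.mul_le_mul_left _ (Nat.le_of_dvd Nat.card_pos h3))
  obtain ⟨hex, hZ⟩ := h.extraspecial hc'
  obtain ⟨k, hk⟩ := ZMod.natCast_zmod_surjective ((2 : ZMod p)⁻¹ * 2⁻¹)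
  obtain ⟨γ, hγ, e1, e2, ⟨g, hg, hgN, e3⟩, -⟩ := D.exists_diag_ext h.hS h.hF hE.1 hPE h1
    (fun α hα y _ => h2 α hα y) hN hx hxN h.two_ne (k := k)
    (by rw [hk, inv_mul_cancel_right₀ h.two_ne])
  have := h.normal hR
  have : (E.subgroupOf (E ⊔ zpowers x)).Normal := normal_subgroupOf_of_le_normalizer
    (sup_le le_normalizer (zpowers_le.mpr hx.2))
  have hC : ∀ y : ↥(E ⊔ zpowers x), y ∈ centralizer (P.subgroupOf (E ⊔ zpowers x) : Set _) ↔
      (y : Ω) ∈ centralizer (P : Set Ω) := fun y =>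
    ⟨fun h r hr => congrArg Subtype.val (h ⟨r, hER (hPE hr)⟩ hr), fun h r hr => Subtype.ext (h r hr)⟩
  have h3 := cast_eq_one_of_aut h.hp5 (h.hS.to_le hR) (h.mem' hR) (h.card' (hPE.trans hER))
    (E := E.subgroupOf _) (fun _ hy => hPE hy) (fun y hy => ?_) (x := ⟨x, hxR⟩) hxE hxp γ
    (fun y hy => ?_) (fun y hy hy' => Subtype.ext ?_) (k := k) ?_
  · rw [hk, ← mul_inv, inv_eq_one, ← pow_two] at h3
    exact h.sq_ne h3
  · have hyn := h.mem_normalizer (hR y.2)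
    obtain ⟨w, hw⟩ := exists_conj_eq_of_isExtraspecial hex (cAut P y hyn).toMonoidHom fun r => by
      rw [← hex.1.2.1, ← mem_phi]
      exact D.conj_triv h.hS hE.1.1 hPE (phi_le P) h1 h2 hy r.2
    refine ⟨⟨w, hER (hPE w.2)⟩, w.2, (hC _).mpr fun r hr => ?_⟩
    have h4 : (y : Ω) * r * (y : Ω)⁻¹ = w * r * (w : Ω)⁻¹ := congrArg Subtype.val (hw ⟨r, hr⟩)
    change r * ((w : Ω)⁻¹ * y) = (w : Ω)⁻¹ * y * r
    rw [← mul_right_inj (w : Ω), ← mul_left_inj (y : Ω)⁻¹]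
    simpa [mul_assoc] using h4.symm
  · rw [mem_subgroupOf, ← af_coe, e3 y hy]
    exact af_mem g hy
  · have hD : E ⊓ centralizer (P : Set Ω) ≤ E ⊔ zpowers x := inf_le_left.trans hER
    have := finite_of_le (hD.trans hR)
    rw [← af_coe]
    refine af_fix_of_omega h.ne_two (h.hS.to_le (hD.trans hR)) hD e1 (fun d hd => ?_)
      (fun d hd e => ?_) ⟨hy, (hC y).mp hy'⟩
    · rw [e3 d hd.1]
      refine ⟨af_mem g hd.1, fun r hr => ?_⟩
      have h4 := h1 _ (inv_mem hg) r hr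
      rw [← af_af_inv g r, ← (mulOn_af g).map_mul (hPE h4) hd.1, hd.2 _ h4,
        (mulOn_af g).map_mul hd.1 (hPE h4)]
    · rw [e3 d hd.1]
      exact hgN d ((hZ d ((h.mem d).mpr ⟨hE.1.1 hd.1, e⟩)).mpr hd.2)
  · rwa [af_of_mem γ hxR] at e2

omit h hp [Finite S] in
theorem mem_normalizer_pair {a b s : Ω} {L : Subgroup Ω} [Finite L] (e : L = zpowers a ⊔ zpowers b)
    (ha : s * a * s⁻¹ ∈ L) (hb : s * b * s⁻¹ ∈ L) : s ∈ normalizer (L : Set Ω) :=
  mem_normalizer_of_finite fun _ hy => (e.le.trans (sup_le (zpowers_le.mpr ha) (zpowers_le.mpr hb)) :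
    L ≤ L.comap (MulAut.conj s).toMonoidHom) hy

theorem le_of_essential {E : Subgroup Ω} (hE : F.IsEssential p E) :
    S ≤ P ∧ Nat.card P = p ^ 3 := by
  have hES := hE.1.1
  obtain ⟨x, hxP, hx, hxE, hxp⟩ := exists_normalizes_pow_mem h.hS hES h.le
    (fun y hy q hq => conj_mem_of_stronglyClosed h.sc (hES hy) hq) (h.not_le_ess hE)
  have hC := centralizerIn_le_of_centric hE.1
  have := finite_of_le h.le
  have := finite_of_le hES
  obtain ⟨π, D⟩ := exists_sl2_phi h.hS hC (essential_radical h.hS h.hF hE) inf_le_right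
    (fun α hα y hy => af_mem_inf_of_stronglyClosed h.sc hES hα hy) (h.index_frattini inf_le_left)
    hx hxE fun y hy => inv_mul_conj_mem_inf h.sc hES hxP hx hy
  have hc := card_eq (inf_le_right.trans hES) D
  have h3 : phi (P ⊓ E) = ⊥ := by
    have h2 := (phi_le (P ⊓ E)).trans (inf_le_right.trans hES)
    have := finite_of_le h2
    refine card_eq_one.mp ((IsPGroup.card_eq_or_dvd (h.hS.to_le h2)).resolve_right fun e => ?_)
    refine absurd ((card_lt_of_lt' h.le (inf_lt_left.mpr (h.not_le_ess hE))).trans_le h.card) ?_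
    rw [not_lt, hc, pow_succ]
    exact Nat.mul_le_mul_left _ (Nat.le_of_dvd Nat.card_pos e)
  have hEP : E ≤ P := fun y hy => by_contra fun hy' => by
    obtain ⟨i, hi, hi'⟩ := exists_pow_not_mem_pow_mem (h.hS.to_le hES) (N := P.subgroupOf E)
      (x := ⟨y, hy⟩) hy'
    obtain ⟨g, hg, hgN, -, e⟩ := D.surj (-1)
    have hw := pow_mem hy (p ^ i)
    have h4 := h.pw (hES hw) (hgN _ hw).1
    rw [mul_inv_cancel_left, ← (mulOn_af g).map_pow hw] at h4
    have h5 := e _ ⟨hi', pow_mem hw p⟩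
    refine hi ((h.mem _).mpr ⟨hES hw, mem_bot.mp (h3 ▸ (D.coord.ker _ ⟨hi', pow_mem hw p⟩).mp ?_)⟩)
    change π (af g ((y ^ p ^ i) ^ p)) = Matrix.mulVec _ (π ((y ^ p ^ i) ^ p)) at h5
    change π ((y ^ p ^ i) ^ p) = 0
    rw [h4, Matrix.SpecialLinearGroup.coe_neg, Matrix.SpecialLinearGroup.coe_one, Matrix.neg_mulVec,
      Matrix.one_mulVec, eq_neg_iff_add_eq_zero, ← two_smul (ZMod p)] at h5
    exact (smul_eq_zero.mp h5).resolve_left h.two_ne
  rw [h3, inf_eq_right.mpr hEP] at D hc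
  rw [card_bot, mul_one] at hc
  have inj : ∀ y ∈ E, ∀ w ∈ E, π y = π w → y = w := fun y hy w hw e =>
    inv_mul_eq_one.mp ((D.coord.eq_iff hy hw).mp e)
  obtain ⟨z, hz, ez⟩ := D.coord.surj ![1, 0]
  obtain ⟨e, he, ee⟩ := D.coord.surj ![0, 1]
  have hcard : Nat.card ↥(E ⊔ zpowers x) = p ^ 3 := by
    rw [card_sup_zpowers_of_normalizes hx.2 hxE hxp, hc, ← pow_succ']
  have hPx : E ⊔ zpowers x = P :=
    eq_of_le_of_card_ge' h.le (sup_le hEP (zpowers_le.mpr hxP)) (hcard ▸ h.card)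
  rw [hPx] at hcard
  refine ⟨by_contra fun hSP => ?_, hcard⟩
  obtain ⟨-, hphi⟩ := h.extraspecial hcard
  have hE' : ∀ y ∈ E, y = z ^ (π y 0).val * e ^ (π y 1).val := fun y hy =>
    inj y hy _ (mul_mem (pow_mem hz _) (pow_mem he _)) (by
      rw [D.coord.add _ (pow_mem hz _) _ (pow_mem he _), D.coord.pow hz, D.coord.pow he, ez, ee]
      ext i
      fin_cases i <;> simp)
  have hEze : E = zpowers z ⊔ zpowers e := le_antisymm (fun y hy => hE' y hy ▸ mul_mem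
    (mem_sup_left (pow_mem (mem_zpowers z) _)) (mem_sup_right (pow_mem (mem_zpowers e) _)))
    (sup_le (zpowers_le.mpr hz) (zpowers_le.mpr he))
  have hab : ∀ a ∈ E, ∀ b ∈ E, a * b = b * a := fun a ha b hb => inj _ (mul_mem ha hb) _
    (mul_mem hb ha) (by rw [D.coord.add a ha b hb, D.coord.add b hb a ha, add_comm])
  have hz1 : orderOf z = p := orderOf_eq_prime (h.pow (hEP hz)) fun e' => by
    simpa [e', D.coord.one] using congrFun ez 0
  have hZ : centralizerIn P P = zpowers z := by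
    refine le_antisymm (fun y hy => ?_) (zpowers_le.mpr ⟨hEP hz, fun r hr => ?_⟩)
    · have hyE : y ∈ E := hC ⟨h.le hy.1, fun r hr => hy.2 r (hEP hr)⟩
      have h4 := congrFun (D.conj y hyE) 0
      rw [hy.2 x hxP, mul_inv_cancel_right] at h4
      rw [hE' y hyE, show π y 1 = 0 by simpa [Matrix.vecHead, Matrix.vecTail] using h4]
      simpa using pow_mem (mem_zpowers z) _
    · refine mem_centralizer_singleton_iff.mp ((hPx.ge.trans (sup_le (fun y hy =>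
        mem_centralizer_singleton_iff.mpr (hab y hy z hz)) (zpowers_le.mpr
        (mem_centralizer_singleton_iff.mpr (mul_inv_eq_iff_eq_mul.mp (inj _
        (conj_mem_of_normalizerIn hx hz) z hz ?_)))))) hr)
      rw [D.conj z hz, ez]
      ext i
      fin_cases i <;> simp
  have hZP : zpowers z ≤ P := zpowers_le.mpr (hEP hz)
  have hZS : ∀ s ∈ S, ∀ y ∈ zpowers z, s * y * s⁻¹ = y := fun s hs y hy => by
    rw [eq_comm, ← inv_mul_eq_one, ← mem_bot]
    refine inv_mul_conj_mem_of_relIndex_le h.hS (hZP.trans h.le) bot_le (fun t ht y hy => ?_)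
      (by simp) (by rw [relIndex_bot_left, Nat.card_zpowers, hz1]) hs hy
    rw [← af_cAut (h.mem_normalizer ht) (hZP hy), ← hZ]
    exact af_mem_centralizerIn _ (hZ ▸ hy)
  have hCe : ∀ s ∈ S, s * e = e * s → s ∈ E := fun s hs h' => hC ⟨hs, fun y hy =>
    (mem_centralizer_singleton_iff.mp ((hEze.le.trans (sup_le (zpowers_le.mpr
      (mem_centralizer_singleton_iff.mpr (mul_inv_eq_iff_eq_mul.mp (hZS s hs z (mem_zpowers z))).symm))
      (zpowers_le.mpr (mem_centralizer_singleton_iff.mpr h'.symm)))) hy))⟩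
  have hT : ∀ t ∈ normalizerIn S E, ⁅t, e⁆ ∈ zpowers z := fun t ht => by
    have := finite_of_le (inf_le_left : normalizerIn S E ≤ S)
    rw [commutatorElement_def, hab _ (conj_mem_of_normalizerIn ht he) _ (inv_mem he)]
    refine inv_mul_conj_mem_of_relIndex_le (h.hS.to_le inf_le_left) (le_inf hES le_normalizer)
      (zpowers_le.mpr hz) (fun t ht y hy => conj_mem_of_normalizerIn ht hy)
      (fun t ht y hy => (hZS t ht.1 y hy).symm ▸ hy) (Nat.le_of_mul_le_mul_right ?_ hp.out.pos) ht he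
    have h4 := relIndex_mul_card_le (zpowers_le.mpr hz)
    rw [Nat.card_zpowers, hz1, hc, pow_two] at h4
    exact h4.le
  have hNE : normalizerIn S E ≤ P := fun t ht => by
    obtain ⟨i, hi⟩ := (isOfFinOrder_of_mem (hES hz)).mem_powers_iff_mem_zpowers.mpr (hT t ht)
    simp only at hi
    obtain ⟨h4, h5⟩ := conj_pow_coord (fun y hy => conj_mem_of_normalizerIn hx hy) D.conj i e he
    have h6 := inj _ h4 _ (conj_mem_of_normalizerIn ht he) (by
      rw [h5, conj_eq_commutatorElement_mul t, ← hi, D.coord.add _ (pow_mem hz i) e he,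
        D.coord.pow hz, ez, ee]
      ext i
      fin_cases i <;> simp)
    refine (mul_mem_cancel_left (inv_mem (pow_mem hxP i))).mp (hEP (hCe _
      (mul_mem (inv_mem (pow_mem hx.1 i)) ht.1) ?_))
    rw [← mul_right_inj (x ^ i), ← mul_left_inj t⁻¹]
    simpa [mul_assoc] using h6.symm
  have hPN : P ≤ normalizerIn S E := le_inf h.le (hPx.ge.trans (sup_le le_normalizer
    (zpowers_le.mpr hx.2)))
  have hPc := isCentric_of_le hE.1 hEP h.le
  have hn := h.normal le_rfl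
  have hnZ : ((zpowers z).subgroupOf S).Normal := ⟨fun n hn g => by
    change (g : Ω) * n * (g : Ω)⁻¹ ∈ zpowers z
    rwa [hZS g g.2 n hn]⟩
  have hphi' : ∀ y, y ∈ phi P ↔ y ∈ zpowers z := fun y => hZ ▸ ⟨fun hy =>
    ⟨phi_le P hy, (hphi y (phi_le P hy)).mp hy⟩, fun hy => (hphi y hy.1).mpr hy.2⟩
  by_cases hr : F.IsRadical p P
  · obtain ⟨t, ht, htP⟩ := SetLike.not_le_iff_exists.mp hSP
    obtain ⟨π', D'⟩ := exists_sl2_phi h.hS (centralizerIn_le_of_centric hPc) hr le_rfl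
      (fun α _ y hy => af_mem α hy) (h.index_frattini le_rfl) ⟨ht, h.mem_normalizer ht⟩ htP
      fun y hy => mul_mem (inv_mem hy) (conj_mem_of_stronglyClosed h.sc ht hy)
    have heZ : e ∉ zpowers z := fun h' => hxE (hCe x hx.1 (mul_inv_eq_iff_eq_mul.mp (hZS x hx.1 e h')))
    obtain ⟨l, hl, hl', -, hl2⟩ := exists_central_step h.hS (N := (zpowers z).subgroupOf S)
      (K := P.subgroupOf S) fun h' => heZ (h' (x := ⟨e, hES he⟩) (hEP he))
    obtain ⟨g, hg, -, h4⟩ := D'.exists_conj (fun α _ y hy => af_mem α hy) (hEP he) hl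
      (mt (hphi' e).mp heZ) (mt (hphi' l).mp hl')
    have hg' := (mor_af h.le hg).mono hEP
    have := finite_of_le hg'.img_le
    have h5 : ∀ α : MulAut P, ∀ y ∈ zpowers z, af α y ∈ zpowers z := fun α y hy =>
      hZ ▸ af_mem_centralizerIn α (hZ ▸ hy)
    have h6 : ∀ y ∈ zpowers z, y ∈ img E (af g) := fun y hy =>
      af_af_inv g y ▸ mem_img_of_mem _ (zpowers_le.mpr hz (h5 _ y hy))
    have h7 := hE.2.1.2 _ hg'.isConj
    rw [show normalizerIn S (img E (af g)) = S from inf_eq_left.mpr fun s hs =>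
      mem_normalizer_pair (a := af g z) (b := af g e) ?_ ?_ ?_] at h7
    · exact hSP (eq_of_le_of_card_ge' le_rfl h.le (h7.trans (card_le_of_le' h.le hNE))).ge
    · conv_lhs => rw [hEze]
      rw [hg'.img_sup (zpowers_le.mpr hz) (zpowers_le.mpr he), hg'.mulOn.img_zpowers hz,
        hg'.mulOn.img_zpowers he]
    · rw [hZS s hs _ (h5 g z (mem_zpowers z))]
      exact mem_img_of_mem _ hz
    · have h8 := h6 _ (inv_mem (hl2 ⟨s, hs⟩))
      change ⁅(l : Ω), s⁆⁻¹ ∈ _ at h8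
      have h9 := (hphi' _).mp h4
      convert mul_mem (mul_mem (mul_mem h8 (mem_img_of_mem (af g) he)) (h6 _ h9))
        (inv_mem (hZS s hs _ h9 ▸ h6 _ h9 : s * _ * s⁻¹ ∈ _)) using 1
      simp [commutatorElement_def, mul_assoc]
  have := finite_mulAut h.le
  have hsyl := sylIn_of_fn h.hS h.hF (fn_of_stronglyClosed h.sc)
  obtain ⟨α, hα, hα'⟩ : ∃ α ∈ pCoreOf p (F.autGroup P), α ∉ Inn P := by
    by_contra h'
    push Not at h'
    exact hr (isRadical_iff.mpr ⟨h.le, le_antisymm h' (le_pCoreOf (Inn_le_autGroup F h.le)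
      (fun _ _ _ hn => conj_mem_Inn hn)
      ((isPGroup_autInducedBy h.hS P).to_le (Inn_le_autInducedBy h.le)))⟩)
  obtain ⟨t, ht, e1⟩ := mem_autInducedBy'.mp (hsyl.pCoreOf_le hα)
  have htP : t ∉ P := fun h' => hα' (mem_Inn.mpr ⟨t, h', e1⟩)
  obtain rfl : α = cAut P t ht.2 := aut_ext fun y hy => by rw [e1 y hy, af_cAut _ hy]
  have hi : P.relIndex S = p := by
    have h4 := H19.relIndex_centralizer_le_card (⊤ : Subgroup S) ⟨e, hES he⟩
      (⁅P.subgroupOf S, (⊤ : Subgroup S)⁆ : Subgroup S) fun s _ => by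
        rw [commutator_comm]; exact commutator_mem_commutator (mem_top s) (hEP he)
    have h5 := H48.card_commutator_top_le h.hS _ (h.card' h.le)
    have h6 : Nat.card (centralizer {(⟨e, hES he⟩ : S)}) ≤ p ^ 2 := (card_le_of_le
      (K := E.subgroupOf S) fun s hs => hCe s s.2 (congrArg Subtype.val
        (mem_centralizer_singleton_iff.mp hs))).trans_eq
      ((Nat.card_congr (subgroupOfEquivOfLe hES).toEquiv).trans hc)
    have h7 := Nat.mul_le_mul h6 (h4.trans h5)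
    rw [relIndex_top_right, card_mul_index, ← relIndex_mul_card_le h.le, hcard] at h7
    obtain ⟨j, hj⟩ := h.hS.index (P.subgroupOf S)
    have h8 : j ≠ 0 := by
      rintro rfl
      exact hSP (relIndex_eq_one.mp hj)
    rw [relIndex, hj, ← pow_add, ← pow_add, pow_le_pow_iff_right₀ hp.out.one_lt] at h7
    rw [relIndex, hj, show j = 1 by omega, pow_one]
  have htop := sup_zpowers_eq_of_relIndex_prime hp.out hi h.le ht.1 htP
  obtain ⟨k, hk⟩ := ZMod.natCast_zmod_surjective ((2 : ZMod p)⁻¹ * 2⁻¹)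
  have h4 := D.exists_diag_ext h.hS h.hF hE.1 le_rfl (fun α _ y hy => af_mem α hy)
    (fun α _ y _ hy => by rw [mem_bot.mp hy, (mulOn_af α).map_one]; exact one_mem _)
    (fun b _ n _ y hy => mul_mem (inv_mem hy) (af_mem _ hy)) hx
    (fun y hy => mul_mem (inv_mem hy) (af_mem _ hy)) h.two_ne (k := k)
    (by rw [hk, inv_mul_cancel_right₀ h.two_ne])
  rw [hPx] at h4
  obtain ⟨γ₀, hγ₀, -, -, ⟨g, -, -, e2⟩, e3⟩ := h4
  obtain ⟨f, hf, e4⟩ := exists_ext_aut h.hS h.hF (fullyCentralized_of_centric hPc) hγ₀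
  have hf' := hf.mono (htop.ge.trans (sup_le (mor_af h.le hγ₀).le_Nx (zpowers_le.mpr
    ((mem_Nx_af_iff ht).mpr (hsyl.pCoreOf_le (conj_mem_pCoreOf hγ₀ hα))))))
  obtain ⟨γ, -, e5⟩ := hf'.exists_aut' fun y hy => hf'.mem hy
  refine h.sq_ne (sq_eq_one_of_aut h.hp5 h.hS (h.mem' le_rfl) (h.card' h.le) (z := ⟨z, hES hz⟩)
    (e := ⟨e, hES he⟩) (t := ⟨t, ht.1⟩) (hEP hz) (fun y hy h' => ?_) (mem_center_iff.mpr fun s =>
      Subtype.ext (mul_inv_eq_iff_eq_mul.mp (hZS s s.2 z (mem_zpowers z)))) (hEP he) htP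
    (hi ▸ pow_index_mem _ _) ?_ (fun r hr => ?_) (fun h' => htP (hNE ⟨ht.1, ?_⟩)) γ (b := 2) ?_)
  · obtain ⟨i, hi⟩ : (y : Ω) ∈ zpowers z := hZ ▸ ⟨hy, fun r hr =>
      congrArg Subtype.val (h' ⟨r, h.le hr⟩ hr).symm.eq⟩
    exact ⟨i, Subtype.ext hi⟩
  · rw [eq_top_iff]
    rintro ⟨y, hy⟩ -
    obtain ⟨n, hn, j, rfl⟩ := (mem_sup_zpowers_of_normalizes ht.2).mp (htop.ge hy)
    exact mem_sup_zpowers.mpr ⟨⟨n, h.le hn⟩, hn, j, rfl⟩
  · obtain ⟨i, hi⟩ := hT r (hPN hr)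
    exact ⟨i, Subtype.ext hi⟩
  · refine mem_normalizer_pair hEze ((hZS t ht.1 z (mem_zpowers z)).symm ▸ hz) ?_
    rw [conj_eq_commutatorElement_mul]
    exact mul_mem (hCe _ (⁅(⟨t, ht.1⟩ : S), (⟨e, hES he⟩ : S)⁆).2 (congrArg Subtype.val h'.eq)) he
  · refine Subtype.ext ?_
    rw [← af_coe, e5 e (hES he), e4 e (hEP he)]
    refine inj _ (e2 e he ▸ af_mem g he) _ (pow_mem he 2) ?_
    rw [e3 e he, coe_pow, D.coord.pow he, ee]
    ext i
    fin_cases i <;> simp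

end Rk2
end H9
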