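import Cfsg.Agent.H53.SzSpec
import Cfsg.Agent.H4.ClassMisc
import Cfsg.Agent.H29.Burnside
import Cfsg.Agent.H2.PrimeCore
import Cfsg.Agent.H98.Core

/-! Tower ITO, part 2: the common kit of the local jobs and the job LOC0. -/

set_option autoImplicit false

namespace H9.Sz

open Cfsg Subgroup H53.Sz

universe u

variable {G : Type u} [Group G]

theorem ord_eq {a b : G} (h : IsConj a b) : orderOf a = orderOf b := by
  obtain ⟨c, rfl⟩ := isConj_iff.1 h
  exact ((MulAut.conj c).orderOf_eq a).symm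

theorem om_of {s g : G} (hs : orderOf s = 2 ∨ orderOf s = 3) (h : Commute g s) (h1 : g ≠ 1) :
    Om g := ⟨h1, s, hs, h⟩

theorem ne_one_of {g : G} {n : ℕ} (h : orderOf g = n) (hn : n ≠ 1) : g ≠ 1 := fun e =>
  hn (by rw [← h, e, orderOf_one])

/-- A conjugacy of products of commuting elements of coprime orders splits. -/
theorem split_conj {s x x' g : G} (c : Commute s x) (c' : Commute s x')
    (h : (orderOf x).Coprime (orderOf s)) (h' : (orderOf x').Coprime (orderOf s))
    (e : g * (s * x) * g⁻¹ = s * x') : g * s * g⁻¹ = s ∧ g * x * g⁻¹ = x' := by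
  obtain ⟨n, h1, h2⟩ := Nat.chineseRemainder (Nat.Coprime.mul_left h h') 0 1
  have h0 := Nat.modEq_zero_iff_dvd.1 h1
  have hs : s ^ n = s := by rw [pow_eq_pow_iff_modEq.2 h2, pow_one]
  have e1 := congrArg (· ^ n) e
  simp only [conj_pow, c.mul_pow, c'.mul_pow, hs,
    orderOf_dvd_iff_pow_eq_one.1 ((dvd_mul_right _ _).trans h0),
    orderOf_dvd_iff_pow_eq_one.1 ((dvd_mul_left _ _).trans h0), mul_one] at e1
  refine ⟨e1, mul_left_cancel (a := s) ?_⟩
  rw [← e]
  conv_lhs => rw [← e1]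
  group

section few

variable [Finite G]

theorem exists_three (h : Few G) : ∃ y z : G, orderOf y = 3 ∧ orderOf z = 6 ∧ Om y ∧ Om z := by
  obtain ⟨z, hz⟩ := h.six
  have h3 : orderOf (z ^ 2) = 3 := by rw [orderOf_pow, hz]; norm_num
  exact ⟨z ^ 2, z, h3, hz, om_of (Or.inr h3) (Commute.refl _) (ne_one_of h3 (by norm_num)),
    om_of (Or.inr h3) (Commute.self_pow _ _) (ne_one_of hz (by norm_num))⟩

theorem four (h : Few G) {a b c d : G} (ha : Om a) (hb : Om b) (hc : Om c) (hd : Om d)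
    (oa : orderOf a ≠ 2 ∧ orderOf a ≠ 4) (ob : orderOf b ≠ 2 ∧ orderOf b ≠ 4)
    (oc : orderOf c ≠ 2 ∧ orderOf c ≠ 4) (od : orderOf d ≠ 2 ∧ orderOf d ≠ 4) :
    IsConj a b ∨ IsConj a c ∨ IsConj a d ∨ IsConj b c ∨ IsConj b d ∨ IsConj c d := by
  obtain ⟨f, hf⟩ := h.four
  have h2 : orderOf (f ^ 2) = 2 := by rw [orderOf_pow, hf]; norm_num
  have o2 : Om (f ^ 2) := om_of (Or.inl h2) (Commute.refl _) (ne_one_of h2 (by norm_num))
  have o4 : Om f := om_of (Or.inl h2) (Commute.self_pow _ _) (ne_one_of hf (by norm_num))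
  obtain ⟨i, j, hij, e⟩ := h.five ![f ^ 2, f, a, b, c, d] (by
    intro i; fin_cases i <;> assumption)
  have e' := e.symm
  have o := ord_eq e
  fin_cases i <;> fin_cases j <;> simp only [Fin.zero_eta, Fin.mk_one, Fin.reduceFinMk,
    Matrix.cons_val, Matrix.cons_val_zero, Matrix.cons_val_one, ne_eq, not_true_eq_false, h2, hf]
    at hij e e' o <;>
  first
  | omega
  | simp only [e, e', true_or, or_true]

theorem three (h : Few G) {a b c : G} (ha : Om a) (hb : Om b) (hc : Om c)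
    (oa : 5 ≤ orderOf a) (ob : 5 ≤ orderOf b) (oc : 5 ≤ orderOf c) :
    IsConj a b ∨ IsConj a c ∨ IsConj b c := by
  obtain ⟨y, -, h3, -, hy, -⟩ := exists_three h
  rcases four h ha hb hc hy (by omega) (by omega) (by omega) (by omega) with
    e | e | e | e | e | e
  exacts [Or.inl e, Or.inr (Or.inl e), absurd (ord_eq e) (by omega), Or.inr (Or.inr e),
    absurd (ord_eq e) (by omega), absurd (ord_eq e) (by omega)]

theorem two (h : Few G) {a b : G} (ha : Om a) (hb : Om b) (oa : 5 ≤ orderOf a)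
    (ob : 5 ≤ orderOf b) (oa' : orderOf a ≠ 6) (ob' : orderOf b ≠ 6) : IsConj a b := by
  obtain ⟨-, z, -, h6, -, hz⟩ := exists_three h
  rcases three h ha hb hz oa ob (by omega) with e | e | e
  exacts [e, absurd (ord_eq e) (by omega), absurd (ord_eq e) (by omega)]

/-- An element of order at least five commuting with `s` has order not prime to that of `s`. -/
theorem not_cop (h : Few G) {s x : G} (hs : orderOf s = 2 ∨ orderOf s = 3) (c : Commute x s)
    (h5 : 5 ≤ orderOf x) : ¬ (orderOf x).Coprime (orderOf s) := fun hc => by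
  have e := c.orderOf_mul_eq_mul_orderOf_of_coprime hc
  have h6 : orderOf x ≠ 6 := fun e6 => by
    rw [e6] at hc
    rcases hs with hs | hs <;> rw [hs] at hc <;> norm_num at hc
  have := ord_eq (two h (om_of hs c (ne_one_of rfl (by omega)))
    (om_of hs (c.mul_left (Commute.refl s)) (ne_one_of e (by rcases hs with hs | hs <;> rw [hs] <;> omega)))
    h5 (by rcases hs with hs | hs <;> rw [e, hs] <;> omega) h6
    (by rcases hs with hs | hs <;> rw [e, hs] <;> omega))
  rcases hs with hs | hs <;> rw [e, hs] at this <;> omega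

end few

/-- A `{2,3}`-group whose non-trivial elements of order prime to `p` form at most two classes. -/
structure Loc (p : ℕ) (X : Type u) [Group X] : Prop where
  pr : ∀ r : ℕ, r.Prime → r ∣ Nat.card X → r = 2 ∨ r = 3
  three : ∀ a b c : X, a ≠ 1 → b ≠ 1 → c ≠ 1 → (orderOf a).Coprime p → (orderOf b).Coprime p →
    (orderOf c).Coprime p → IsConj a b ∨ IsConj a c ∨ IsConj b c

theorem conj_cen {s : G} {a b : centralizer ({s} : Set G)} (ha : (orderOf a).Coprime (orderOf s))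
    (hb : (orderOf b).Coprime (orderOf s)) (h : IsConj (s * a) (s * b)) : IsConj a b := by
  obtain ⟨g, e⟩ := isConj_iff.1 h
  obtain ⟨h1, h2⟩ := split_conj (mem_centralizer_singleton_iff.1 a.2).symm
    (mem_centralizer_singleton_iff.1 b.2).symm (by rwa [orderOf_coe]) (by rwa [orderOf_coe]) e
  exact isConj_iff.2 ⟨⟨g, mem_centralizer_singleton_iff.2 (mul_inv_eq_iff_eq_mul.1 h1)⟩,
    Subtype.ext h2⟩

theorem ord_mul {s : G} {a : centralizer ({s} : Set G)} (ha : (orderOf a).Coprime (orderOf s)) :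
    orderOf (s * a) = orderOf s * orderOf a := by
  rw [← orderOf_coe] at ha ⊢
  exact Commute.orderOf_mul_eq_mul_orderOf_of_coprime (mem_centralizer_singleton_iff.1 a.2).symm
    ha.symm

theorem om_mul [Finite G] {s : G} (hs : orderOf s = 2 ∨ orderOf s = 3)
    {a : centralizer ({s} : Set G)} (h1 : a ≠ 1) (ha : (orderOf a).Coprime (orderOf s)) :
    Om (s * a) ∧ 5 ≤ orderOf (s * a) := by
  have h5 : 5 ≤ orderOf (s * a) := by
    have := orderOf_pos a
    have := orderOf_eq_one_iff.not.2 h1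
    rw [ord_mul ha]
    rcases hs with hs | hs <;> rw [hs] at ha ⊢
    · have : orderOf a ≠ 2 := fun e => by rw [e] at ha; norm_num at ha
      omega
    · omega
  exact ⟨om_of hs ((Commute.refl s).mul_left (mem_centralizer_singleton_iff.1 a.2))
    (ne_one_of rfl (by omega)), h5⟩

theorem loc [Finite G] (h : Few G) {s : G} (hs : orderOf s = 2 ∨ orderOf s = 3) :
    Loc (orderOf s) (centralizer ({s} : Set G)) where
  pr r hr hd := by
    by_contra hn
    rw [not_or] at hn
    have := Fact.mk hr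
    obtain ⟨x, hx⟩ := exists_prime_orderOf_dvd_card' r hd
    rw [← orderOf_coe] at hx
    refine not_cop h hs (mem_centralizer_singleton_iff.1 x.2)
      (hx ▸ hr.five_le_of_ne_two_of_ne_three hn.1 hn.2) ?_
    rcases hs with hs | hs <;> rw [hs, hx]
    exacts [(Nat.coprime_primes hr Nat.prime_two).2 hn.1,
      (Nat.coprime_primes hr Nat.prime_three).2 hn.2]
  three a b c h1 h2 h3 ha hb hc := by
    obtain ⟨a1, a2⟩ := om_mul hs h1 ha
    obtain ⟨b1, b2⟩ := om_mul hs h2 hb
    obtain ⟨c1, c2⟩ := om_mul hs h3 hc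
    exact (three h a1 b1 c1 a2 b2 c2).imp (conj_cen ha hb) (Or.imp (conj_cen ha hc) (conj_cen hb hc))

section loc

variable {X : Type u} [Group X] [Finite X] {p : ℕ}

theorem Loc.solvable (h : Loc p X) : Group.IsSolvable X :=
  H29.isSolvable_of_prime_dvd_card Nat.prime_two Nat.prime_three h.pr

theorem Loc.pow_three (h : Loc p X) {n : ℕ} (hn : n ∣ Nat.card X) (h2 : ¬ 2 ∣ n) :
    ∃ k, n = 3 ^ k :=
  ⟨_, Nat.eq_prime_pow_of_unique_prime_dvd (ne_zero_of_dvd_ne_zero Nat.card_pos.ne' hn)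
    fun hd e => (h.pr _ hd (e.trans hn)).resolve_left fun e2 => h2 (e2 ▸ e)⟩

theorem Loc.pow_two (h : Loc p X) {n : ℕ} (hn : n ∣ Nat.card X) (h3 : ¬ 3 ∣ n) :
    ∃ k, n = 2 ^ k :=
  ⟨_, Nat.eq_prime_pow_of_unique_prime_dvd (ne_zero_of_dvd_ne_zero Nat.card_pos.ne' hn)
    fun hd e => (h.pr _ hd (e.trans hn)).resolve_right fun e2 => h3 (e2 ▸ e)⟩

theorem Loc.isPGroup_three (h : Loc p X) {A : Subgroup X} (h2 : ¬ 2 ∣ Nat.card A) :
    IsPGroup 3 A :=
  let ⟨_, e⟩ := h.pow_three A.card_subgroup_dvd_card h2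
  .of_card e

theorem Loc.isPGroup_two (h : Loc p X) {A : Subgroup X} (h3 : ¬ 3 ∣ Nat.card A) :
    IsPGroup 2 A :=
  let ⟨_, e⟩ := h.pow_two A.card_subgroup_dvd_card h3
  .of_card e

/-- Burnside's fusion lemma. -/
theorem fuse {q : ℕ} [Fact q.Prime] (P : Sylow q X) (hP : (P : Subgroup X) ≤ centralizer P)
    {a b : X} (ha : a ∈ P) (hb : b ∈ P) (h : IsConj a b) :
    ∃ n ∈ normalizer (P : Set X), n * a * n⁻¹ = b := by
  obtain ⟨g, rfl⟩ := isConj_iff.1 h
  obtain ⟨n, hn, e⟩ := P.conj_eq_normalizer_conj_of_mem_centralizer a g⁻¹ (hP ha)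
    (by rw [inv_inv]; exact hP hb)
  exact ⟨n⁻¹, inv_mem hn, by rw [inv_inv] at e ⊢; exact e.symm⟩

/-- The part of a class inside a subgroup. -/
def orb (P : Subgroup X) (a : X) : Set X := {b | b ∈ P ∧ IsConj a b}

theorem orb_dvd {q : ℕ} [Fact q.Prime] (P : Sylow q X) (hP : (P : Subgroup X) ≤ centralizer P)
    {a : X} (ha : a ∈ P) : (orb P a).ncard ∣ (P : Subgroup X).index := by
  have e : orb P a = (fun d => d * a * d⁻¹) '' (normalizer (P : Set X) : Set X) := by
    ext b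
    refine ⟨fun hb => fuse P hP ha hb.1 hb.2, ?_⟩
    rintro ⟨n, hn, rfl⟩
    exact ⟨H98.conj_mem_of_mem_normalizer hn ha, isConj_iff.2 ⟨n, rfl⟩⟩
  rw [e, ← H4.relIndex_cent_eq_ncard]
  exact (relIndex_dvd_of_le_left _ fun x hx =>
    mem_centralizer_singleton_iff.2 (hP ha x hx)).trans (relIndex_dvd_index_of_le le_normalizer)

theorem ncard_diff {A B : Subgroup X} (h : A ≤ B) :
    ((B : Set X) \ A).ncard + Nat.card A = Nat.card B :=
  Set.ncard_diff_add_ncard_of_subset (s := (A : Set X)) (t := (B : Set X)) h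

theorem two_pow_le {a k : ℕ} (h : 3 ^ k + 1 = 2 ^ a) : 2 ^ a ≤ 4 := by
  by_contra hn
  obtain ⟨b, rfl⟩ : ∃ b, a = b + 3 := by
    refine ⟨a - 3, ?_⟩
    by_contra h3
    have : a ≤ 2 := by omega
    interval_cases a <;> omega
  have h8 : 3 ^ k % 8 = 1 ∨ 3 ^ k % 8 = 3 := by
    clear h
    induction k with
    | zero => simp
    | succ k ih => rw [pow_succ]; omega
  rw [pow_add] at h
  omega

omit [Finite X] in
theorem cop_of_mem {q : ℕ} [hq : Fact q.Prime] {P : Subgroup X} (hP : IsPGroup q P) {a : X}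
    (ha : a ∈ P) (h : q.Coprime p) : (orderOf a).Coprime p := by
  obtain ⟨k, hk⟩ := H98.isPGroup_iff_forall.1 hP a ha
  exact (Nat.Coprime.pow_left k h).coprime_dvd_left (orderOf_dvd_of_pow_eq_one hk)

/-- An abelian Sylow 2-subgroup has order at most four. -/
theorem Loc.card_le_four (h : Loc 3 X) (T : Sylow 2 X) (hT : (T : Subgroup X) ≤ centralizer T) :
    Nat.card T ≤ 4 := by
  have len : ∀ a ∈ T, ∃ k, (orb T a).ncard = 3 ^ k := fun a ha =>
    h.pow_three ((orb_dvd T hT ha).trans (index_dvd_card _)) fun e =>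
      T.not_dvd_index (e.trans (orb_dvd T hT ha))
  have cop : ∀ a ∈ T, (orderOf a).Coprime 3 := fun a ha => cop_of_mem T.isPGroup' ha (by norm_num)
  obtain ⟨n, hn⟩ := T.isPGroup'.exists_card_eq
  have hd := ncard_diff (bot_le (a := (T : Subgroup X)))
  rw [card_bot, hn] at hd
  rcases (T : Subgroup X).bot_or_exists_ne_one with e | ⟨a, ha, h1⟩
  · change Nat.card (T : Subgroup X) ≤ 4
    rw [e, card_bot]; norm_num
  obtain ⟨k, hk⟩ := len a ha
  by_cases hb : ∀ b ∈ T, b ≠ 1 → IsConj a b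
  · have e : ((T : Subgroup X) : Set X) \ (⊥ : Subgroup X) = orb T a := by
      ext b
      exact ⟨fun h => ⟨h.1, hb b h.1 h.2⟩, fun h => ⟨h.1, fun e => h1 (isConj_one_left.1 (e ▸ h.2))⟩⟩
    rw [e, hk] at hd
    exact hn.trans_le (two_pow_le hd)
  · push Not at hb
    obtain ⟨b, hb, h2, hab⟩ := hb
    obtain ⟨l, hl⟩ := len b hb
    have e : ((T : Subgroup X) : Set X) \ (⊥ : Subgroup X) = orb T a ∪ orb T b := by
      ext c
      refine ⟨fun hc => ?_, ?_⟩
      · rcases h.three a b c h1 h2 hc.2 (cop a ha) (cop b hb) (cop c hc.1) with e | e | e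
        exacts [absurd e hab, Or.inl ⟨hc.1, e⟩, Or.inr ⟨hc.1, e⟩]
      · rintro (h | h)
        exacts [⟨h.1, fun e => h1 (isConj_one_left.1 (e ▸ h.2))⟩,
          ⟨h.1, fun e => h2 (isConj_one_left.1 (e ▸ h.2))⟩]
    rw [e, Set.ncard_union_eq (Set.disjoint_left.2 fun c h1 h2 => hab (h1.2.trans h2.2.symm)),
      hk, hl] at hd
    have o1 : 3 ^ k % 2 = 1 := Nat.odd_iff.1 (Odd.pow (by decide))
    have o2 : 3 ^ l % 2 = 1 := Nat.odd_iff.1 (Odd.pow (by decide))
    rcases n with _ | n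
    · omega
    · rw [pow_succ] at hd; omega

theorem Loc.loc0 (h : Loc 2 X) (ab : ∀ P : Subgroup X, IsPGroup 3 P → P ≤ centralizer P) :
    HasNormalPComplement 2 X ∨ oddCore X = ⊥ := by
  have hD := h.isPGroup_three (H2.not_dvd_card_pPrimeCore 2 X)
  obtain ⟨Q, hQ⟩ := hD.exists_le_sylow
  rcases (oddCore X).bot_or_exists_ne_one with e | ⟨d, hd, h1⟩
  · exact Or.inr e
  rcases hQ.eq_or_lt with e | e
  · obtain ⟨P⟩ := (inferInstance : Nonempty (Sylow 2 X))
    refine Or.inl ⟨P, oddCore X, inferInstance, isComplement'_of_coprime ?_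
      (H2.coprime_card_of_isPGroup P.isPGroup' (H2.coprime_card_pPrimeCore 2 X)).symm⟩
    obtain ⟨k, hk⟩ := h.pow_two (index_dvd_card (Q : Subgroup X)) Q.not_dvd_index
    have h2 := (Q : Subgroup X).card_mul_index
    rw [← e] at hk h2
    rw [← h2, hk, P.card_eq_multiplicity, ← h2, hk, Nat.factorization_mul Nat.card_pos.ne' (by simp),
      Finsupp.add_apply, Nat.factorization_eq_zero_of_not_dvd (H2.not_dvd_card_pPrimeCore 2 X),
      Nat.prime_two.factorization_pow, zero_add, Finsupp.single_eq_same]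
  · exfalso
    obtain ⟨q, hq, hq'⟩ := SetLike.exists_of_lt e
    have cop : ∀ a ∈ Q, (orderOf a).Coprime 2 := fun a ha => cop_of_mem Q.isPGroup' ha (by norm_num)
    have nc : ∀ {a b : X}, a ∈ oddCore X → IsConj a b → b ∈ oddCore X := fun ha hc => by
      obtain ⟨g, rfl⟩ := isConj_iff.1 hc
      exact Normal.conj_mem inferInstance _ ha g
    have e2 : ((Q : Subgroup X) : Set X) \ oddCore X = orb Q q := by
      ext c
      refine ⟨fun hc => ⟨hc.1, ?_⟩, fun hc => ⟨hc.1, fun h2 => hq' (nc h2 hc.2.symm)⟩⟩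
      rcases h.three d q c h1 (fun e => hq' (e ▸ one_mem _)) (fun e => hc.2 (e ▸ one_mem _))
        (cop d (hQ hd)) (cop q hq) (cop c hc.1) with e | e | e
      exacts [absurd (nc hd e) hq', absurd (nc hd e) hc.2, e]
    have h3 := ncard_diff hQ
    have d1 : 3 ∣ Nat.card (oddCore X) := (hD.card_eq_or_dvd).resolve_left fun e =>
      h1 (mem_bot.1 (card_eq_one.1 e ▸ hd))
    have d2 := d1.trans (card_dvd_of_le hQ)
    rw [← h3, Nat.dvd_add_left d1, e2] at d2
    exact Q.not_dvd_index (d2.trans (orb_dvd Q (ab _ Q.isPGroup') hq))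

end loc

theorem ab3 (h : Few G) (H : Subgroup G) (P : Subgroup H) (hP : IsPGroup 3 P) :
    P ≤ centralizer P := fun a ha b hb => by
  have := h.ab3 _ (hP.map H.subtype)
  exact Subtype.ext (mul_comm_of_mem_isMulCommutative (P.map H.subtype) (mem_map_of_mem _ hb)
    (mem_map_of_mem _ ha))

theorem jobLoc0 : JobLoc0.{u} := fun _ _ _ _ h ht =>
  (ht ▸ loc h (Or.inl ht)).loc0 (ab3 h _)

end H9.Sz
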