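import Cfsg.Agent.H9.SzLoc
import Cfsg.Agent.H2.MinNormal
import Cfsg.Agent.H2.CoreFree
import Cfsg.Agent.H14.Std
import Cfsg.Agent.H10.StableNormal
import Cfsg.Agent.H3.FrattiniP
import Cfsg.Agent.H3.NonCyclic

/-! Tower ITO, part 2: the job LOCA. -/

set_option autoImplicit false

namespace H9.Sz

open Cfsg Subgroup H53.Sz
open scoped commutatorElement

universe u

theorem pow_conj {Y : Type u} [Group Y] {a u d : Y} (h : a * u * a⁻¹ = d * u) (c : Commute d a)
    (n : ℕ) : a ^ n * u * (a ^ n)⁻¹ = d ^ n * u := by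
  induction n with
  | zero => simp
  | succ n ih =>
    calc a ^ (n + 1) * u * (a ^ (n + 1))⁻¹ = a * (a ^ n * u * (a ^ n)⁻¹) * a⁻¹ := by group
      _ = a * d ^ n * u * a⁻¹ := by rw [ih]; group
      _ = d ^ n * (a * u * a⁻¹) := by rw [← (c.pow_left n).eq]; group
      _ = d ^ (n + 1) * u := by rw [h]; group

theorem core {Y : Type u} [Group Y] {V : Subgroup Y} [hn : V.Normal] (hV : V ≤ centralizer V)
    (h3 : ∀ c ∈ V, c ^ 3 = 1 → c = 1) (h12 : ∀ a : Y, a ^ 12 = 1) {g y v : Y} (g4 : g ^ 4 = 1)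
    (y3 : y ^ 3 = 1) (hs : g * g * y * (g * g)⁻¹ = y⁻¹) (hc : Commute y (g * y * g⁻¹))
    (hv : v ∈ V) (c : Commute v y) : Commute v (g * y * g⁻¹) := by
  have cj : ∀ (a : Y) {b c : Y}, Commute b c → Commute (a * b * a⁻¹) (a * c * a⁻¹) :=
    fun a _ _ h => h.map (MulAut.conj a)
  have key : ∀ v ∈ V, Commute v y → Commute (v * (g * g * v * (g * g)⁻¹)) (g * y * g⁻¹) := by
    intro v hv c
    have hw := mul_mem hv (hn.conj_mem v hv (g * g))
    have c1 : Commute (v * (g * g * v * (g * g)⁻¹)) y :=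
      c.mul_left (Commute.inv_right_iff.1 (hs ▸ cj (g * g) c))
    have e : (v * g) ^ 4 = v * (g * g * v * (g * g)⁻¹) *
        (g * (v * (g * g * v * (g * g)⁻¹)) * g⁻¹) := by
      have := hV (hn.conj_mem v hv g) _ (hn.conj_mem v hv (g * g))
      calc (v * g) ^ 4 = v * (g * v * g⁻¹ * (g * g * v * (g * g)⁻¹)) *
            (g * (g * g * v * (g * g)⁻¹) * g⁻¹) * g ^ 4 := by simp only [pow_succ]; group
        _ = _ := by rw [← this, g4]; group
    have e1 := h3 _ (mul_mem hw (hn.conj_mem _ hw g)) (by rw [← e, ← pow_mul, h12])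
    rw [eq_inv_of_mul_eq_one_left e1]
    exact (cj g c1).inv_left
  set x := g * y * g⁻¹ with hx
  have x3 : x ^ 3 = 1 := by rw [hx, conj_pow, y3]; group
  have sx : g * g * x * (g * g)⁻¹ = x⁻¹ := by
    calc g * g * x * (g * g)⁻¹ = g * (g * g * y * (g * g)⁻¹) * g⁻¹ := by rw [hx]; group
      _ = x⁻¹ := by rw [hs, hx]; group
  have hu := hn.conj_mem v hv x
  have k1 := key v hv c
  have k2 := key _ hu (by simpa only [hc.symm.eq, mul_inv_cancel_right] using cj x c)
  set w := v * (g * g * v * (g * g)⁻¹) with hw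
  set d := x * v * x⁻¹ * (x⁻¹ * v * x)⁻¹ with hd
  have e : x * v * x⁻¹ * (g * g * (x * v * x⁻¹) * (g * g)⁻¹) = d * w := by
    calc x * v * x⁻¹ * (g * g * (x * v * x⁻¹) * (g * g)⁻¹)
        = x * v * x⁻¹ * ((g * g * x * (g * g)⁻¹) * v⁻¹ * w * (g * g * x * (g * g)⁻¹)⁻¹) := by
          rw [hw]; group
      _ = d * (x⁻¹ * (w * x)) := by rw [sx, hd]; group
      _ = d * w := by rw [k1.eq]; group
  rw [e] at k2
  have k3 : Commute d x := by simpa using k2.mul_left k1.inv_left
  have xi : x⁻¹ = x * x := by rw [eq_comm, ← mul_eq_one_iff_eq_inv, ← x3, pow_three']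
  have e4 := pow_conj (a := x * x) (u := x⁻¹ * v * x) (by rw [hd]; group) (k3.mul_right k3) 3
  rw [← xi, inv_pow, x3, inv_one, inv_one, one_mul, mul_one, right_eq_mul] at e4
  have e5 := h3 d (mul_mem hu (inv_mem (by simpa using hn.conj_mem v hv x⁻¹))) e4
  rw [hd, mul_inv_eq_one] at e5
  have e6 : Commute v (x * x) := by
    calc v * (x * x) = x * (x⁻¹ * v * x) * x := by group
      _ = x * x * v := by rw [← e5]; group
  exact Commute.inv_right_iff.1 (xi ▸ e6)

section loc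

variable {X : Type u} [Group X] [Finite X]

theorem Loc.faithful (h : Loc 2 X) (hO : oddCore X = ⊥) {x : X} (x3 : x ^ 3 = 1)
    (hc : x ∈ centralizer (pCore 2 X : Set X)) : x = 1 := by
  have := h.solvable
  have := cop_of_mem (H98.isPGroup_pCore 2 X) (H2.centralizer_pCore_le hO hc) (p := 3) (by norm_num)
  exact orderOf_eq_one_iff.1 (this.eq_one_of_dvd (orderOf_dvd_of_pow_eq_one x3))

theorem cop_core : (Nat.card (pCore 2 X)).Coprime 3 :=
  H2.coprime_card_of_isPGroup (H98.isPGroup_pCore 2 X) (by norm_num)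

theorem Loc.step1 (h : Loc 2 X) (hO : oddCore X = ⊥) {Q : Subgroup X}
    (hQ : IsElementaryAbelian 3 Q) (h9 : 3 ^ 2 ≤ Nat.card Q) {t : X} (ht : t ∈ center X)
    (h1 : t ≠ 1) (h4 : ∀ y : X, orderOf y = 3 → ∀ U : Subgroup X, IsPGroup 2 U →
      U ≤ centralizer {y} → Nat.card U ≤ 4) : False := by
  have := h.solvable
  have := hQ.1
  have tR : t ∈ pCore 2 X := H2.centralizer_pCore_le hO fun a _ => mem_center_iff.1 ht a
  have hR : pCore 2 X ≤ centralizer Q := by
    refine H14.le_of_forall_inf_centralizer hQ h9 le_normalizer_of_normal cop_core fun y hy h1 => ?_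
    have e1 := H2.card_modEq_card_inf_centralizer (q := 3) (Q := Q)
      (K := pCore 2 X ⊓ centralizer {y})
      (H98.isPGroup_iff_forall.2 fun a ha => ⟨1, hQ.2 a ha⟩)
      (H98.le_normalizer_inf le_normalizer_of_normal (H98.le_normalizer_of_le fun a ha =>
        mem_centralizer_singleton_iff.2 (mul_comm_of_mem_isMulCommutative Q ha hy)))
    have e2 := h4 y (orderOf_eq_prime (hQ.2 y hy) h1) _
      ((H98.isPGroup_pCore 2 X).to_le inf_le_left) inf_le_right
    have e3 : 1 < Nat.card (pCore 2 X ⊓ centralizer {y} ⊓ centralizer Q : Subgroup X) :=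
      one_lt_card_iff_ne_bot _ |>.2 fun e => ‹t ≠ 1› (mem_bot.1 (e ▸
        ⟨⟨tR, center_le_centralizer _ ht⟩, center_le_centralizer _ ht⟩))
    have e4 := card_le_of_le (inf_le_left :
      pCore 2 X ⊓ centralizer {y} ⊓ centralizer Q ≤ pCore 2 X ⊓ centralizer {y})
    exact inf_eq_left.1 (eq_of_le_of_card_ge inf_le_left (by unfold Nat.ModEq at e1; omega))
  have : Q = ⊥ := eq_bot_iff.2 fun a ha =>
    mem_bot.2 (h.faithful hO (hQ.2 a ha) (le_centralizer_iff.1 hR ha))
  rw [this, card_bot] at h9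
  omega

theorem not_mem_zp {g y : X} (y3 : orderOf y = 3) (hs : g * g * y * (g * g)⁻¹ = y⁻¹) :
    g * y * g⁻¹ ∉ zpowers y := fun h => by
  obtain ⟨k, hk⟩ := mem_zpowers_iff.1 h
  have e : y ^ (k * k) = y ^ (-1 : ℤ) := by
    rw [zpow_mul, hk, conj_zpow, hk, zpow_neg_one, ← hs]; group
  rw [zpow_eq_zpow_iff_modEq, y3] at e
  have : k % 3 = 0 ∨ k % 3 = 1 ∨ k % 3 = 2 := by omega
  unfold Int.ModEq at e
  rcases this with r | r | r <;> simp [Int.mul_emod, r] at e

theorem Loc.step3 (h : Loc 2 X) (hO : oddCore X = ⊥) (h12 : ∀ a : X, a ^ 12 = 1) {Q : Subgroup X}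
    (hQ : IsElementaryAbelian 3 Q) {g y : X} (hg : g ∈ normalizer (Q : Set X)) (g4 : g ^ 4 = 1)
    (hy : y ∈ Q) (hs : g * g * y * (g * g)⁻¹ = y⁻¹) : y = 1 := by
  have := hQ.1
  have cm : ∀ {a b : X}, a ∈ Q → b ∈ Q → Commute a b := fun ha hb =>
    mul_comm_of_mem_isMulCommutative Q ha hb
  by_contra h1
  let A : Subgroup X :=
    { carrier := {x | x ∈ Q ∧ g * g * x * (g * g)⁻¹ = x⁻¹}
      one_mem' := ⟨one_mem _, by simp⟩
      mul_mem' := fun {a b} ha hb => ⟨mul_mem ha.1 hb.1, by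
        rw [← conj_mul, ha.2, hb.2, (cm ha.1 hb.1).eq, mul_inv_rev]⟩
      inv_mem' := fun {a} ha => ⟨inv_mem ha.1, by rw [← conj_inv, ha.2]⟩ }
  have cA : ∀ a ∈ A, g * a * g⁻¹ ∈ A := fun a ha => ⟨H98.conj_mem_of_mem_normalizer hg ha.1, by
    calc g * g * (g * a * g⁻¹) * (g * g)⁻¹ = g * (g * g * a * (g * g)⁻¹) * g⁻¹ := by group
      _ = _ := by rw [ha.2]; group⟩
  have c9 : ∀ a ∈ A, a ≠ 1 → Nat.card ↥(zpowers a ⊔ zpowers (g * a * g⁻¹)) = 3 ^ 2 := fun a ha h1 =>
    have o := orderOf_eq_prime (hQ.2 a ha.1) h1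
    H3.card_sup_zpowers_of_commute Nat.prime_three (cm ha.1 (cA a ha).1) o
      (((MulAut.conj g).orderOf_eq a).trans o) (not_mem_zp o ha.2)
  have yA : y ∈ A := ⟨hy, hs⟩
  have BA : zpowers y ⊔ zpowers (g * y * g⁻¹) ≤ A :=
    sup_le (zpowers_le.2 yA) (zpowers_le.2 (cA y yA))
  have Bg : zpowers y ⊔ zpowers (g * y * g⁻¹) ≤
      (zpowers y ⊔ zpowers (g * y * g⁻¹)).comap (MulAut.conj g).toMonoidHom := by
    refine sup_le (zpowers_le.2 (mem_sup_right (mem_zpowers _))) (zpowers_le.2 (mem_sup_left ?_))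
    change g * (g * y * g⁻¹) * g⁻¹ ∈ _
    rw [show g * (g * y * g⁻¹) * g⁻¹ = y⁻¹ by rw [← hs]; group]
    exact inv_mem (mem_zpowers y)
  have pR := H98.isPGroup_pCore 2 X
  let π := QuotientGroup.mk' ((frattini (pCore 2 X)).map (pCore 2 X).subtype)
  have hπ : ∀ a b : X, Commute (π a) (π b) ↔
      ⁅a, b⁆ ∈ (frattini (pCore 2 X)).map (pCore 2 X).subtype := fun a b => by
    rw [← commutatorElement_eq_one_iff_commute, ← map_commutatorElement]
    exact QuotientGroup.eq_one_iff _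
  have := (inferInstance : (pCore 2 X).Normal).map π (QuotientGroup.mk'_surjective _)
  have hV : (pCore 2 X).map π ≤ centralizer ((pCore 2 X).map π) := by
    rintro _ ⟨a, ha, rfl⟩ _ ⟨b, hb, rfl⟩
    exact (hπ b a).2 ⟨⁅⟨b, hb⟩, ⟨a, ha⟩⁆, H3.commutator_le_frattini_pgroup pR
      (commutator_mem_commutator (mem_top _) (mem_top _)), rfl⟩
  have hR : pCore 2 X ≤ (centralizer {π y}).comap π := by
    refine H14.le_of_forall_inf_centralizer (H3.isElementaryAbelian_sup_zpowers
      (cm hy (cA y yA).1) (hQ.2 y hy) (hQ.2 _ (cA y yA).1)) (c9 y yA h1).ge le_normalizer_of_normal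
      cop_core fun a ha a1 r hr => ?_
    have aA := BA ha
    have c1 : Commute (π r) (π a) := Commute.map (mem_centralizer_singleton_iff.1 hr.2) π
    have c2 := core hV (fun c hc e => orderOf_eq_one_iff.1 ((cop_of_mem (pR.map π) hc (p := 3)
        (by norm_num)).eq_one_of_dvd (orderOf_dvd_of_pow_eq_one e)))
      (fun b => by obtain ⟨b, rfl⟩ := QuotientGroup.mk'_surjective _ b; rw [← map_pow, h12, map_one])
      (g := π g) (by rw [← map_pow, g4, map_one]) (by rw [← map_pow, hQ.2 a aA.1, map_one])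
      (by simpa using congrArg π aA.2) (by simpa using (cm aA.1 (cA a aA).1).map π)
      (mem_map_of_mem π hr.1) c1
    have e : zpowers a ⊔ zpowers (g * a * g⁻¹) = zpowers y ⊔ zpowers (g * y * g⁻¹) :=
      eq_of_le_of_card_ge (sup_le (zpowers_le.2 ha) (zpowers_le.2 (Bg ha)))
        (by rw [c9 a aA a1, c9 y yA h1])
    have l : zpowers a ⊔ zpowers (g * a * g⁻¹) ≤ (centralizer {π r}).comap π :=
      sup_le (zpowers_le.2 (mem_centralizer_singleton_iff.2 c1.symm))
        (zpowers_le.2 (mem_centralizer_singleton_iff.2 (by simpa using c2.symm.eq)))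
    exact mem_centralizer_singleton_iff.2
      (mem_centralizer_singleton_iff.1 (l (e ▸ mem_sup_left (mem_zpowers y)))).symm
  refine h1 (h.faithful hO (hQ.2 y hy) (H10.mem_centralizer_of_forall_commutator_mem_frattini pR
    (le_normalizer_of_normal (mem_top y)) ?_ fun k hk =>
      (hπ k y).1 (mem_centralizer_singleton_iff.1 (hR hk))))
  rw [orderOf_eq_prime (hQ.2 y hy) h1]; norm_num

theorem Loc.step2 (h : Loc 2 X) (hO : oddCore X = ⊥) (h12 : ∀ a : X, a ^ 12 = 1) (Q : Sylow 3 X)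
    (hQ : IsElementaryAbelian 3 (Q : Subgroup X)) (h9 : 3 ^ 2 ≤ Nat.card (Q : Subgroup X))
    (one : ∀ a b : X, orderOf a = 3 → orderOf b = 3 → IsConj a b) : False := by
  have := hQ.1
  have cm : (Q : Subgroup X) ≤ centralizer Q := fun a ha b hb =>
    mul_comm_of_mem_isMulCommutative (Q : Subgroup X) hb ha
  have inv : ∀ n ∈ normalizer (Q : Set X), ∀ q ∈ Q, n * q * n⁻¹ = n⁻¹ * q * n := by
    intro n hn q hq
    have n4 : n ^ 4 ∈ Q := (H98.isSyl_sylow Q).le_of_le_normalizer'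
      (H98.isPGroup_zpowers (k := 1) (by rw [← pow_mul]; exact h12 n)) le_top
      (zpowers_le.2 (pow_mem hn 4)) (mem_zpowers _)
    have h3 := pow_mem hn 3
    have g4 : (n ^ 3) ^ 4 = 1 := by rw [← pow_mul, h12]
    have e := h.step3 hO h12 hQ h3 g4 (y := n ^ 3 * n ^ 3 * q * (n ^ 3 * n ^ 3)⁻¹ * q⁻¹)
      (mul_mem (H98.conj_mem_of_mem_normalizer (mul_mem h3 h3) hq) (inv_mem hq)) (by
        calc _ = (n ^ 3) ^ 4 * q * ((n ^ 3) ^ 4)⁻¹ * (n ^ 3 * n ^ 3 * q * (n ^ 3 * n ^ 3)⁻¹)⁻¹ := by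
              group
          _ = _ := by rw [g4]; group)
    rw [mul_inv_eq_one, mul_inv_eq_iff_eq_mul] at e
    have e2 := cm n4 q hq
    calc n * q * n⁻¹ = n * (q * n ^ 4) * (n ^ 5)⁻¹ := by group
      _ = n⁻¹ * (n ^ 3 * n ^ 3 * q) * (n ^ 5)⁻¹ := by rw [e2]; group
      _ = _ := by rw [e]; group
  have o3 : ∀ a ∈ Q, a ≠ 1 → orderOf a = 3 := fun a ha h1 => orderOf_eq_prime (hQ.2 a ha) h1
  obtain ⟨a, ha, h1⟩ := (Q : Subgroup X).bot_or_exists_ne_one.resolve_left fun e => by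
    rw [e, card_bot] at h9; omega
  obtain ⟨b, hb, hab⟩ := SetLike.not_le_iff_exists.1 fun e : (Q : Subgroup X) ≤ zpowers a => by
    have := card_le_of_le e
    rw [Nat.card_zpowers, o3 a ha h1] at this
    omega
  obtain ⟨g, hg, e1⟩ := fuse Q cm ha hb
    (one a b (o3 a ha h1) (o3 b hb fun e => hab (e ▸ one_mem _)))
  have hc := mul_mem ha hb
  obtain ⟨k, hk, e2⟩ := fuse Q cm hc ha (one _ a (o3 _ hc fun e => hab (by
    rw [eq_inv_of_mul_eq_one_right e]; exact inv_mem (mem_zpowers a))) (o3 a ha h1))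
  have e3 : g * b * g⁻¹ = a := by rw [inv g hg b hb, ← e1]; group
  have e4 : g * (a * b) * g⁻¹ = a * b := by rw [← conj_mul, e1, e3, cm ha b hb]
  have e5 : b = a := by
    calc b = g * k * (a * b) * (g * k)⁻¹ := by
          rw [← e1]; conv_lhs => rw [← e2]
          rw [e1]; group
      _ = k⁻¹ * (g⁻¹ * (a * b) * g) * k := by rw [inv _ (mul_mem hg hk) _ hc]; group
      _ = a := by rw [← inv g hg _ hc, e4, ← inv k hk _ hc, e2]
  exact hab (e5 ▸ mem_zpowers _)

end loc

variable {G : Type u} [Group G] [Finite G]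

theorem cube (h : Few G) {t x : G} (ht : orderOf t = 2) (c : Commute x t)
    (hx : (orderOf x).Coprime 2) : x ^ 3 = 1 := by
  have h5 : ¬ 5 ≤ orderOf x := fun e => not_cop h (Or.inl ht) c e (ht ▸ hx)
  have h0 := orderOf_pos x
  rw [← orderOf_dvd_iff_pow_eq_one]
  generalize orderOf x = n at *
  have : n < 5 := by omega
  interval_cases n <;> simp_all +decide

theorem card_le_four (h : Few G) (h12 : ∀ w : G, Om w → orderOf w ≠ 12) {y : G}
    (hy : orderOf y = 3) {U : Subgroup G} (hU : IsPGroup 2 U) (hc : U ≤ centralizer {y}) :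
    Nat.card U ≤ 4 := by
  obtain ⟨T, hT⟩ := (H98.isPGroup_subgroupOf hU (centralizer {y})).exists_le_sylow
  have sq : ∀ a ∈ (T : Subgroup (centralizer ({y} : Set G))), a * a = 1 := fun a ha => by
    by_contra hn
    obtain ⟨k, hk⟩ := IsPGroup.iff_orderOf.1 T.isPGroup' ⟨a, ha⟩
    replace hk : orderOf a = 2 ^ k := (orderOf_coe _).trans hk
    have d4 : 4 ∣ orderOf a := by
      rcases k with _ | _ | k
      · exact absurd (by rw [orderOf_eq_one_iff.1 hk, mul_one]) hn
      · exact absurd (by rw [← pow_two]; exact orderOf_dvd_iff_pow_eq_one.1 hk.dvd) hn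
      · exact hk ▸ ⟨2 ^ k, by ring⟩
    have o := orderOf_pow_orderOf_div (orderOf_pos a).ne' d4
    have c : (orderOf (a ^ (orderOf a / 4))).Coprime (orderOf y) := by rw [o, hy]; norm_num
    exact h12 _ (om_mul (Or.inr hy) (ne_one_of o (by norm_num)) c).1 (by rw [ord_mul c, o, hy])
  have := (hy ▸ loc h (Or.inr hy)).card_le_four T fun a ha b hb => by
    have e := sq _ (mul_mem ha hb)
    rw [mul_eq_one_iff_eq_inv, mul_inv_rev, ← mul_eq_one_iff_eq_inv.1 (sq a ha),
      ← mul_eq_one_iff_eq_inv.1 (sq b hb)] at e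
    exact e.symm
  rw [← Nat.card_congr (subgroupOfEquivOfLe hc).toEquiv]
  exact (card_le_of_le hT).trans this

theorem jobLocA : JobLocA.{u} := by
  intro G _ _ t h ht hO h9
  have L := ht ▸ loc h (Or.inl ht)
  obtain ⟨Q⟩ := (inferInstance : Nonempty (Sylow 3 (centralizer ({t} : Set G))))
  have hQ : IsElementaryAbelian 3 (Q : Subgroup (centralizer ({t} : Set G))) :=
    ⟨le_centralizer_iff_isMulCommutative.1 (ab3 h _ _ Q.isPGroup'), fun a ha => Subtype.ext
      (cube h ht (mem_centralizer_singleton_iff.1 a.2)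
        (by rw [orderOf_coe]; exact cop_of_mem Q.isPGroup' ha (by norm_num)))⟩
  have q9 : 3 ^ 2 ≤ Nat.card (Q : Subgroup (centralizer ({t} : Set G))) := by
    rw [Q.card_eq_multiplicity]
    exact Nat.pow_le_pow_right (by norm_num)
      ((Nat.prime_three.pow_dvd_iff_le_factorization Nat.card_pos.ne').1 h9)
  by_cases h12 : ∀ w : G, Om w → orderOf w ≠ 12
  · refine L.step1 hO hQ q9 (t := ⟨t, mem_centralizer_singleton_iff.2 rfl⟩)
      (mem_center_iff.2 fun a => Subtype.ext (mem_centralizer_singleton_iff.1 a.2))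
      (fun e => ne_one_of ht (by norm_num) (congrArg Subtype.val e)) fun y hy U hU hc => ?_
    rw [← card_map_of_injective (centralizer ({t} : Set G)).subtype_injective]
    refine card_le_four h h12 ((orderOf_coe y).trans hy) (hU.map _) ?_
    rintro _ ⟨a, ha, rfl⟩
    exact mem_centralizer_singleton_iff.2
      (congrArg Subtype.val (mem_centralizer_singleton_iff.1 (hc ha)))
  · push Not at h12
    obtain ⟨w, hw, o12⟩ := h12
    refine L.step2 hO (fun a => ?_) Q hQ q9 fun a b ha hb => ?_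
    · by_cases h1 : (a : G) = 1
      · rw [show a = 1 from Subtype.ext h1, one_pow]
      have oa := om_of (Or.inl ht) (mem_centralizer_singleton_iff.1 a.2) h1
      rw [← orderOf_dvd_iff_pow_eq_one, ← orderOf_coe]
      by_cases h5 : 5 ≤ orderOf (a : G) ∧ orderOf (a : G) ≠ 6
      · rw [ord_eq (two h oa hw h5.1 (by omega) h5.2 (by omega)), o12]
      · have h0 := orderOf_pos (a : G)
        generalize orderOf (a : G) = n at *
        have : n < 7 := by omega
        interval_cases n <;> simp_all +decide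
    · have ca : (orderOf a).Coprime (orderOf t) := by rw [ha, ht]; norm_num
      have cb : (orderOf b).Coprime (orderOf t) := by rw [hb, ht]; norm_num
      obtain ⟨a1, a2⟩ := om_mul (Or.inl ht) (ne_one_of ha (by norm_num)) ca
      obtain ⟨b1, b2⟩ := om_mul (Or.inl ht) (ne_one_of hb (by norm_num)) cb
      rcases three h a1 b1 hw a2 b2 (by omega) with e | e | e
      · exact conj_cen ca cb e
      · exact absurd (ord_eq e) (by rw [ord_mul ca, ha, ht, o12]; norm_num)
      · exact absurd (ord_eq e) (by rw [ord_mul cb, hb, ht, o12]; norm_num)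

end H9.Sz
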