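import Cfsg.Agent.H9.SzLoc
import Cfsg.Agent.H2.MinNormal
import Cfsg.Agent.H98.Coprime

/-! Tower ITO, part 2: the job LOCB. -/

set_option autoImplicit false

namespace H9.Sz

open Cfsg Subgroup H53.Sz

universe u

section loc

variable {X : Type u} [Group X] [Finite X]

theorem ncard_cls (a : X) : {b | IsConj a b}.ncard = (centralizer ({a} : Set X)).index := by
  rw [← relIndex_top_right, H4.relIndex_cent_eq_ncard]
  congr 1
  ext b
  simp [isConj_iff]

theorem card_le_two (hX : IsPGroup 2 X)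
    (h : ∀ a b c : X, a ≠ 1 → b ≠ 1 → c ≠ 1 → IsConj a b ∨ IsConj a c ∨ IsConj b c) :
    ¬ 4 ∣ Nat.card X := fun h4 => by
  have h4' := Nat.le_of_dvd Nat.card_pos h4
  have : Nontrivial X := Finite.one_lt_card_iff_nontrivial.1 (by omega)
  have := hX.center_nontrivial
  obtain ⟨⟨u, hu⟩, h1⟩ := exists_ne (1 : center X)
  replace h1 : u ≠ 1 := fun e => h1 (Subtype.ext e)
  have hc : ∀ {b : X}, IsConj u b → b = u := fun hb => by
    obtain ⟨g, rfl⟩ := isConj_iff.1 hb
    rw [mem_center_iff.1 hu g, mul_inv_cancel_right]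
  have c2 : ({1, u}ᶜ : Set X).ncard + 2 = Nat.card X := by
    rw [← Set.ncard_pair h1.symm, add_comm, Set.ncard_add_ncard_compl]
  obtain ⟨a, ha⟩ := (Set.ncard_pos (s := ({1, u}ᶜ : Set X))).1 (by omega)
  simp only [Set.mem_compl_iff, Set.mem_insert_iff, Set.mem_singleton_iff, not_or] at ha
  have e : ({1, u}ᶜ : Set X) = {b | IsConj a b} := by
    ext b
    simp only [Set.mem_compl_iff, Set.mem_insert_iff, Set.mem_singleton_iff, not_or,
      Set.mem_setOf_eq]
    refine ⟨fun hb => ?_, fun hb => ⟨fun e => ha.1 (isConj_one_left.1 (e ▸ hb)),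
      fun e => ha.2 (hc (e ▸ hb.symm))⟩⟩
    rcases h u a b h1 ha.1 hb.1 with e | e | e
    exacts [absurd (hc e) ha.2, absurd (hc e) hb.2, e]
  rw [e, ncard_cls] at c2
  have c3 : 3 ≤ Nat.card (centralizer ({a} : Set X)) := by
    rw [← Set.ncard_eq_three.2 ⟨1, u, a, h1.symm, Ne.symm ha.1, Ne.symm ha.2, rfl⟩]
    refine Set.ncard_le_ncard (t := (centralizer ({a} : Set X) : Set X)) ?_
    rintro b (rfl | rfl | rfl)
    exacts [one_mem _, center_le_centralizer _ hu, mem_centralizer_singleton_iff.2 rfl]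
  have := (centralizer ({a} : Set X)).card_mul_index
  nlinarith

theorem Loc.of_normal (h : Loc 3 X) (P : Sylow 3 X) [(P : Subgroup X).Normal] :
    ¬ 4 ∣ Nat.card X := fun h4 => by
  obtain ⟨k, hk⟩ := h.pow_two (index_dvd_card (P : Subgroup X)) P.not_dvd_index
  have hY : IsPGroup 2 (X ⧸ (P : Subgroup X)) := .of_card hk
  obtain ⟨T, hT⟩ := H98.exists_isSyl 2 (⊤ : Subgroup X)
  have e := hT.map (QuotientGroup.mk' (P : Subgroup X))
  rw [map_top_of_surjective _ (QuotientGroup.mk'_surjective _)] at e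
  have l : ∀ a : X ⧸ (P : Subgroup X), a ≠ 1 → ∃ x : X, x ≠ 1 ∧ (orderOf x).Coprime 3 ∧
      QuotientGroup.mk' (P : Subgroup X) x = a := fun a h1 => by
    obtain ⟨x, hx, rfl⟩ := (e.eq_of_isPGroup (H98.isPGroup_top_iff.2 hY)).ge (mem_top a)
    exact ⟨x, fun e => h1 (by rw [e, map_one]), cop_of_mem hT.isPGroup hx (by norm_num), rfl⟩
  refine card_le_two hY (fun a b c ha hb hc => ?_) ?_
  · obtain ⟨a, a1, a2, rfl⟩ := l a ha
    obtain ⟨b, b1, b2, rfl⟩ := l b hb
    obtain ⟨c, c1, c2, rfl⟩ := l c hc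
    exact (h.three a b c a1 b1 c1 a2 b2 c2).imp (MonoidHom.map_isConj _)
      (Or.imp (MonoidHom.map_isConj _) (MonoidHom.map_isConj _))
  · obtain ⟨n, hn⟩ := P.isPGroup'.exists_card_eq
    rw [← (P : Subgroup X).card_mul_index, hn] at h4
    exact (Nat.Coprime.pow_right n (by norm_num)).dvd_of_dvd_mul_left h4

omit [Finite X] in
theorem dvd_cen {a b : X} (h : Commute b a) : orderOf b ∣ Nat.card (centralizer ({a} : Set X)) :=
  orderOf_dvd_natCard _ (mem_centralizer_singleton_iff.2 h)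

theorem Loc.cent_six (h : Loc 3 X) (h4 : ¬ 4 ∣ Nat.card X) {y u : X} (hy : orderOf y = 3)
    (hu : orderOf u = 2) (c : Commute y u) (h9 : ¬ 9 ∣ Nat.card (centralizer ({u} : Set X))) :
    Nat.card (centralizer ({u} : Set X)) = 6 := by
  have d := card_subgroup_dvd_card (centralizer ({u} : Set X))
  obtain ⟨m, hm⟩ := (show Nat.Coprime 2 3 by norm_num).mul_dvd_of_dvd_of_dvd
    (hu ▸ dvd_cen (Commute.refl u)) (hy ▸ dvd_cen c)
  rw [hm] at d h9 ⊢
  obtain ⟨k, rfl⟩ := h.pow_three ((dvd_mul_left _ _).trans d) fun e => h4 (Dvd.dvd.trans (by omega) d)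
  rcases k with _ | k
  · rfl
  · exact absurd ⟨2 * 3 ^ k, by ring⟩ h9

/-- A non-trivial abelian normal 2-subgroup is a four-group with one class of involutions. -/
theorem Loc.four_group (h : Loc 3 X) (h9 : ∀ u : X, u ≠ 1 → (orderOf u).Coprime 3 →
    ¬ 9 ∣ Nat.card (centralizer ({u} : Set X))) (d9 : 9 ∣ Nat.card X) {Z : Subgroup X}
    [hn : Z.Normal] (hZ : IsPGroup 2 Z) (ab : Z ≤ centralizer Z) (h1 : Z ≠ ⊥) (T : Sylow 2 X) :
    ∃ v : X, (∀ b, IsConj v b ↔ b ∈ Z ∧ b ≠ 1) ∧ Nat.card Z = 4 ∧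
      Nat.card X = 9 * Nat.card (T : Subgroup X) := by
  obtain ⟨v, hv, v1⟩ := (Subgroup.bot_or_exists_ne_one _).resolve_left
    (H98.inf_centralizer_ne_bot hZ T.isPGroup' le_normalizer_of_normal h1)
  have cop : ∀ a ∈ Z, (orderOf a).Coprime 3 := fun a ha => cop_of_mem hZ ha (by norm_num)
  have sub : ∀ {a b : X}, a ∈ Z → IsConj a b → b ∈ Z := fun ha hb => by
    obtain ⟨g, rfl⟩ := isConj_iff.1 hb
    exact hn.conj_mem _ ha g
  have ne : ∀ b, IsConj v b → b ≠ 1 := fun b hb e => v1 (isConj_one_left.1 (e ▸ hb))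
  have TC : (T : Subgroup X) ≤ centralizer {v} := fun a ha =>
    mem_centralizer_singleton_iff.2 (hv.2 a ha)
  obtain ⟨k, hk⟩ := h.pow_three (index_dvd_card (centralizer ({v} : Set X))) fun e =>
    T.not_dvd_index (e.trans (index_dvd_of_le TC))
  have e1 := (centralizer ({v} : Set X)).card_mul_index
  have n9 := h9 v v1 (cop v hv.1)
  have k3 : 3 ≤ 3 ^ k := by
    rcases k with _ | k
    · rw [hk, pow_zero, mul_one] at e1
      exact absurd (e1 ▸ d9) n9
    · exact Nat.le_self_pow k.succ_ne_zero 3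
  have hd := ncard_diff (bot_le (a := Z))
  rw [card_bot] at hd
  have all : ∀ b ∈ Z, b ≠ 1 → IsConj v b := by
    by_contra hb
    push Not at hb
    obtain ⟨b, hb, b1, hvb⟩ := hb
    have TZ : (T : Subgroup X) ≤ Z := fun c hc => by
      by_cases c1 : c = 1
      · exact c1 ▸ one_mem _
      rcases h.three v b c v1 b1 c1 (cop v hv.1) (cop b hb)
        (cop_of_mem T.isPGroup' hc (by norm_num)) with e | e | e
      exacts [absurd e hvb, sub hv.1 e, sub hb e]
    have e2 := h.card_le_four T (TZ.trans (ab.trans (H98.centralizer_anti TZ)))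
    have e3 := card_le_of_le (hZ.le_sylow_of_normal T)
    have e4 : {c | IsConj v c}.ncard < ((Z : Set X) \ (⊥ : Subgroup X)).ncard :=
      Set.ncard_lt_ncard ⟨fun c hc => ⟨sub hv.1 hc, ne c hc⟩, fun e => hvb (e ⟨hb, b1⟩)⟩
    rw [ncard_cls, hk] at e4
    change Nat.card (T : Subgroup X) ≤ 4 at e2
    omega
  have e5 : ((Z : Set X) \ (⊥ : Subgroup X)) = {c | IsConj v c} :=
    Set.ext fun c => ⟨fun hc => all c hc.1 hc.2, fun hc => ⟨sub hv.1 hc, ne c hc⟩⟩
  obtain ⟨n, e6⟩ := hZ.exists_card_eq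
  rw [e5, ncard_cls, hk] at hd
  have e7 := two_pow_le (hd.trans e6)
  refine ⟨v, fun b => ⟨fun hb => ⟨sub hv.1 hb, ne b hb⟩, fun hb => all b hb.1 hb.2⟩, by omega, ?_⟩
  obtain ⟨m, hm⟩ := h.pow_three (index_dvd_card (T : Subgroup X)) T.not_dvd_index
  obtain ⟨l, hl⟩ := T.isPGroup'.exists_card_eq
  have e8 := (T : Subgroup X).card_mul_index
  rw [hk, show 3 ^ k = 3 by omega] at e1
  rw [hm] at e8
  rcases m with _ | _ | _ | m
  · rw [← e8, hl, pow_zero, mul_one] at d9
    exact absurd ((Nat.prime_three.dvd_of_dvd_pow (Dvd.dvd.trans (by norm_num) d9))) (by norm_num)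
  · rw [← e8, hl, pow_one] at d9
    exact absurd (Nat.prime_three.dvd_of_dvd_pow (n := l) (m := 2) (by omega)) (by norm_num)
  · omega
  · exact absurd ⟨Nat.card (T : Subgroup X) * 3 ^ m, by rw [pow_add, pow_add, pow_add] at e8; nlinarith⟩ n9

theorem Loc.sylow_le (h : Loc 3 X) {y : X} (hy : orderOf y = 3) (yc : y ∈ center X)
    {Z : Subgroup X} [hn : Z.Normal] (hZ : IsPGroup 2 Z) (ab : Z ≤ centralizer Z) (T : Sylow 2 X)
    {v : X} (hv : ∀ b, IsConj v b ↔ b ∈ Z ∧ b ≠ 1) (v2 : orderOf v = 2) (c4 : Nat.card Z = 4)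
    (c9 : Nat.card X = 9 * Nat.card (T : Subgroup X)) : (T : Subgroup X) ≤ Z := by
  have ZT := hZ.le_sylow_of_normal T
  have vZ := (hv v).1 (IsConj.refl v)
  have out : ∀ a ∈ T, a ∉ Z → ∀ b ∈ T, b ∉ Z → IsConj a b := fun a ha ha' b hb hb' => by
    rcases h.three v a b vZ.2 (fun e => ha' (e ▸ one_mem _)) (fun e => hb' (e ▸ one_mem _))
      (by rw [v2]; norm_num) (cop_of_mem T.isPGroup' ha (by norm_num))
      (cop_of_mem T.isPGroup' hb (by norm_num)) with e | e | e
    exacts [absurd ((hv a).1 e).1 ha', absurd ((hv b).1 e).1 hb', e]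
  intro a ha
  by_contra ha'
  by_cases hc : a ∈ centralizer (Z : Set X)
  · have l : Z < (T : Subgroup X) ⊓ centralizer {a} := lt_of_le_of_ne
      (le_inf ZT fun b hb => mem_centralizer_singleton_iff.2 (hc b hb)) fun e =>
        ha' (e ▸ ⟨ha, mem_centralizer_singleton_iff.2 rfl⟩)
    have l2 := card_lt_of_lt l
    obtain ⟨n, e1⟩ := (T.isPGroup'.to_le
      (inf_le_left : (T : Subgroup X) ⊓ centralizer {a} ≤ T)).exists_card_eq
    have d8 : 2 ^ 3 ∣ 2 ^ n := pow_dvd_pow 2 (by
      by_contra h3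
      have : n < 3 := by omega
      interval_cases n <;> omega)
    rw [← e1] at d8
    have t8 := Nat.le_of_dvd Nat.card_pos (d8.trans (card_dvd_of_le inf_le_left))
    have c24 := Nat.le_of_dvd Nat.card_pos ((show Nat.Coprime (2 ^ 3) 3 by norm_num).mul_dvd_of_dvd_of_dvd
      (d8.trans (card_dvd_of_le inf_le_right)) (hy ▸ dvd_cen (mem_center_iff.1 yc a).symm))
    have e2 := ncard_diff ZT
    have e3 : (((T : Subgroup X) : Set X) \ Z).ncard ≤ {b | IsConj a b}.ncard :=
      Set.ncard_le_ncard fun b hb => out a ha ha' b hb.1 hb.2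
    have e4 := (centralizer ({a} : Set X)).card_mul_index
    rw [ncard_cls] at e3
    nlinarith
  · obtain ⟨w, hw, hwa⟩ : ∃ w ∈ Z, w * a ≠ a * w := by
      by_contra hn
      push Not at hn
      exact hc hn
    have sq : ∀ b ∈ Z, b * b = 1 := fun b hb => by
      by_cases b1 : b = 1
      · rw [b1, mul_one]
      · rw [← _root_.pow_two, ← v2, ord_eq ((hv b).2 ⟨hb, b1⟩), pow_orderOf_eq_one]
    have sqZ : ∀ b ∈ T, b ∉ Z → b * b ∈ Z := fun b hb hb' => by
      by_contra h2
      have e := ord_eq (out b hb hb' _ (mul_mem hb hb) h2)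
      rw [← _root_.pow_two, orderOf_pow] at e
      have o := cop_of_mem T.isPGroup' hb (p := 3) (by norm_num)
      obtain ⟨k, hk⟩ := IsPGroup.iff_orderOf.1 T.isPGroup' ⟨b, hb⟩
      replace hk : orderOf b = 2 ^ k := (orderOf_coe _).trans hk
      rcases k with _ | k
      · exact hb' (orderOf_eq_one_iff.1 hk ▸ one_mem _)
      · rw [hk, Nat.gcd_eq_right (dvd_pow_self 2 k.succ_ne_zero)] at e
        have := Nat.two_pow_pos (k + 1)
        omega
    have aw : a * w ∉ Z := fun e => ha' ((mul_mem_cancel_right hw).1 e)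
    have awT : a * w ∈ T := mul_mem ha (ZT hw)
    have cj := out a ha ha' _ awT aw
    have ne : a * a ≠ a * w * (a * w) := fun e => hwa (by
      rw [mul_assoc, mul_right_inj] at e
      calc w * a = w * (w * (a * w)) := by rw [← e]
        _ = a * w := by rw [← mul_assoc, sq w hw, one_mul])
    have n1 : a * a ≠ 1 := fun e => ne (by
      obtain ⟨g, hg⟩ := isConj_iff.1 cj
      rw [← hg, conj_mul, e]; group)
    have n2 : a * w * (a * w) ≠ 1 := fun e => ne (by
      obtain ⟨g, hg⟩ := isConj_iff.1 cj.symm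
      rw [e]; conv_lhs => rw [← hg, conj_mul, e]
      group)
    have l : Z ⊓ centralizer {a} < Z := lt_of_le_of_ne inf_le_left fun e =>
      hwa (mem_centralizer_singleton_iff.1 (e.ge hw).2)
    have l1 := card_lt_of_lt l
    have l2 := card_dvd_of_le l.le
    have c3 : 3 ≤ Nat.card (Z ⊓ centralizer {a} : Subgroup X) := by
      rw [← Set.ncard_eq_three.2 ⟨1, _, _, n1.symm, n2.symm, ne, rfl⟩]
      refine Set.ncard_le_ncard (t := ((Z ⊓ centralizer {a} : Subgroup X) : Set X)) ?_
      rintro b (rfl | rfl | rfl)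
      · exact one_mem _
      · exact ⟨sqZ a ha ha', mem_centralizer_singleton_iff.2 (mul_assoc _ _ _)⟩
      · refine ⟨sqZ _ awT aw, mem_centralizer_singleton_iff.2 ?_⟩
        have c1 : Commute (a * w * (a * w)) w := (ab hw _ (sqZ _ awT aw))
        have c2 : Commute (a * w * (a * w)) (a * w) := (Commute.refl _).mul_left (Commute.refl _)
        simpa using (c2.mul_right c1.inv_right).eq
    rw [c4] at l1 l2
    rw [le_antisymm (Nat.le_of_lt_succ l1) c3] at l2
    omega

theorem Loc.locB (h : Loc 3 X) (ab : ∀ P : Subgroup X, IsPGroup 3 P → P ≤ centralizer P)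
    {y : X} (hy : orderOf y = 3) (yc : y ∈ center X)
    (h9 : ∀ u : X, orderOf u = 2 → ¬ 9 ∣ Nat.card (centralizer ({u} : Set X))) :
    ¬ 4 ∣ Nat.card X ∨ Nat.card X = 36 ∧ ∃ v w : X, orderOf v = 2 ∧ orderOf w = 2 ∧ v ≠ w ∧
      Commute v w ∧ Nat.card (centralizer ({v} : Set X)) = 12 ∧
      ∀ u : X, orderOf u = 2 → IsConj v u := by
  obtain ⟨P⟩ := (inferInstance : Nonempty (Sylow 3 X))
  by_cases d9 : ¬ 9 ∣ Nat.card X
  · have : (zpowers y).Normal := ⟨fun a ha g => by
      rwa [mem_center_iff.1 (zpowers_le.2 yc ha) g, mul_inv_cancel_right]⟩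
    have l := (H98.isPGroup_zpowers (k := 1) (p := 3)
      (by rw [pow_one, ← hy, pow_orderOf_eq_one])).le_sylow_of_normal P
    obtain ⟨n, hn⟩ := P.isPGroup'.exists_card_eq
    have e : zpowers y = P := eq_of_le_of_card_ge l (by
      rw [Nat.card_zpowers, hy, hn]
      rcases n with _ | _ | n
      · norm_num
      · norm_num
      · exact absurd (Dvd.dvd.trans ⟨3 ^ n, by rw [hn]; ring⟩ (card_subgroup_dvd_card _)) d9)
    have : (P : Subgroup X).Normal := e ▸ this
    exact Or.inl (h.of_normal P)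
  rw [not_not] at d9
  by_cases hD : pPrimeCore 3 X = ⊥
  · have := h.solvable
    have l := (H98.isPGroup_pCore 3 X).le_sylow_of_normal P
    have e : pCore 3 X = P := le_antisymm l
      ((ab _ P.isPGroup').trans ((H98.centralizer_anti l).trans (H2.centralizer_pCore_le hD)))
    have : (P : Subgroup X).Normal := e ▸ inferInstance
    exact Or.inl (h.of_normal P)
  have pD := h.isPGroup_two (H2.not_dvd_card_pPrimeCore 3 X)
  have hZ : IsPGroup 2 (pPrimeCore 3 X ⊓ centralizer (pPrimeCore 3 X) : Subgroup X) :=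
    pD.to_le inf_le_left
  have ab2 : pPrimeCore 3 X ⊓ centralizer (pPrimeCore 3 X) ≤
      centralizer (pPrimeCore 3 X ⊓ centralizer (pPrimeCore 3 X) : Subgroup X) :=
    inf_le_right.trans (H98.centralizer_anti inf_le_left)
  obtain ⟨T⟩ := (inferInstance : Nonempty (Sylow 2 X))
  obtain ⟨v, hv, c4, c9⟩ := h.four_group (fun u u1 hu e => by
    obtain ⟨k, hk⟩ := h.pow_two (orderOf_dvd_natCard u) (Nat.prime_three.coprime_iff_not_dvd.1 hu.symm)
    have d2 : 2 ∣ orderOf u := by
      rcases k with _ | k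
      · exact absurd (orderOf_eq_one_iff.1 hk) u1
      · exact hk ▸ dvd_pow_self 2 k.succ_ne_zero
    exact h9 _ (orderOf_pow_orderOf_div (orderOf_pos u).ne' d2) (e.trans (card_dvd_of_le
      fun a ha => mem_centralizer_singleton_iff.2
        (Commute.pow_right (mem_centralizer_singleton_iff.1 ha) _)))) d9 hZ ab2
    (H98.inf_centralizer_ne_bot pD pD le_normalizer hD) T
  have hn : (pPrimeCore 3 X ⊓ centralizer (pPrimeCore 3 X) : Subgroup X).Normal := inferInstance
  generalize pPrimeCore 3 X ⊓ centralizer (pPrimeCore 3 X) = Z at *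
  have vZ := (hv v).1 (IsConj.refl v)
  have v2 : orderOf v = 2 := by
    obtain ⟨u, hu⟩ := exists_prime_orderOf_dvd_card' (G := Z) 2 (by rw [c4]; norm_num)
    rw [← orderOf_coe] at hu
    exact (ord_eq ((hv u).2 ⟨u.2, ne_one_of hu (by norm_num)⟩)).trans hu
  have TZ := h.sylow_le hy yc hZ ab2 T hv v2 c4 c9
  have e := le_antisymm TZ (hZ.le_sylow_of_normal T)
  have c36 : Nat.card X = 36 := by rw [c9, e, c4]
  obtain ⟨w, hw, hwv⟩ := SetLike.not_le_iff_exists.1 fun e : Z ≤ zpowers v => by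
    have := card_le_of_le e
    rw [Nat.card_zpowers, v2] at this
    omega
  refine Or.inr ⟨c36, v, w, v2, (ord_eq ((hv w).2 ⟨hw, fun e => hwv (e ▸ one_mem _)⟩)).symm.trans v2,
    fun e => hwv (e ▸ mem_zpowers _), ab2 hw v vZ.1, ?_, fun u hu => (hv u).2
      ⟨?_, ne_one_of hu (by norm_num)⟩⟩
  · have e1 := (centralizer ({v} : Set X)).card_mul_index
    have hd := ncard_diff (bot_le (a := Z))
    rw [card_bot, show ((Z : Set X) \ (⊥ : Subgroup X)) = {c | IsConj v c} from
      Set.ext fun c => (hv c).symm, ncard_cls] at hd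
    rw [show (centralizer ({v} : Set X)).index = 3 by omega] at e1
    omega
  · have : (T : Subgroup X).Normal := e ▸ hn
    exact TZ ((H98.isSyl_sylow T).le_of_le_normalizer' (H98.isPGroup_zpowers (k := 1)
      (by rw [pow_one, ← hu, pow_orderOf_eq_one])) le_top le_normalizer_of_normal (mem_zpowers u))

end loc

variable {G : Type u} [Group G] [Finite G]

omit [Finite G] in
theorem card_cen_mul {s : G} {a : centralizer ({s} : Set G)}
    (ha : (orderOf a).Coprime (orderOf s)) : Nat.card (centralizer ({s * a} : Set G)) =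
      Nat.card (centralizer ({a} : Set (centralizer ({s} : Set G)))) := by
  have c : Commute s a := (mem_centralizer_singleton_iff.1 a.2).symm
  rw [← card_map_of_injective (centralizer ({s} : Set G)).subtype_injective]
  congr 2
  ext g
  rw [mem_centralizer_singleton_iff]
  refine ⟨fun hg => ?_, ?_⟩
  · obtain ⟨h1, h2⟩ := split_conj c c (by rwa [orderOf_coe]) (by rwa [orderOf_coe])
      (mul_inv_eq_iff_eq_mul.2 hg)
    exact ⟨⟨g, mem_centralizer_singleton_iff.2 (mul_inv_eq_iff_eq_mul.1 h1)⟩,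
      mem_centralizer_singleton_iff.2 (Subtype.ext (mul_inv_eq_iff_eq_mul.1 h2)), rfl⟩
  · rintro ⟨g, hg, rfl⟩
    exact Commute.mul_right (mem_centralizer_singleton_iff.1 g.2)
      (congrArg Subtype.val (mem_centralizer_singleton_iff.1 hg))

theorem jobLocB : JobLocB.{u} := by
  intro G _ _ t h ht h9
  obtain ⟨z, hz⟩ := h.six
  have hy : orderOf (z ^ 2) = 3 := by rw [orderOf_pow, hz]; norm_num
  have hu : orderOf (z ^ 3) = 2 := by rw [orderOf_pow, hz]; norm_num
  have c : Commute (z ^ 3) (z ^ 2) := Commute.pow_pow_self _ _ _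
  generalize z ^ 2 = y at *
  generalize z ^ 3 = u at *
  have L := hy ▸ loc h (Or.inr hy)
  have n9 : ∀ a : centralizer ({y} : Set G), orderOf a = 2 →
      ¬ 9 ∣ Nat.card (centralizer ({a} : Set (centralizer ({y} : Set G)))) := fun a ha e => by
    obtain ⟨g, hg⟩ := isConj_iff.1 (h.one a t ((orderOf_coe a).trans ha) ht)
    rw [← card_map_of_injective (centralizer ({y} : Set G)).subtype_injective,
      ← H98.card_cj g] at e
    refine h9 (e.trans (card_dvd_of_le ?_))
    rintro _ ⟨_, ⟨b, hb, rfl⟩, rfl⟩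
    exact mem_centralizer_singleton_iff.2 (hg ▸ Commute.map (show Commute (b : G) a from
      congrArg Subtype.val (mem_centralizer_singleton_iff.1 hb)) (MulAut.conj g))
  have yc : (⟨y, mem_centralizer_singleton_iff.2 rfl⟩ : centralizer ({y} : Set G)) ∈ center _ :=
    mem_center_iff.2 fun a => Subtype.ext (mem_centralizer_singleton_iff.1 a.2)
  have y3 := (orderOf_coe _).symm.trans (show orderOf
    ((⟨y, mem_centralizer_singleton_iff.2 rfl⟩ : centralizer ({y} : Set G)) : G) = 3 from hy)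
  have cop : ∀ {a : centralizer ({y} : Set G)}, orderOf a = 2 → (orderOf a).Coprime (orderOf y) :=
    fun ha => by rw [ha, hy]; norm_num
  rcases L.locB (ab3 h _) y3 yc n9 with e | ⟨c36, v, w, v2, w2, ne, vw, c12, all⟩
  · have u2 := (orderOf_coe _).symm.trans (show orderOf
      ((⟨u, mem_centralizer_singleton_iff.2 c⟩ : centralizer ({y} : Set G)) : G) = 2 from hu)
    exact Or.inl ⟨_, by rw [ord_mul (cop u2), hy, u2], (card_cen_mul (cop u2)).trans
      (L.cent_six e y3 u2 (mem_center_iff.1 yc _).symm (n9 _ u2))⟩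
  have yv : Commute y v := (mem_centralizer_singleton_iff.1 v.2).symm
  have cj : ∀ a : centralizer ({y} : Set G), orderOf a = 2 → IsConj (y * v) (y * a) := fun a ha => by
    obtain ⟨g, rfl⟩ := isConj_iff.1 (all a ha)
    refine isConj_iff.2 ⟨g, ?_⟩
    rw [← conj_mul, mem_centralizer_singleton_iff.1 g.2, mul_inv_cancel_right]; rfl
  have sq : ∀ {a : centralizer ({y} : Set G)}, orderOf a = 2 → a * a = 1 := fun ha => by
    rw [← pow_two, ← ha, pow_orderOf_eq_one]
  have vv : (v : G) * v = 1 := congrArg Subtype.val (sq v2)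
  have o6 : orderOf (y * v) = 6 := by rw [ord_mul (cop v2), hy, v2]
  have z4 : (y * v) ^ 4 = y := by
    rw [yv.mul_pow, show (v : G) ^ 4 = v * v * (v * v) by simp [pow_succ, mul_assoc], vv, pow_succ y 3, ← hy,
      pow_orderOf_eq_one]; group
  have ry : IsConj y y⁻¹ := by
    have y1 := ne_one_of hy (by norm_num)
    have z1 := ne_one_of o6 (by norm_num)
    have cz : Commute (y * v) y := (Commute.refl y).mul_left yv.symm
    have i3 := (orderOf_inv y).trans hy
    have i6 := (orderOf_inv _).trans o6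
    rcases four h (om_of (Or.inr hy) (Commute.refl y) y1)
      (om_of (Or.inr hy) (Commute.refl y).inv_left (inv_ne_one.2 y1)) (om_of (Or.inr hy) cz z1)
      (om_of (Or.inr hy) cz.inv_left (inv_ne_one.2 z1)) (by omega) (by omega) (by omega) (by omega)
      with e | e | e | e | e | e
    exacts [e, absurd (ord_eq e) (by omega), absurd (ord_eq e) (by omega),
      absurd (ord_eq e) (by omega), absurd (ord_eq e) (by omega),
      by simpa only [inv_pow, z4] using e.pow 4]
  refine Or.inr ⟨y, v, w, hy, (orderOf_coe v).trans v2, (orderOf_coe w).trans w2,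
    fun e => ne (Subtype.ext e), congrArg Subtype.val vw, yv,
    (mem_centralizer_singleton_iff.1 w.2).symm, c36, (card_cen_mul (cop v2)).trans c12, cj w w2,
    cj (v * w) (orderOf_eq_prime (by rw [vw.mul_pow, pow_two, pow_two, sq v2, sq w2, mul_one])
      fun e => ne (by rw [← mul_one v, ← sq w2, ← mul_assoc, e, one_mul])), ry, ?_⟩
  obtain ⟨g, hg⟩ := isConj_iff.1 ry.symm
  have m : g * v * g⁻¹ ∈ centralizer ({y} : Set G) := mem_centralizer_singleton_iff.2
    ((congrArg (Commute (g * v * g⁻¹)) hg).mp (Commute.map yv.symm.inv_right (MulAut.conj g)))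
  refine (cj ⟨_, m⟩ ((orderOf_coe _).symm.trans (((MulAut.conj g).orderOf_eq _).trans
    ((orderOf_coe v).trans v2)))).trans (isConj_iff.2 ⟨g, ?_⟩).symm
  rw [← yv.eq.symm, mul_inv_rev, ← conj_mul, hg, ← mul_eq_one_iff_eq_inv.1 vv]

end H9.Sz
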