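import Cfsg.Agent.H96.U2ISpec

/-! S3275, chapter U2I: the subgroup `Ω₁ Z(Q)`. -/

set_option autoImplicit false

namespace H9.U2IYY

open Subgroup Cfsg H98 H48.DP H57.DPC H48.DP2 H96.U2I
open scoped commutatorElement

universe u

theorem jobYY : JobYY.{u} := by
  intro G _ _ M Q T R y c b hY
  obtain ⟨q0, hq0, hq1⟩ := c.nQ
  have hQ : IsPGroup 2 Q := c.syl.2.1.to_le c.QT
  have cQ : ∀ z ∈ Yq Q, ∀ g ∈ Q, Commute g z := fun z hz g hg => mem_centralizer_iff.1 hz.2.1 g hg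
  have cR : Yq Q ≤ Ce R := fun z hz => mem_centralizer_iff.2 fun r hr => by
    obtain ⟨a, ha, d, hd, rfl⟩ := b.gen r hr
    have h := c.fp.f2 z (hY hz) d hd.2
    rw [commutatorElement_eq_one_iff_commute.2 (cQ z hz d hd.1).symm, mul_one, inv_mul_cancel] at h
    exact ((cQ z hz a ha.1).mul_left (commutatorElement_eq_one_iff_commute.1 h).symm).eq
  have yC := normalizer_le_normalizer_centralizer R c.yR
  have c1 : ∀ z ∈ Yq Q, ∀ r ∈ R, Commute r (y * z * y⁻¹) := fun z hz r hr =>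
    mem_centralizer_iff.1 (conj_mem_of_mem_normalizer yC (cR hz)) r hr
  have cm : ∀ z ∈ Yq Q, ∀ q ∈ Q, q ∉ R → ⁅q, y * z * y⁻¹⁆ = z := fun z hz q hq hr => by
    have h1 : q * y * q⁻¹ * y * (y⁻¹ * z * y) = y⁻¹ * z * y * (q * y * q⁻¹ * y) :=
      mem_centralizer_iff.1 (conj_mem_of_mem_normalizer' yC (cR hz)) _ (c.inv q (c.QT hq) hr)
    have h2 : q * (y * z * y⁻¹) * q⁻¹ = y⁻¹ * z * y := by
      have h3 : q⁻¹ * z = z * q⁻¹ := (cQ z hz q hq).inv_left.eq
      calc q * (y * z * y⁻¹) * q⁻¹ = q * y * (z * q⁻¹) * (q * y * q⁻¹)⁻¹ := by group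
        _ = q * y * q⁻¹ * y * (y⁻¹ * z * y) * (q * y * q⁻¹ * y)⁻¹ := by rw [← h3]; group
        _ = _ := by rw [h1]; group
    have h4 : y * z * y⁻¹ * (y * z * y⁻¹) = 1 := by
      rw [show y * z * y⁻¹ * (y * z * y⁻¹) = y * (z * z) * y⁻¹ by group, hz.2.2]; group
    rw [commutatorElement_def, h2, eq_inv_of_mul_eq_one_right (c.fp.f1 z (hY hz)),
      (c1 z hz z (hY hz)).eq, mul_inv_rev, mul_assoc, ← mul_inv_rev, h4, inv_one, mul_one]
    exact inv_eq_of_mul_eq_one_right hz.2.2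
  have i1 : ∀ z ∈ Yq Q, y * z * y⁻¹ ∈ Yq Q → z = 1 := fun z hz h =>
    (cm z hz q0 hq0 hq1).symm.trans (commutatorElement_eq_one_iff_commute.2 (cQ _ h q0 hq0))
  refine ⟨hY, cR, fun z hz => ?_, cm, i1, ?_, fun v hv h d hd => ?_⟩
  · let K : Subgroup G :=
      { carrier := {m | m ∈ M ∧ (∀ g ∈ Q, ⁅m, g⁆ ∈ Yq Q) ∧ ∀ z ∈ Yq Q, Commute m z}
        one_mem' := ⟨one_mem _, fun g _ => by simp, fun z _ => Commute.one_left z⟩
        mul_mem' := fun {m n} hm hn => ⟨mul_mem hm.1 hn.1, fun g hg => by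
          rw [show ⁅m * n, g⁆ = m * ⁅n, g⁆ * m⁻¹ * ⁅m, g⁆ by simp only [commutatorElement_def]; group]
          exact mul_mem (Yq_conj (c.MQ hm.1) (hn.2.1 g hg)) (hm.2.1 g hg),
          fun z hz => (hm.2.2 z hz).mul_left (hn.2.2 z hz)⟩
        inv_mem' := fun {m} hm => ⟨inv_mem hm.1, fun g hg => by
          rw [show ⁅m⁻¹, g⁆ = m⁻¹ * ⁅m, g⁆⁻¹ * m⁻¹⁻¹ by simp only [commutatorElement_def]; group]
          exact Yq_conj (c.MQ (inv_mem hm.1)) (inv_mem (hm.2.1 g hg)),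
          fun z hz => (hm.2.2 z hz).inv_left⟩ }
    have cK : ∀ m ∈ M, ∀ k ∈ K, m * k * m⁻¹ ∈ K := fun m hm k hk =>
      ⟨mul_mem (mul_mem hm hk.1) (inv_mem hm), fun g hg => by
        rw [show ⁅m * k * m⁻¹, g⁆ = m * ⁅k, m⁻¹ * g * m⁆ * m⁻¹ by
          simp only [commutatorElement_def]; group]
        exact Yq_conj (c.MQ hm) (hk.2.1 _ (conj_mem_of_mem_normalizer' (c.MQ hm) hg)), fun w hw => by
        have := (hk.2.2 _ (Yq_conj (c.MQ (inv_mem hm)) hw)).eq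
        calc m * k * m⁻¹ * w = m * (k * (m⁻¹ * w * m⁻¹⁻¹)) * m⁻¹ := by group
          _ = w * (m * k * m⁻¹) := by rw [this]; group⟩
    refine c.o2 K (fun _ h => h.1) (fun m hm => mem_normalizer_iff.2 fun k => ⟨cK m hm k, fun h => ?_⟩)
      (fun k => ?_) (?_ : _ ∈ K)
    · simpa [mul_assoc] using cK _ (inv_mem hm) _ h
    · have h : k.1 * k.1 ∈ Q := c.cq (mem_centralizer_iff.2 fun g hg => by
        refine (commutatorElement_eq_one_iff_commute.1 ?_).symm.eq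
        rw [show ⁅k.1 * k.1, g⁆ = k.1 * ⁅k.1, g⁆ * k.1⁻¹ * ⁅k.1, g⁆ by
          simp only [commutatorElement_def]; group, (k.2.2.2 _ (k.2.2.1 g hg)).eq, mul_inv_cancel_right]
        exact (k.2.2.1 g hg).2.2)
      obtain ⟨n, hn⟩ := hQ ⟨_, h⟩
      refine ⟨n + 1, Subtype.ext ?_⟩
      rw [pow_succ', pow_mul, Subgroup.coe_pow, Subgroup.coe_pow, pow_two]
      exact congrArg Subtype.val hn
    · refine ⟨c.TM (c.RT (conj_mem_of_mem_normalizer c.yR (hY hz))), fun g hg => ?_,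
        fun w hw => (c1 z hz w (hY hw)).symm⟩
      by_cases hr : g ∈ R
      · rw [commutatorElement_eq_one_iff_commute.2 (c1 z hz g hr).symm]; exact one_mem _
      · rw [← commutatorElement_inv, cm z hz g hg hr]; exact inv_mem hz
  · haveI : Nontrivial Q := ⟨⟨⟨q0, hq0⟩, 1, fun e => hq1 (by
      rw [show q0 = 1 from congrArg Subtype.val e]; exact one_mem _)⟩⟩
    haveI := hQ.center_nontrivial
    obtain ⟨w, hw⟩ := exists_prime_orderOf_dvd_card' (G := center Q) 2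
      (((hQ.to_subgroup (center Q)).card_eq_or_dvd).resolve_left Finite.one_lt_card.ne')
    refine ⟨w.1.1, ⟨w.1.2, mem_centralizer_iff.2 fun g hg =>
      congrArg Subtype.val (mem_center_iff.1 w.2 ⟨g, hg⟩), ?_⟩, fun e => ?_⟩
    · have := pow_orderOf_eq_one w
      rw [hw, pow_two] at this
      exact congrArg (fun t : center Q => t.1.1) this
    · rw [show w = 1 from Subtype.ext (Subtype.ext e), orderOf_one] at hw
      exact absurd hw (by decide)
  · have h1 := h _ (b.dy d hd).1.1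
    rw [c.fp.f2 v hv.2 d hd.1.2] at h1
    have h2 := i1 _ h1 (by simpa [mul_assoc] using h d hd.1.1)
    exact commutatorElement_eq_one_iff_commute.1 (by simpa [mul_assoc] using congrArg (y * · * y⁻¹) h2)

end H9.U2IYY
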