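import Cfsg.Agent.H98.ZjSpec
import Cfsg.Agent.H11.QdSylow

/-! Tower ZJF: the jobs DK and TOR. -/

set_option autoImplicit false

namespace H9.Zj

open Subgroup Cfsg Matrix MatrixGroups H11 H98 H98.Zj
open scoped commutatorElement

universe u

section

variable {K : Type} [Field K] {g : SL(2, K)}

theorem eq_uMat (h : g 1 0 = 0) (h0 : g 0 0 = 1) : g = uMat (g 0 1) := by
  have hd := sl_det g
  rw [h, h0, mul_zero, sub_zero, one_mul] at hd
  apply sl_ext <;> simp [h, h0, hd]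

theorem le_uSub (p : ℕ) [Fact p.Prime] [_root_.CharP K p] {l : K} (hl : l ≠ 0) (P : Subgroup SL(2, K))
    (hP : IsPGroup p P) (h : uMat l ∈ P) : P ≤ uSub K := fun g hg => by
  have h1 : ∀ x ∈ P, tr x = 2 := fun x hx =>
    let ⟨k, hk⟩ := isPGroup_iff_forall.1 hP x hx; tr_eq_two_of_pow_eq_one p hk
  have h2 := h1 _ (mul_mem h hg)
  rw [tr_uMat_mul, h1 g hg, add_eq_left, mul_eq_zero] at h2
  have h3 := h2.resolve_left hl
  have h4 := sl_det g
  have h5 : g 0 0 + g 1 1 = 2 := h1 g hg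
  rw [h3] at h4
  have h6 : (g 0 0 - 1) ^ 2 = 0 := by linear_combination g 0 0 * h5 - h4
  exact ⟨_, (eq_uMat h3 (sub_eq_zero.1 (pow_eq_zero_iff two_ne_zero |>.1 h6))).symm⟩

theorem tr_conjSL (M : GL (Fin 2) K) (s : SL(2, K)) : tr (conjSL M s) = tr s := by
  rw [tr_eq_trace, tr_eq_trace]
  exact Matrix.trace_units_conj M _

theorem exists_prim (p : ℕ) [Fact p.Prime] : ∃ w : ZMod p, IsPrimitiveRoot w (p - 1) := by
  obtain ⟨g, hg⟩ := IsCyclic.exists_generator (α := (ZMod p)ˣ)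
  have h := orderOf_eq_card_of_forall_mem_zpowers hg
  rw [Nat.card_eq_fintype_card, ZMod.card_units] at h
  exact ⟨g, IsPrimitiveRoot.coe_units_iff.2 (h ▸ IsPrimitiveRoot.orderOf g)⟩

theorem prim_ne {p : ℕ} [Fact p.Prime] {w : ZMod p} (h : IsPrimitiveRoot w (p - 1)) : w ≠ 0 :=
  h.ne_zero (Nat.sub_ne_zero_of_lt (Fact.out : p.Prime).one_lt)

end

theorem jobDk : JobDk := by
  intro p _ K _ _ _ l hp hl
  refine ⟨le_uSub p hl, ?_⟩
  set G := closure ({uMat l, lMat 1} : Set SL(2, K)) with hG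
  have hu : uMat l ∈ G := subset_closure (by simp)
  obtain ⟨M, hM⟩ := dickson_embed p hp G hu (l := lMat 1) (subset_closure (by simp)) (tr_uMat l) (tr_lMat 1)
    (by rw [tr_uMat_mul, tr_lMat]; simpa using hl)
  let f : SL(2, ZMod p) →* SL(2, K) := (conjSL M).comp (SpecialLinearGroup.map (ZMod.castHom (dvd_refl p) K))
  have hf : ∀ s, f s ∈ G := hM
  have fi : Function.Injective f := (conjSL_injective M).comp (sl_map_injective _)
  have ft : ∀ s, tr (f s) = ZMod.castHom (dvd_refl p) K (tr s) := fun s => (tr_conjSL M _).trans (tr_map _ s)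
  constructor
  · have : f (-1) = -1 := (conjSL_eq_iff M _ _).2 (by
      have : (SpecialLinearGroup.map (ZMod.castHom (dvd_refl p) K) (-1 : SL(2, ZMod p))) = -1 := by
        apply sl_ext <;> simp
      rw [this]
      simp)
    exact this ▸ hf _
  obtain ⟨w, hw⟩ := exists_prim p
  have w0 := prim_ne hw
  let d : SL(2, ZMod p) := ⟨!![w, 0; 0, w⁻¹], by simp [det_fin_two, w0]⟩
  have pu : ∀ x : K, uMat x ^ p ^ 1 = 1 := fun x => by
    rw [uMat_pow, pow_one, CharP.cast_eq_zero, zero_mul, uMat_zero]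
  have pu' : f (uMat 1) ^ p ^ 1 = 1 := by
    rw [← map_pow, uMat_pow, pow_one, CharP.cast_eq_zero, zero_mul, uMat_zero, map_one]
  obtain ⟨P, hP, h1⟩ := exists_isSyl_le (isPGroup_zpowers (pu l)) (zpowers_le.2 hu)
  obtain ⟨g, hg, h2⟩ := hP.exists_cj_le (isPGroup_zpowers pu') (zpowers_le.2 (hf _))
  obtain ⟨m, hm⟩ := mem_uSub.1 (le_uSub p hl P hP.isPGroup (h1 (mem_zpowers _)) (h2 (conj_mem_cj (mem_zpowers _))))
  have m0 : m ≠ 0 := by
    rintro rfl
    rw [uMat_zero, eq_comm, conj_eq_one_iff, map_eq_one_iff f fi, ← uMat_zero] at hm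
    exact one_ne_zero (uMat_injective hm)
  have h3 : d * uMat 1 * d⁻¹ = uMat 1 ^ (w ^ 2).val := by
    rw [conj_uMat_of_10 (by simp [d]), uMat_pow, ZMod.natCast_zmod_val]
    simp [d]
  have h4 : g * f d * g⁻¹ * uMat m * (g * f d * g⁻¹)⁻¹ = uMat ((w ^ 2).val * m) := by
    rw [← uMat_pow, hm, conj_pow, ← map_pow, ← h3, map_mul, map_mul, map_inv]
    group
  have h5 : (g * f d * g⁻¹) 1 0 = 0 := by
    have := conj_uMat_10 m (g * f d * g⁻¹)
    rw [h4] at this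
    simpa [m0] using this
  have h6 := sl_det (g * f d * g⁻¹)
  have h7 := (tr_conj (f d) g).trans (ft d)
  have hh : g * f d * g⁻¹ ∈ G := mul_mem (mul_mem hg (hf d)) (inv_mem hg)
  generalize g * f d * g⁻¹ = h at h5 h6 h7 hh
  have h8 : tr d = w + w⁻¹ := by simp [d, tr]
  rw [h8, map_add, tr] at h7
  have h9 : ZMod.castHom (dvd_refl p) K w * ZMod.castHom (dvd_refl p) K w⁻¹ = 1 := by
    rw [← map_mul, mul_inv_cancel₀ w0, map_one]
  rw [h5] at h6
  have h10 : (h 0 0 - ZMod.castHom (dvd_refl p) K w) * (h 0 0 - ZMod.castHom (dvd_refl p) K w⁻¹) = 0 := by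
    linear_combination h 0 0 * h7 - h6 + h9
  rcases mul_eq_zero.1 h10 with e | e
  · exact ⟨w, hw, h, hh, h5, sub_eq_zero.1 e⟩
  · exact ⟨w⁻¹, hw.inv, h, hh, h5, sub_eq_zero.1 e⟩

theorem jobTor (j : JobDk) : JobTor.{u} := by
  intro p _ K _ _ _ l L _ _ ψ T a b hp hl hT ha ea eb
  obtain ⟨d1, -, w, hw, h, hh, h1, h2⟩ := j p K l hp hl
  have h3 : T ≤ (uSub K).comap ψ := map_le_iff_le_comap.1 (d1 _ (hT.isPGroup.map ψ) (ea ▸ mem_map_of_mem ψ ha))
  obtain ⟨g, rfl⟩ : h ∈ ψ.range := (closure_le _).2 (by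
    rintro _ (rfl | rfl)
    exacts [⟨a, ea⟩, ⟨b, eb⟩]) hh
  have h4 : g ∈ normalizer (((uSub K).comap ψ : Subgroup L) : Set L) :=
    le_normalizer_comap ψ (mem_normalizer_uSub h1)
  obtain ⟨t, ht, k, hk, e⟩ := (hT.of_le h3 le_top).frattini_mem h4
  obtain ⟨y, hy⟩ := mem_uSub.1 (inv_mem hk : k⁻¹ ∈ (uSub K).comap ψ)
  have h5 : ψ t = ψ g * uMat y := by rw [hy, ← map_mul, e, mul_inv_cancel_right]
  have h6 : ψ t 1 0 = 0 := by rw [h5, sl_mul_apply, h1]; simp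
  have h7 : ψ t 0 0 = ZMod.castHom (dvd_refl p) K w := by rw [h5, sl_mul_apply, h2]; simp
  by_cases hw2 : w ^ 2 = 1
  swap
  · exact ⟨w, hw, t, ht, h6, h7, fun e => (hw2 e).elim⟩
  have pu : ∀ x : K, uMat x ^ p = 1 := fun x => by
    rw [uMat_pow, CharP.cast_eq_zero, zero_mul, uMat_zero]
  rcases sq_eq_one_iff.1 hw2 with rfl | rfl
  · rw [map_one] at h7
    refine ⟨1, hw, 1, one_mem _, by simp, by simp, fun _ => by simp⟩
  · rw [map_neg, map_one] at h7
    have h8 : (-ψ t) 1 0 = 0 := by simp [h6]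
    have h9 : (-ψ t) 0 0 = 1 := by simp [h7]
    have h10 : ψ (t ^ p) = -1 := by
      rw [map_pow, ← neg_neg (ψ t), eq_uMat h8 h9, ((Fact.out : p.Prime).odd_of_ne_two hp).neg_pow, pu]
    refine ⟨-1, hw, t ^ p, pow_mem ht p, by simp [h10], by simp [h10], fun _ => by simp [h10]⟩

end H9.Zj
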