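import Cfsg.Agent.H9.ZjA
import Cfsg.Agent.H94.WeakClosed

/-! Tower ZJF: the jobs COV, C and Q1. -/

set_option autoImplicit false

namespace H9.Zj

open Subgroup Cfsg Matrix MatrixGroups H11 H98 H98.Zj
open scoped commutatorElement

universe u

section

variable {L : Type*} [Group L] {A : Type*} [AddCommGroup A] {B : Subgroup L} {φ : L → A}

theorem map_one' (h : ∀ x ∈ B, ∀ y ∈ B, φ (x * y) = φ x + φ y) : φ 1 = 0 := by
  simpa using h 1 B.one_mem 1 B.one_mem

theorem map_inv' (h : ∀ x ∈ B, ∀ y ∈ B, φ (x * y) = φ x + φ y) {x : L} (hx : x ∈ B) : φ x⁻¹ = -φ x := by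
  have := h x hx x⁻¹ (inv_mem hx)
  rw [mul_inv_cancel, map_one' h] at this
  exact (neg_eq_of_add_eq_zero_right this.symm).symm

theorem map_pow' (h : ∀ x ∈ B, ∀ y ∈ B, φ (x * y) = φ x + φ y) {x : L} (hx : x ∈ B) (n : ℕ) :
    φ (x ^ n) = n • φ x := by
  induction n with
  | zero => rw [pow_zero, map_one' h, zero_nsmul]
  | succ n ih => rw [pow_succ, h _ (pow_mem hx n) x hx, ih, succ_nsmul]

/-- the kernel of a map that is additive on `B` -/
def kerOn (B : Subgroup L) (φ : L → A) (h : ∀ x ∈ B, ∀ y ∈ B, φ (x * y) = φ x + φ y) : Subgroup L where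
  carrier := {x | x ∈ B ∧ φ x = 0}
  one_mem' := ⟨B.one_mem, map_one' h⟩
  mul_mem' := fun {x y} hx hy => ⟨mul_mem hx.1 hy.1, by rw [h x hx.1 y hy.1, hx.2, hy.2, add_zero]⟩
  inv_mem' := fun {x} hx => ⟨inv_mem hx.1, by rw [map_inv' h hx.1, hx.2, neg_zero]⟩

end

/-- the upper triangular matrices -/
def bor (K : Type) [Field K] : Subgroup SL(2, K) where
  carrier := {g | g 1 0 = 0}
  one_mem' := by simp
  mul_mem' := fun {x y} hx hy => by
    change (x * y) 1 0 = 0
    rw [sl_mul_apply, show x 1 0 = 0 from hx, show y 1 0 = 0 from hy]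
    simp
  inv_mem' := fun {x} hx => by
    change x⁻¹ 1 0 = 0
    rw [sl_inv_10, show x 1 0 = 0 from hx, neg_zero]

theorem jobCov (j : JobDk) : JobCov.{u} := by
  intro p _ K _ _ _ l L _ _ φ ψ T Z a b hp hl hT hU ha ea eb R
  obtain ⟨d1, d2, -⟩ := j p K l hp hl
  by_contra hn
  push Not at hn
  set B := ⁅normalClosure (Z : Set L), res p (⊤ : Subgroup L)⁆ with hB
  have h1 : T ≤ (bor K).comap ψ := fun x hx => by
    obtain ⟨y, hy⟩ := mem_uSub.1 (d1 _ (hT.isPGroup.map ψ) (ea ▸ mem_map_of_mem ψ ha) (mem_map_of_mem ψ hx))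
    change ψ x 1 0 = 0
    rw [← hy]
    simp
  have h2 : (bor K).comap ψ ≤ normalizer (Z : Set L) := hU.le_of_ne h1 le_top fun e => by
    have : ψ b 1 0 = 0 := e.ge (mem_top b)
    rw [eb] at this
    simp at this
  obtain ⟨g, hg⟩ : (-1 : SL(2, K)) ∈ ψ.range := (closure_le _).2 (by
    rintro _ (rfl | rfl)
    exacts [⟨a, ea⟩, ⟨b, eb⟩]) d2
  obtain ⟨k, hk⟩ := exists_pow_mem_res (p := p) (mem_top g)
  have h3 : ψ (g ^ p ^ k) = -1 := by
    rw [map_pow, hg, (((Fact.out : p.Prime).odd_of_ne_two hp).pow).neg_one_pow]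
  generalize g ^ p ^ k = s at hk h3
  haveI := R.nor
  let Y := kerOn B φ R.add
  haveI : Y.Normal := ⟨fun x hx g => ⟨R.nor.conj_mem x hx.1 g, by rw [R.act g x hx.1, hx.2, mulVec_zero]⟩⟩
  have h4 : normalClosure (Z : Set L) ≤ (centralizer {(s : L ⧸ Y)}).comap (QuotientGroup.mk' Y) := by
    refine (closure_le _).2 fun x hx => ?_
    obtain ⟨z, hz, e⟩ := Group.mem_conjugatesOfSet_iff.1 hx
    obtain ⟨c, rfl⟩ := isConj_iff.1 e
    have h5 : c⁻¹ * s * c ∈ res p (⊤ : Subgroup L) :=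
      conj_mem_of_mem_normalizer' (self_le_normalizer_res ⊤ (mem_top c)) hk
    have h6 : c⁻¹ * s * c ∈ normalizer (Z : Set L) := h2 (by
      change ψ (c⁻¹ * s * c) 1 0 = 0
      rw [map_mul, map_mul, h3, mul_neg, mul_one, neg_mul, ← map_mul, inv_mul_cancel, map_one]
      simp)
    have h7 : ⁅z, c⁻¹ * s * c⁆ ∈ B := commutator_mem_commutator (subset_normalClosure hz) h5
    have h8 : ⁅z, c⁻¹ * s * c⁆ ∈ Z := by
      rw [commutatorElement_def, mul_assoc, mul_assoc, ← mul_assoc _ z⁻¹]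
      exact mul_mem hz (conj_mem_of_mem_normalizer h6 (inv_mem hz))
    have h9 : ⁅c * z * c⁻¹, s⁆ ∈ Y := by
      have := (inferInstance : Y.Normal).conj_mem _ ⟨h7, hn _ h8 h7⟩ c
      convert this using 1
      simp only [commutatorElement_def]
      group
    refine mem_centralizer_singleton_iff.2 (commutatorElement_eq_one_iff_mul_comm.1 ?_)
    rw [← QuotientGroup.eq_one_iff] at h9
    exact (map_commutatorElement (QuotientGroup.mk' Y) _ _).symm.trans h9
  obtain ⟨x, hx, e⟩ := R.surj ![1, 0]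
  have h5 : ⁅x, s⁆ ∈ Y := by
    rw [← QuotientGroup.eq_one_iff]
    exact (map_commutatorElement (QuotientGroup.mk' Y) _ _).trans (commutatorElement_eq_one_iff_mul_comm.2
      (mem_centralizer_singleton_iff.1 (h4 (commutator_le_left _ _ hx))))
  have h6 := h5.2
  rw [commutatorElement_def, mul_assoc, mul_assoc, ← mul_assoc s, R.add x hx _ (R.nor.conj_mem _ (inv_mem hx) s),
    R.act s _ (inv_mem hx), map_inv' R.add hx, h3, e] at h6
  have h7 : (2 : K) = 0 := by
    have := congrFun h6 0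
    simp at this
    linear_combination this
  exact hp ((Nat.prime_dvd_prime_iff_eq Fact.out Nat.prime_two).1 ((CharP.cast_eq_zero_iff K p 2).1 h7))

theorem jobC : JobC.{u} := by
  intro p hp G _ _ H X Z a t c hZ hc ht hn cZ ⟨u, v, w, D⟩
  have w0 := prim_ne D.gen
  let Z2 := Z ⊓ kerOn X v D.vadd
  have h1 : ∀ x ∈ Z2, t * x * t⁻¹ * (x ^ w.val)⁻¹ ∈ Z2 := fun x hx =>
    mul_mem ⟨conj_mem_of_mem_normalizer hn hx.1, D.fmem x hx.2.1,
      (mul_eq_zero.1 ((D.fv x hx.2.1).trans hx.2.2)).resolve_left w0⟩ (inv_mem (pow_mem hx _))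
  obtain ⟨y, hy, y1, e⟩ : ∃ y ∈ Z2, y ≠ 1 ∧ t * y * t⁻¹ = y ^ w.val := by
    have h2 : ¬ Function.Injective fun x : Z2 => (⟨_, h1 x x.2⟩ : Z2) := fun e => by
      obtain ⟨x, hx⟩ := Finite.injective_iff_surjective.1 e ⟨c, cZ, D.cmem, D.cv⟩
      have h3 := congrArg u (congrArg Subtype.val hx)
      have h4 := x.2.2.1
      dsimp only at h3
      rw [D.cu, D.uadd _ (D.fmem _ h4) _ (inv_mem (pow_mem h4 _)), D.fu _ h4, map_inv' D.uadd (pow_mem h4 _),
        map_pow' D.uadd h4, nsmul_eq_mul, ZMod.natCast_zmod_val, add_neg_cancel] at h3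
      exact zero_ne_one h3
    obtain ⟨x, y, e, hxy⟩ := Function.not_injective_iff.1 h2
    have e1 : t * x * t⁻¹ * ((x : G) ^ w.val)⁻¹ = t * y * t⁻¹ * ((y : G) ^ w.val)⁻¹ := congrArg Subtype.val e
    refine ⟨(y : G)⁻¹ * x, mul_mem (inv_mem y.2) x.2, fun f => hxy (Subtype.ext (inv_mul_eq_one.1 f).symm), ?_⟩
    rw [(show Commute (y : G)⁻¹ x from hc _ (inv_mem y.2.1) _ x.2.1).mul_pow, inv_pow]
    calc t * ((y : G)⁻¹ * x) * t⁻¹ = (t * y * t⁻¹)⁻¹ * (t * x * t⁻¹ * ((x : G) ^ w.val)⁻¹) * x ^ w.val := by group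
      _ = _ := by rw [e1]; group
  have h2 : zpowers y ≤ Z := zpowers_le.2 hy.1
  obtain ⟨⟨z, hz⟩, o⟩ := exists_prime_orderOf_dvd_card' (G := zpowers y) p
    ((hZ.to_le h2).card_eq_or_dvd.resolve_left (by rw [card_eq_one, zpowers_eq_bot]; exact y1))
  rw [orderOf_mk] at o
  have h3 : t * z * t⁻¹ = z ^ w.val := by
    obtain ⟨k, rfl⟩ := hz
    dsimp only
    rw [← conj_zpow, e, ← _root_.zpow_natCast, ← _root_.zpow_natCast, ← _root_.zpow_mul, ← _root_.zpow_mul, mul_comm]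
  have h4 : Nat.card (zpowers z) = p := by rw [Nat.card_zpowers, o]
  refine ⟨zpowers z, (zpowers_le.2 hz).trans h2, h4, ?_⟩
  have h5 : t ∈ normalizer (zpowers z : Set G) := mem_normalizer_of_cj_le (by
    rw [cj, MonoidHom.map_zpowers]
    exact zpowers_le.2 (h3 ▸ pow_mem (mem_zpowers z) _ : t * z * t⁻¹ ∈ zpowers z))
  let ρ : ↥(H ⊓ normalizer (zpowers z : Set G)) →* MulAut (zpowers z) :=
    (zpowers z).normalizerMonoidHom.comp (inclusion inf_le_right)
  have h6 : ρ.ker = (H ⊓ centralizer (zpowers z : Set G)).subgroupOf (H ⊓ normalizer (zpowers z : Set G)) := by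
    ext g
    rw [mem_subgroupOf, MonoidHom.mem_ker]
    refine ⟨fun f => ⟨g.2.1, fun x hx => ?_⟩, fun f => MulEquiv.ext fun x => Subtype.ext ?_⟩
    · have : (g : G) * x * (g : G)⁻¹ = x := congrArg Subtype.val (DFunLike.congr_fun f (⟨x, hx⟩ : zpowers z))
      exact (mul_inv_eq_iff_eq_mul.1 this).symm
    · exact mul_inv_eq_iff_eq_mul.2 (f.2 x x.2).symm
  rw [relIndex, ← h6]
  refine Nat.dvd_antisymm ?_ (D.gen.dvd_of_pow_eq_one _ ?_)
  · rw [index_ker, ← Nat.totient_prime hp.out, ← h4, ← IsCyclic.card_mulAut]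
    exact card_subgroup_dvd_card _
  · have h7 := ρ.ker.pow_index_mem ⟨t, ht, h5⟩
    generalize ρ.ker.index = n at h7
    have h8 : t ^ n * z * (t ^ n)⁻¹ = z :=
      congrArg Subtype.val (DFunLike.congr_fun h7 (⟨z, mem_zpowers z⟩ : zpowers z))
    have h9 : ∀ n : ℕ, t ^ n * z * (t ^ n)⁻¹ = z ^ w.val ^ n := fun n => by
      induction n with
      | zero => simp
      | succ n ih =>
        rw [pow_succ', pow_succ' w.val, pow_mul, ← h3, conj_pow, ← ih]
        group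
    have h10 : w.val ^ n ≡ 1 [MOD p] := by
      have : w.val ^ n ≡ 1 [MOD orderOf z] := by rw [← pow_eq_pow_iff_modEq, ← h9, h8, pow_one]
      rwa [o] at this
    have := (ZMod.natCast_eq_natCast_iff _ _ _).2 h10
    rwa [Nat.cast_pow, ZMod.natCast_zmod_val, Nat.cast_one] at this

theorem jobQ1 : JobQ1.{u} := by
  intro p _ G _ _ T K Z hT hK hZ Z0 hn hJ hW hKZ
  have hQ := self_le_normalizer_pCoreOf (p := p) K
  have h1 : K ≤ normalizer ((pCoreOf p K ⊓ centralizer (pCoreOf p K : Set G) : Subgroup G) : Set G) :=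
    le_normalizer_inf hQ (le_normalizer_centralizer hQ)
  refine ⟨pCoreOf p K ⊓ centralizer (pCoreOf p K : Set G), inf_le_left.trans hT.pCoreOf_le, h1, fun h => ?_, ?_⟩
  · refine hKZ ((le_inf le_rfl h).trans (hW _ inf_le_right (fun e => ?_) (hT.le.trans h)))
    refine inf_centralizer_ne_bot (hT.isPGroup.to_le hZ) hT.isPGroup hn Z0 (eq_bot_iff.2 (le_trans ?_ e.le))
    exact le_inf (le_inf ((inf_le_inf_right _ (hZ.trans hT.le)).trans (hK.inf_centralizer_le hT.pCoreOf_le))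
      (inf_le_right.trans (centralizer_anti hT.pCoreOf_le))) inf_le_left
  · obtain ⟨P, rfl⟩ := hT.exists_sylow_map
    obtain ⟨g, hg, g1, e⟩ := H94.exists_quadratic_thompsonA P fun h => hKZ (le_trans (le_inf le_rfl (by
      rw [H13.thompsonSubgroupAOf_eq, H13.sSup_maxAb_map K.subtype_injective.injOn, ← H13.thompsonSubgroupAOf_eq]
      exact le_normalizer_map_subtype _)) hJ)
    refine ⟨g, mem_map_of_mem _ hg, fun f => g1 ((mem_map_iff_mem K.subtype_injective).1 f), ?_⟩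
    have := congrArg (map K.subtype) e
    rw [map_commutator, map_commutator, MonoidHom.map_zpowers, Subgroup.map_bot, FusionSystem.centralizerIn,
      map_inf_centralizer K.subtype_injective] at this
    exact this

end H9.Zj
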